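import Cfsg.Agent.GW.QG1
import Cfsg.Agent.S0106

/-! `Q`-groups with quasi-dihedral or wreathed Sylow 2-subgroups. -/

set_option autoImplicit false
set_option linter.unusedVariables false
set_option linter.unusedSectionVars false

namespace Cfsg.Agent.GW

open Cfsg Cfsg.Agent.BG Cfsg.Agent.Dih Subgroup PHom Cfsg.Agent.Class
open Cfsg.Agent.Inv (ord2_iff sq_of_ord2 ne_one_of_ord2)
open scoped commutatorElement MatrixGroups

universe u

variable {G : Type u} [Group G] [Finite G] {S K L : Subgroup G}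

/-- the derived subgroup -/
abbrev DD (G : Type u) [Group G] : Subgroup G := ⁅(⊤ : Subgroup G), (⊤ : Subgroup G)⁆

/-- isomorphic to `SL₂(q)`, `q` odd -/
def IsSL (L : Subgroup G) : Prop :=
  ∃ (F : Type) (_ : Field F) (_ : Fintype F), Odd (Fintype.card F) ∧ Nonempty (L ≃* SL(2, F))

theorem UI.card (u : UI K) (h : ∀ c ∈ K, c * c = 1) : #K ∣ 2 := by
  by_cases e : K = ⊥
  · simp [e]
  obtain ⟨c, hc, c1⟩ := exists_mem_ne_one e
  rw [← ord2_iff.2 ⟨h c hc, c1⟩, ← card_zpowers']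
  exact cardS fun v hv => (mem_zp2 (h c hc)).2 (or_iff_not_imp_left.2 fun v1 => u v hv c hc (h v hv) (h c hc) v1 c1)

theorem equiv_of_section {X : Type*} [Group X] [Finite X] (h : Nat.card G ≤ Nat.card X) (f : K →* X)
    (hf : Function.Surjective f) : Nonempty (G ≃* X) := by
  have := Nat.card_le_card_of_surjective _ hf
  obtain rfl : K = ⊤ := eq_of_card_le le_top (by rw [card_top]; omega)
  exact ⟨topEquiv.symm.trans (MulEquiv.ofBijective f (hf.bijective_of_nat_card_le (by rwa [card_top])))⟩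

theorem two_ne {F : Type*} [Field F] [Fintype F] (h : Odd (Fintype.card F)) : (2 : F) ≠ 0 := fun e => by
  have := FiniteField.even_card_iff_char_two.1 ((CharP.ringChar_of_prime_eq_zero Nat.prime_two e))
  exact absurd (Nat.odd_iff.1 h) (by omega)

theorem IsSL.no2 (h : IsSL L) (M : Subgroup L) : M.index ≠ 2 := by
  obtain ⟨F, _, _, o, ⟨e⟩⟩ := h
  rw [← index_comap_of_surjective _ (f := e.symm.toMonoidHom) e.symm.surjective]
  exact sl2_index_ne_two (two_ne o) _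

theorem IsSL.cases (h : IsSL L) : 24 ≤ #L ∧ (Sol L ∨ ⁅L, L⁆ = L) := by
  obtain ⟨F, _, _, o, ⟨e⟩⟩ := h
  have c := (Nat.card_congr e.toEquiv).trans card_SL2
  have h1 : 1 < Fintype.card F := Fintype.one_lt_card
  have h2 : 3 ≤ Fintype.card F := by obtain ⟨k, o⟩ := o; omega
  refine ⟨c ▸ Nat.mul_le_mul h2 (Nat.le_sub_of_add_le (by nlinarith : 8 + 1 ≤ _)), ?_⟩
  rcases h2.eq_or_lt with h2 | h2
  · exact Or.inl (isSolvable_of_card_dvd_24 (by rw [c, ← h2]; norm_num))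
  · exact Or.inr (by rw [← map_subtype_commutator, commutator_eq_top_of_equiv e (SL2_perfect h2),
      map_subtype_top])

theorem qg (hS : Syl 2 S ⊤) (z : ZD S) (hO : O'[(⊤ : Subgroup G)] = ⊥) (hZ : Z[S] ≤ C[(⊤ : Subgroup G)])
    (nK : ⊤ ≤ N[K]) (iK : PiN {2} (K.relIndex ⊤)) (h2 : ∀ M : Subgroup K, M.index ≠ 2) (K1 : K ≠ ⊥)
    (u : UI K) : IsSL (DD G) ∧
      ∀ L : Subgroup G, ⊤ ≤ N[L] → IsSL L → L = DD G := by
  have p2 := Nat.prime_two
  have nZ : Z[S].Normal := normal_iff.2 (cents_norm (cent_symm hZ))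
  have cZ : Z[S] ≤ center G := fun c hc => mem_center_iff.2 fun g => mem_C.1 (hZ hc) g trivial
  have pZ : PiG {2} Z[S] := hS.pi.of_le inf_le_left
  obtain ⟨Y, _, _, π, kπ, sπ, hO'⟩ : ∃ (Y : Type u) (_ : Group Y) (_ : Finite Y) (π : G →* Y),
      π.ker = Z[S] ∧ Function.Surjective π ∧ O'[(⊤ : Subgroup Y)] = ⊥ :=
    ⟨_, _, inferInstance, QuotientGroup.mk' Z[S], QuotientGroup.ker_mk' _, QuotientGroup.mk'_surjective _, by
      rw [← pPrimeCore_eq p2] at hO ⊢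
      exact pPrimeCore_quotient_central hO cZ (pZ.pg p2)⟩
  have tπ := map_top_of_surjective _ sπ
  obtain ⟨x, y, l, d⟩ := z.dh π kπ
  have d := DH_dt d
  have hS' := tπ ▸ hS.map π
  have dg := d.dg hS'
  have k2 : ∀ c ∈ DD G ⊓ Z[S], c * c = 1 := fun c hc => z.der c hc.2
    (PLoc.mem_commutator_of_central hc.2.1 (cZ hc.2) hc.1 (relIndex_top_right S ▸ hS.coprime))
  have k4 : #(DD G ⊓ Z[S]) ∣ 2 := UI.card (fun a ha b hb => z.ui a ha.2 b hb.2) k2
  have k3 : ¬ S.map π ≤ K.map π := fun e => z.nle K (le_top.trans nK) u (kπ ▸ map_le_map_iff.1 e)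
  have k5 : ∀ L : Subgroup G, (∀ M : Subgroup L, M.index ≠ 2) → L ≤ K := fun L h =>
    inf_eq_left.1 (no2 h inf_le_left (normI (normG _) (le_top.trans nK)) (by
      rw [inf_relIndex_left]; exact iK.of_dvd (relIndex_dvd_of_norm le_top le_top (le_top.trans nK))))
  have nK' : ⊤ ≤ N[K.map π] := tπ ▸ norm_map nK π
  have iK' : PiN {2} ((K.map π).relIndex ⊤) := iK.of_dvd (by
    rw [relIndex_top_right, relIndex_top_right]; exact index_map_dvd _ sπ)
  have cm : ∀ A : Subgroup G, #(A ⊓ Z[S]) * #(A.map π) = #A := fun A => by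
    rw [← kπ, ← tot_ker, ← tot_im]; exact card_im_mul le_top
  have dm : (DD G).map π = DD _ := by rw [map_commutator, tπ]
  by_cases s : Sol (⊤ : Subgroup Y)
  · have cV := C_O_le (π := {2}) s hO'
    have pV := O_pig {2} (⊤ : Subgroup Y)
    have nV := O_norm {2} (⊤ : Subgroup Y)
    obtain ⟨g, hg, o, g1⟩ : ∃ g ∈ K, PiE {2}ᶜ g ∧ g ≠ 1 := by
      by_contra! e
      exact K1 (no2 h2 bot_le (norm_bot _) (by
        rw [relIndex_bot_left]
        exact pig_of_prime_elts fun x hx p => by_contra fun c => by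
          simp [e x hx ((pin_prime p).2 c), Nat.not_prime_one] at p)).symm
    have kV := (dg.odd_or pV (nV (mem_top (π g))) (odd_iff.1 (o.map π))).resolve_left fun e =>
      g1 ((pZ.elt (kπ ▸ (pV.elt (cV ⟨trivial, e⟩)).eq_one (o.map π))).eq_one o)
    have c1 : #(⊤ : Subgroup Y) ∣ 4 * 6 := by
      rw [← card_mul_relIndex (O_le {2} ⊤), kV.card_four]
      exact Nat.mul_dvd_mul_left _ ((relIndex_dvd_left ((top_inf_eq _).ge.trans cV) _).trans (Inv.kf_relIndex_dvd_six kV nV))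
    have c2 := card_mul_relIndex (le_top : K.map π ≤ ⊤)
    obtain ⟨i, c3⟩ : 2 ∣ (K.map π).relIndex ⊤ := by_contra fun e => k3 (le_top.trans (relIndex_eq_one.1
      (Core.IsPiNum.eq_one iK' ((pin_compl p2).2 e))))
    have c4 : #(K.map π) * i ∣ 12 := Nat.dvd_of_mul_dvd_mul_left two_pos (by
      rwa [← c2, c3, mul_left_comm] at c1)
    have c5 : #(K ⊓ Z[S]) ∣ 2 := (cardS (le_inf (((pZ.of_le inf_le_right).le_of_idx (der_norm K)
      inf_le_left (odd_ab h2)).trans (derS le_top)) inf_le_right)).trans k4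
    have c6 : #K ≤ 24 := cm K ▸ Nat.mul_le_mul (Nat.le_of_dvd two_pos c5)
      (Nat.le_of_dvd (by norm_num) (Dvd.dvd.trans (Dvd.intro _ rfl) c4))
    have np : ¬ PNil 2 K := fun e => K1 (eq_bot_iff.2 (hO ▸ le_O le_top nK
      (no2 h2 (O_le _ _) (O_norm _ _) (by simpa using e.idx) ▸ O_pig _ _)))
    obtain ⟨T⟩ : Nonempty (Sylow 2 K) := inferInstance
    obtain ⟨-, n, hn⟩ := (Core.isCyclic_or_quaternion_of_unique T.2 fun a b ha hb b1 => (mem_zp2
      (by rwa [← pow_two])).2 (or_iff_not_imp_left.2 fun a1 => Subtype.ext (Subtype.ext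
      (u _ a.1.2 _ b.1.2 (by rw [← pow_two]; exact congrArg (·.1.1) ha) (by rw [← pow_two]; exact congrArg (·.1.1) hb)
        (by simpa using a1) (by simpa using b1))))).resolve_left fun c =>
      np (cyc_min_pnil p2 (syl_map p2 T) (Cyc.map c _) fun q hq _ => hq.two_le)
    obtain ⟨A, B, _, ⟨e⟩⟩ := (S0106.result T _ (Nat.le_add_left 1 n) hn).resolve_left
      fun c => np ((pnil_iff p2).1 c)
    have sl : IsSL K := ⟨ZMod 3, inferInstance, inferInstance, by decide, equiv_of_section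
      (by rw [card_SL2]; exact c6) (e.toMonoidHom.comp (QuotientGroup.mk' _))
      (e.surjective.comp (QuotientGroup.mk'_surjective _))⟩
    have c7 := c6.antisymm sl.cases.1
    have c8 : #(K.map π) = 12 ∧ i = 1 := by
      have := cm K
      have := Nat.le_of_dvd two_pos c5
      have := Nat.le_of_dvd (by norm_num) c4
      have := Nat.pos_of_mul_pos_left (Nat.pos_of_dvd_of_pos c4 (by norm_num))
      constructor <;> nlinarith
    rw [c8.2] at c3
    have c9 : DD Y ≤ K.map π :=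
      commutator_le_of_index_two (by rw [← relIndex_top_right, c3])
    have ca : 3 ∣ #(DD G) := Dvd.dvd.trans (by_contra fun e => by
      have := le_O le_top (der_norm _) (fun p hp h => by
        have := (Nat.Prime.dvd_mul hp).1 (h.trans ((cardS c9).trans (c8.1.trans (by norm_num : 12 = 2 ^ 2 * 3)).dvd))
        exact this.elim (fun h => (Nat.prime_dvd_prime_iff_eq hp p2).1 (hp.dvd_of_dvd_pow h))
          fun h' => absurd (((Nat.prime_dvd_prime_iff_eq hp Nat.prime_three).1 h') ▸ h) e : PiG {2} _)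
      have := (hS'.dvd_of_pin (pin_pow_self p2 3) (by rw [← c2, c3, c8.1]; norm_num)).trans
        (cardS (le_O le_top (norm_of_der_le (this.trans hS'.O_le) le_top) hS'.pi))
      rw [kV.card_four] at this
      omega) (dm ▸ card_map_dvd _ _)
    have e : K = DD G := by
      obtain ⟨c, hc, c3⟩ := cauchy Nat.prime_three ca
      have a1 : 3 ∣ #(DD G ⊓ K) := c3 ▸ orderOf_dvd ⟨hc, mem_of_cop_relIndex nK trivial
        (PiN.coprime' (by rw [c3]; exact odd_iff.2 (by decide)) iK)⟩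
      obtain ⟨j, a1⟩ := a1
      have a2 := card_inf_mul_relIndex (DD G) K
      have a3 := (odd_ab h2).of_dvd (relIndex_dvd_left (derS (le_top (a := K))) K)
      refine eq_of_card_le (relIndex_eq_one.1 (Core.IsPiNum.eq_one ((pin_pow_self p2 3).of_dvd
        (Dvd.intro_left j (by rw [a1, c7] at a2; linarith))) a3)) ?_
      rw [← cm (DD G), c7, dm]
      exact Nat.mul_le_mul (Nat.le_of_dvd two_pos k4) ((card_le c9).trans_eq c8.1)
    exact e ▸ ⟨sl, fun L _ h => eq_of_card_le (k5 L h.no2) (c6.trans h.cases.1)⟩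
  obtain ⟨E, n, c, si, ns, pf⟩ := dg.exists_E hO' s
  obtain ⟨P, hP⟩ := syl_exists p2 E
  obtain ⟨t, a, _, _, e⟩ := dg.exists_dt hP ns
  have na : ¬ ∀ a b : E, a * b = b * a := fun c => ns (Abel.sol (abel_of ⟨⟨c⟩⟩))
  have pE := (Comp.qs_of_simple si fun c => na c.1.1).perfect
  obtain ⟨F, _, _, o, h3, ⟨f⟩⟩ := (gw_simple si na (e.subtype hP.le) (Syl.subgroupOf' hP)).resolve_right
    fun ⟨f⟩ => k3 ((d.le_of ((exists_A7T d hS' n f).inn _ d.oa) ((exists_A7T d hS' n f).inn _ d.ob)).trans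
      (inf_eq_left.1 (no2 (index_ne_two pE) inf_le_left (normI (normG _) (le_top.trans nK')) (by
      rw [inf_relIndex_left]; exact iK'.of_dvd (relIndex_dvd_of_norm le_top le_top (le_top.trans nK'))))))
  have md : MdE E := ⟨dg, normal_iff.1 n, c, si, ns, pf, Or.inl (exists_LT d hS' n c o h3 f)⟩
  obtain ⟨φ, ψ, m⟩ := exists_Md (two_ne o) c f
  obtain ⟨θ, hθ⟩ := lift_SL sπ (kπ ▸ cZ) (kπ ▸ pZ) m o h3
  have r1 : θ.range.map π = E := by rw [MonoidHom.map_range, ← m.range]; exact congrArg _ (MonoidHom.ext hθ)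
  have r2 : ⁅θ.range, θ.range⁆ = θ.range := by
    rw [MonoidHom.range_eq_map, ← map_commutator, ← _root_.commutator_def, SL2_perfect h3]
  have r3 : θ (-1) ≠ 1 := fun h => by
    have k : ∀ v ∈ E, orderOf v = 2 → ∃ w ∈ K, π w = v ∧ w * w = 1 ∧ w ≠ 1 := fun v hv v2 => by
      obtain ⟨A, rfl⟩ := m.range.ge hv
      refine ⟨θ A, k5 _ (index_ne_two r2) ⟨A, rfl⟩, hθ A, ?_, fun e => ne_one_of_ord2 v2 (by
        rw [← hθ, e, map_one])⟩
      rw [← map_mul]
      rcases m.eq.1 ((map_one φ).trans (sq_of_ord2 v2).symm |>.trans (map_mul _ _ _).symm) with e | e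
      exacts [by rw [e, map_one], by rw [e, h]]
    obtain ⟨v, v1, v2, v3, v4⟩ := k t (hP.le e.tS) e.ot
    obtain ⟨w, w1, w2, w3, w4⟩ := k a (hP.le e.aS) e.oa
    exact e.ant (by rw [← v2, ← w2, u v v1 w w1 v3 w3 v4 w4])
  have r4 : Function.Injective θ := (injective_iff_map_eq_one _).2 fun A h =>
    (m.eq.1 (by rw [← hθ A, h, map_one, map_one])).resolve_right fun e => r3 (e ▸ h)
  have r5 : θ.range = DD G := le_antisymm (r2.ge.trans (derS le_top)) (by
    have : DD G ≤ θ.range ⊔ Z[S] := kπ ▸ map_le_map_iff.1 (by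
      rw [dm, r1]; exact comm_le_iff.2 fun a _ b _ => m.comm_mem a b)
    rw [← inf_eq_right.2 this, modl_l (cents_norm (hZ.trans (centS le_top))) (r2.ge.trans (derS le_top))]
    refine sup_le le_rfl fun v hv => ?_
    by_cases v1 : v = 1
    · exact v1 ▸ one_mem _
    · exact ⟨-1, z.ui _ (kπ ▸ (hθ _).trans ((m.neg 1).trans (map_one φ))) v hv.1 (by simp [← map_mul])
        (k2 v hv.symm) r3 v1⟩)
  refine r5 ▸ ⟨⟨F, _, _, o, ⟨(MonoidHom.ofInjective r4).symm⟩⟩, fun L nL h => ?_⟩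
  have a1 : E ≤ L.map π := md.le_of_norm (le_top.trans (tπ ▸ norm_map nL π)) fun e => by
    rw [no2 h.no2 bot_le (norm_bot _) (by
      rw [relIndex_bot_left]; exact pZ.of_le (kπ ▸ (Subgroup.map_eq_bot_iff _).1 e)) |>.symm] at h
    simpa using h.cases.1
  have a2 := h.cases.2.resolve_left fun s => ns ((s.map π).of_le a1)
  refine le_antisymm (r5 ▸ a2.ge.trans (derS le_top)) (r2.ge.trans ((derS (kπ ▸ map_le_map_iff.1
    (r1.trans_le a1))).trans ?_))
  have := hZ.trans (centS (le_top (a := L)))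
  rw [comm_sup_cent (hZ.trans (centS le_top)) (cents_norm this), commC, comm_sup_cent this (cents_norm this)]
  exact der_le L

theorem ui_of (h : ∀ P : Sylow 2 K, ∃ m : ℕ, 1 ≤ m ∧ Nonempty ((P : Subgroup K) ≃* QuaternionGroup (2 ^ m)))
    (P : Subgroup G) (hP : Syl 2 P K) : UI P ∧ P ≠ ⊥ := by
  obtain ⟨T, rfl⟩ := hP.exists_sylow Nat.prime_two
  obtain ⟨m, hm, ⟨e⟩⟩ := h T
  obtain ⟨m, rfl⟩ : ∃ k, m = k + 1 := ⟨m - 1, by omega⟩
  refine ⟨?_, fun c => ?_⟩
  · rintro _ ⟨a, ha, rfl⟩ _ ⟨b, hb, rfl⟩ a2 b2 a1 b1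
    have k : ∀ a (ha : a ∈ T), K.subtype a * K.subtype a = 1 → K.subtype a ≠ 1 → orderOf (e ⟨a, ha⟩) = 2 :=
      fun a ha h1 h2 => by rw [MulEquiv.orderOf_eq, orderOf_mk, ← orderOf_coe]; exact ord2_iff.2 ⟨h1, h2⟩
    have := (Nat.card_eq_one_iff_unique.1 (S0218.result m)).1.elim ⟨_, k a ha a2 a1⟩ ⟨_, k b hb b2 b1⟩
    exact congrArg (·.1.1) (e.injective (congrArg Subtype.val this))
  · have := Nat.card_congr e.toEquiv
    rw [← card_map_inj K.subtype_injective, c, Nat.card_eq_fintype_card (α := QuaternionGroup _),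
      QuaternionGroup.card, card_bot'] at this
    omega

theorem ui_of_syl (hS : Syl 2 S ⊤) (hZ : Z[S] ≤ C[(⊤ : Subgroup G)]) (nK : ⊤ ≤ N[K])
    (h : ∀ P, Syl 2 P K → UI P ∧ P ≠ ⊥) : UI K ∧ K ≠ ⊥ := by
  have p2 := Nat.prime_two
  have h1 := hS.inf_norm' le_top nK
  obtain ⟨z, hz, z2⟩ := cauchy p2 (PiG.dvd (h1.pi.of_le inf_le_left) (h1.pi.meet_C hS.pi
    (normI (normG _) (le_top.trans nK)) (h _ h1).2))
  have k : ∀ v ∈ K, v * v = 1 → v ≠ 1 → v = z := fun v hv v2 v1 => by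
    obtain ⟨P, hP, e⟩ := syl_superset p2 (VV_le.2 ⟨hv, hz.1.2⟩) ((pig2 (ord2_iff.2 ⟨v2, v1⟩)).sup_l (pig2 z2)
      (zpowers_le.2 (C_le_N _ (centS le_top (hZ ⟨hz.1.1, hz.2⟩)))))
    exact (h P hP).1 v (e (l_mem_VV _ _)) z (e (r_mem_VV _ _)) v2 (sq_of_ord2 z2) v1 (ne_one_of_ord2 z2)
  exact ⟨fun a ha b hb a2 b2 a1 b1 => (k a ha a2 a1).trans (k b hb b2 b1).symm,
    ne_bot_of_mem hz.1.2 (ne_one_of_ord2 z2)⟩

theorem s1216 (S : Sylow 2 G) (hS : IsQuasiDihedral (S : Subgroup G) ∨ IsWreathed (S : Subgroup G))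
    (hO : oddCore G = ⊥) (hZ : Z[(S : Subgroup G)] ≤ C[(⊤ : Subgroup G)]) (nK : K.Normal) {a : ℕ}
    (iK : K.index ∣ 2 ^ a) (h2 : ∀ M : Subgroup K, M.index ≠ 2) (h : ∀ P, Syl 2 P K → UI P ∧ P ≠ ⊥) :
    IsSL (DD G) ∧ ∀ L : Subgroup G, ⊤ ≤ N[L] → IsSL L → L = DD G :=
  have p2 := Nat.prime_two
  have u := ui_of_syl (syl_top p2 S) hZ (normal_iff.1 nK) h
  qg (syl_top p2 S) (zd_of hS) ((pPrimeCore_eq p2).symm.trans hO) hZ (normal_iff.1 nK)
    ((pin_pow_self p2 a).of_dvd (by rwa [relIndex_top_right])) h2 u.2 u.1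

theorem s1240 (S : Sylow 2 G) (hS : IsQuasiDihedral (S : Subgroup G) ∨ IsWreathed (S : Subgroup G))
    (hw : ∀ Z₀ : Subgroup G, Z₀ ≤ (center (S : Subgroup G)).map (S : Subgroup G).subtype →
      IsWeaklyClosed Z₀ (S : Subgroup G)) (nK : K.Normal) {a : ℕ} (iK : K.index = 2 ^ a)
    (h2 : ∀ M : Subgroup K, M.index ≠ 2)
    (h : ∀ P : Sylow 2 K, ∃ m : ℕ, 1 ≤ m ∧ Nonempty ((P : Subgroup K) ≃* QuaternionGroup (2 ^ m))) :
    IsSL (DD (G ⧸ oddCore G)) := by
  have p2 := Nat.prime_two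
  set π := QuotientGroup.mk' (oddCore G)
  have sπ : Function.Surjective π := QuotientGroup.mk'_surjective _
  have f : QO ⊤ (tot π) := ⟨rfl, by rw [tot_ker, QuotientGroup.ker_mk']; exact pPrimeCore_eq p2, by
    rw [tot_im, map_top_of_surjective _ sπ]⟩
  have e : ∀ P : Subgroup G, PiG {2} P → Nonempty (P ≃* P.map π) := fun P hP =>
    ⟨tot_im π P ▸ PHom.equiv (φ := tot π) le_top (hP.inf_bot f.odd)⟩
  have i2 : ∀ P : Subgroup G, PiG {2} P → ∀ {v w}, v ∈ P → w ∈ P → π v = π w → v = w :=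
    fun P hP v w hv hw e => f.inj2 hP le_top hv hw (by rwa [tot_app, tot_app])
  have pS := (syl_top p2 S).pi
  obtain ⟨e1⟩ := e S pS
  refine (s1216 (S.mapSurjective sπ) (hS.imp (Inv.isQD_of_equiv e1) (Inv.isWR_of_equiv e1))
    ((pPrimeCore_eq p2).trans f.O_bot) ?_ (nK.map π sπ) (iK ▸ index_map_dvd _ sπ) (fun M hM => h2
      (M.comap (π.subgroupMap K)) (by rwa [index_comap_of_surjective _ (π.subgroupMap_surjective K)])) ?_).1
  · rintro _ ⟨⟨c, hc, rfl⟩, h1⟩ g -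
    obtain ⟨g, rfl⟩ := sπ g
    obtain ⟨o, ho, d, hd, rfl⟩ := s1215 S hS hw g
    rw [map_mul, (QuotientGroup.eq_one_iff o).2 ho |> (show π o = 1 from ·), one_mul, ← map_mul, ← map_mul]
    refine congrArg π (hd c ?_).symm
    rw [Comp.center_map_subtype]
    exact ⟨hc, fun s hs => i2 S pS (mul_mem hs hc) (mul_mem hc hs) (by
      rw [map_mul, map_mul]; exact h1 _ ⟨s, hs, rfl⟩)⟩
  · intro P hP
    obtain ⟨Q, hQ⟩ := syl_exists p2 K
    obtain ⟨_, ⟨g, hg, rfl⟩, rfl⟩ := Syl.conj (hQ.map π) p2 hP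
    have hQ := hQ.cj_mem hg
    have := ui_of h _ hQ
    rw [show BG.cj (π g) (Q.map π) = (BG.cj g Q).map π by
      rw [← tot_im, ← tot_im, im_cj (mem_top g), tot_app]]
    refine ⟨?_, fun c => this.2 (eq_bot_iff.2 fun v hv => i2 _ hQ.pi hv (one_mem _)
      ((c.le ⟨v, hv, rfl⟩).trans (map_one π).symm))⟩
    rintro _ ⟨v, hv, rfl⟩ _ ⟨w, hw, rfl⟩ v2 w2 v1 w1
    have k : ∀ v ∈ BG.cj g Q, π v * π v = 1 → v * v = 1 := fun v hv e =>
      i2 _ hQ.pi (mul_mem hv hv) (one_mem _) (by rw [map_mul, e, map_one])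
    rw [this.1 v hv w hw (k v hv v2) (k w hw w2) (by rintro rfl; simp at v1) (by rintro rfl; simp at w1)]

end Cfsg.Agent.GW
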