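import Cfsg.Agent.GW.C4

/-! The Gorenstein–Walter theorem. -/

set_option autoImplicit false
set_option linter.unusedVariables false
set_option linter.unusedSectionVars false

namespace Cfsg.Agent.GW

open Cfsg Cfsg.Agent.BG Cfsg.Agent.Dih Subgroup PHom
open Cfsg.Agent.Inv (ne_one_of_ord2)
open scoped commutatorElement

universe u

theorem Kn.congr {G H : Type*} [Group G] [Group H] (h : Kn G) (e : G ≃* H) : Kn H :=
  h.imp (fun ⟨F, i, j, a, b, ⟨f⟩⟩ => ⟨F, i, j, a, b, ⟨e.symm.trans f⟩⟩) fun ⟨f⟩ => ⟨e.symm.trans f⟩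

theorem ih_all (G : Type u) : IH G := by
  suffices h : ∀ n, ∀ G : Type u, Nat.card G ≤ n → IH G from h _ G le_rfl
  intro n
  induction n with
  | zero => exact fun G h Y _ _ e => absurd (e.trans_le h) (Nat.not_lt_zero _)
  | succ n ih =>
    intro G hG Y _ _ e hs nab S t a b l d hS
    by_contra nk
    refine MC.false ⟨d.gs hS fun H hH => ?_, hs, nab, nk, ih Y (by omega)⟩
    rcases (H.normal_of_index_eq_two hH).eq_bot_or_eq_top with rfl | rfl
    · have := card_le (le_top : S ≤ ⊤)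
      rw [index_bot] at hH
      rw [d.card, card_top, hH] at this
      have := d.lpos
      omega
    · simp at hH

variable {G : Type u} [Group G] [Finite G]

theorem gw_simple (hs : IsSimpleGroup G) (nab : ¬ ∀ a b : G, a * b = b * a) {S : Subgroup G}
    {t a b : G} {l : ℕ} (d : DT S t a b l) (hS : Syl 2 S ⊤) : Kn G :=
  ih_all (G ⊕ PUnit.{1}) G (by rw [Nat.card_sum]; exact Nat.lt_add_of_pos_right Nat.card_pos) hs nab S t a b l d hS

theorem gw_perfect (hp : ⁅(⊤ : Subgroup G), (⊤ : Subgroup G)⁆ = ⊤)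
    (hO : O'[(⊤ : Subgroup G)] = ⊥) {S : Subgroup G} {t a b : G} {l : ℕ} (d : DT S t a b l)
    (hS : Syl 2 S ⊤) : Kn G := by
  have ns : ¬ Sol (⊤ : Subgroup G) := fun s =>
    (s.der_lt (ne_bot_of_mem (mem_top t) (ne_one_of_ord2 d.ot))).ne hp
  obtain ⟨E, -, -, hs, -, e⟩ := (d.dg hS).exists_E hO ns
  obtain rfl := top_le_iff.1 (e ⊤ hp)
  exact gw_simple (topEquiv (G := G)).symm.isSimpleGroup
    (fun c => ns (Abel.sol (le_C_iff.2 fun x _ y _ => c x y))) d hS

theorem gw {X : Type u} [Group X] [Finite X] [Group.IsPerfect X] (S : Sylow 2 X) (n : ℕ)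
    (hn : 2 ≤ n) (hS : Nonempty ((S : Subgroup X) ≃* DihedralGroup n)) : Kn (X ⧸ oddCore X) := by
  obtain ⟨x, y, l, h, -⟩ := exists_DH S.isPGroup' hn hS.some
  have e : oddCore X = O'[(⊤ : Subgroup X)] := pPrimeCore_eq Nat.prime_two
  have f : QO ⊤ (tot (QuotientGroup.mk' (oddCore X))) := ⟨rfl, by
    rw [tot_ker, QuotientGroup.ker_mk', e], by
    rw [tot_im, ← MonoidHom.range_eq_map, MonoidHom.range_eq_top_of_surjective _
      (QuotientGroup.mk'_surjective _)]⟩
  exact gw_perfect (by rw [← f.top, ← im_der (f.le le_rfl), ← commutator_def,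
    Group.IsPerfect.commutator_eq_top]) f.O_bot ((DH_dt h).im (f.le le_top) f.odd)
    (f.top ▸ (syl_top Nat.prime_two S).im (f.le le_rfl))

end Cfsg.Agent.GW
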