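import Cfsg.Agent.GW.Mod

/-! The facts about `A₇ ⊴ Y`.

All involutions of `A₇` are conjugate to `v0 = (01)(23)`; elements of odd order of `C(v0)` lie in `⟨c0⟩`. -/

set_option autoImplicit false
set_option linter.unusedVariables false

namespace Cfsg.Agent.GW

open Cfsg Cfsg.Agent.BG Cfsg.Agent.Dih Subgroup PHom Equiv

namespace A7
def v0 : Perm (Fin 7) := swap 0 1 * swap 2 3
def w0 : Perm (Fin 7) := swap 0 2 * swap 1 3
def u0 : Perm (Fin 7) := swap 0 1 * swap 4 5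
def c0 : Perm (Fin 7) := swap 4 5 * swap 5 6

theorem chk : ∀ e : Fin 7, v0 e = e → ∀ f : Fin 7, v0 f = f → ∀ h : Fin 7, v0 h = h → ∀ a c : Fin 7, ∀ g : Fin 7 → Fin 7,
    g = ![a, v0 a, c, v0 c, e, f, h] → g.Injective → g^[12] = id ∧ (g^[3] = id → g = id ∨ g = c0 ∨ g = c0 ∘ c0) ∧
      (g ∘ u0 = u0 ∘ g → g^[4] = id) := by
  simp only [forall_eq]; decide +kernel

theorem cen {g : Perm (Fin 7)} (h : g * v0 = v0 * g) : g ^ 12 = 1 ∧ (g ^ 3 = 1 → g ∈ zpowers c0) ∧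
    (g * u0 = u0 * g → g ^ 4 = 1) := by
  have k : ∀ i, v0 (g i) = g (v0 i) := fun i => (DFunLike.congr_fun h i).symm
  obtain ⟨h1, h2, h3⟩ := chk (g 4) (k 4) (g 5) (k 5) (g 6) (k 6) (g 0) (g 2) g (by
    funext i; fin_cases i <;> first | rfl | exact (k 0).symm | exact (k 2).symm) g.injective
  simp only [Perm.iterate_eq_pow] at h1 h2 h3
  refine ⟨DFunLike.coe_injective h1, fun e => ?_, fun e => DFunLike.coe_injective (h3 (congrArg DFunLike.coe e))⟩
  rcases h2 (congrArg DFunLike.coe e) with e | e | e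
  · rw [show g = 1 from DFunLike.coe_injective e]; exact one_mem _
  · rw [show g = c0 from DFunLike.coe_injective e]; exact mem_zpowers _
  · rw [show g = c0 * c0 from DFunLike.coe_injective e]; exact mul_mem (mem_zpowers _) (mem_zpowers _)

/-- elements of odd order centralizing `u` lie in `⟨c⟩` -/
def R {G : Type*} [Group G] (u c : G) : Prop := ∀ g, g * u = u * g → Odd (orderOf g) → g ∈ zpowers c

theorem R.conj {G : Type*} [Group G] {u c : G} (h : R u c) (s : G) : R (s * u * s⁻¹) (s * c * s⁻¹) := fun g e o => by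
  obtain ⟨k, hk⟩ := mem_zpowers_iff.1 (h (s⁻¹ * g * s) (by
    rw [← mul_left_cancel_iff (a := s), ← mul_right_cancel_iff (a := s⁻¹)]; simpa [mul_assoc] using e)
    (by rwa [← Inv.orderOf_conj' s⁻¹ g, inv_inv] at o))
  exact ⟨k, by simp only [conj_zpow, hk]; group⟩

theorem R0 : R v0 c0 := fun g e o => (cen e).2.1 (orderOf_dvd_iff_pow_eq_one.1
  ((Nat.coprime_two_right.2 o).pow_right 2 |>.dvd_of_dvd_mul_left (orderOf_dvd_of_pow_eq_one (cen e).1)))

theorem data {v : Perm (Fin 7)} (h : orderOf v = 2) (s : Perm.sign v = 1) : ∃ w c, Perm.sign w = 1 ∧ Perm.sign c = 1 ∧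
    orderOf w = 2 ∧ w ≠ v ∧ w * v = v * w ∧ c * v = v * c ∧ c * w = w * c ∧ R v c ∧ R w c ∧ R (v * w) c := by
  have k : ∀ v : Perm (Fin 7), orderOf v = 2 → Perm.sign v = 1 → v.cycleType = {2, 2} := fun v h s => by
    obtain ⟨n, hn⟩ := Perm.cycleType_prime_order (σ := v) (h ▸ Nat.prime_two)
    have h1 := v.sum_cycleType_le
    rw [Perm.sign_of_cycleType] at s
    rw [hn, h] at h1 s ⊢
    simp at h1 s
    obtain rfl | rfl | rfl : n = 0 ∨ n = 1 ∨ n = 2 := by omega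
    · exact absurd s (by decide)
    · rfl
    · exact absurd s (by decide)
  have o : ∀ v : Perm (Fin 7), v * v = 1 ∧ v ≠ 1 → orderOf v = 2 := fun _ => Inv.ord2_iff.2
  obtain ⟨g, rfl⟩ := isConj_iff.1 (Perm.isConj_iff_cycleType_eq.2 ((k v0 (o _ (by decide)) (by decide)).trans (k v h s).symm))
  have r1 := (R0.conj (swap 1 2)).conj g
  have r2 := (R0.conj (swap 1 3)).conj g
  rw [show swap 1 2 * c0 * (swap 1 2)⁻¹ = c0 by decide, show swap 1 2 * v0 * (swap 1 2)⁻¹ = w0 by decide] at r1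
  rw [show swap 1 3 * c0 * (swap 1 3)⁻¹ = c0 by decide, show swap 1 3 * v0 * (swap 1 3)⁻¹ = v0 * w0 by decide] at r2
  refine ⟨g * w0 * g⁻¹, g * c0 * g⁻¹, ?_, ?_, (Inv.orderOf_conj' _ _).trans (o _ (by decide)), ?_, ?_, ?_, ?_, R0.conj g, r1,
    by rwa [conj_mul]⟩
  iterate 2 simp only [map_mul, Perm.sign_inv, mul_right_comm _ _ (Perm.sign g), Int.units_mul_self]; decide
  all_goals simp only [conj_mul, Ne, mul_left_inj, mul_right_inj]; decide
end A7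
open A7

theorem exists_A7T {Y : Type*} [Group Y] [Finite Y] {S : Subgroup Y} {t a b : Y} {l : ℕ}
    (h : DT S t a b l) (hS : Syl 2 S ⊤) {E : Subgroup Y} (hn : E.Normal)
    (e : E ≃* alternatingGroup (Fin 7)) : A7T E := by
  let φ : alternatingGroup (Fin 7) →* Y := E.subtype.comp e.symm.toMonoidHom
  have i : Function.Injective φ := E.subtype_injective.comp e.symm.injective
  have m : ∀ g, φ g ∈ E := fun g => (e.symm g).2
  have s : ∀ y ∈ E, ∃ g, φ g = y := fun y hy => ⟨e ⟨y, hy⟩, by simp [φ]⟩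
  have o : ∀ g, orderOf (φ g) = orderOf g.1 := fun g => by rw [orderOf_injective φ i, orderOf_coe]
  have cm : ∀ g k, φ g * φ k = φ k * φ g ↔ g.1 * k.1 = k.1 * g.1 := fun g k => by
    rw [← map_mul, ← map_mul, i.eq_iff, Subtype.ext_iff]; rfl
  have D : ∀ v ∈ E, orderOf v = 2 → ∃ w ∈ E, ∃ c, orderOf w = 2 ∧ w ≠ v ∧ w * v = v * w ∧ c ∈ C1[v] ⊓ C1[w] ∧
      ∀ u, u = v ∨ u = w ∨ u = v * w → ∀ g ∈ E ⊓ C1[u], Odd (orderOf g) → g ∈ zpowers c := fun v hv h2 => by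
    obtain ⟨v, rfl⟩ := s v hv
    obtain ⟨w, c, a1, a2, a3, a4, a5, a6, a7, r⟩ := data ((o v).symm.trans h2) v.2
    refine ⟨φ ⟨w, a1⟩, m _, φ ⟨c, a2⟩, (o _).trans a3, fun e => a4 (congrArg Subtype.val (i e)), (cm _ _).2 a5,
      ⟨mem_C1.2 ((cm _ _).2 a6), mem_C1.2 ((cm _ _).2 a7)⟩, fun u hu g hg og => ?_⟩
    obtain ⟨g, rfl⟩ := s g hg.1
    obtain ⟨u, rfl, ru⟩ : ∃ u', φ u' = u ∧ R u'.1 c := by
      rcases hu with rfl | rfl | rfl
      exacts [⟨_, rfl, r.1⟩, ⟨_, rfl, r.2.1⟩, ⟨_, map_mul φ _ _, r.2.2⟩]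
    obtain ⟨k, hk⟩ := mem_zpowers_iff.1 (ru g ((cm _ _).1 (mem_C1.1 hg.2)) (o g ▸ og))
    exact ⟨k, (map_zpow φ _ k).symm.trans (congrArg φ (Subtype.ext hk))⟩
  have inn : ∀ v, orderOf v = 2 → v ∈ E := by
    have key : ∀ {a b : Y}, DT S t a b l → b ∈ E := fun {a b} h => by
      by_contra n
      have c : ∀ V ≤ E, IsKleinFour V → ∃ g, cj g V = V4 (b * a) a l 0 := fun V hV k => by
        obtain ⟨g, -, e⟩ := hS.cj_sub Nat.prime_two (U := V) le_top (pig_of_card_pow (n := 2) Nat.prime_two k.card_four)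
        have k' : IsKleinFour (cj g V) := by
          have := (cjEquiv g V).symm
          exact ⟨by rw [Nat.card_congr this.toEquiv, k.card_four], by rw [Monoid.exponent_eq_of_mulEquiv this, k.exponent_two]⟩
        obtain ⟨j, e | e⟩ := h.dh.kf_conj k' e 0
        · exact ⟨((b * a) ^ j)⁻¹ * g, by rw [cj_mul]; exact (congrArg _ e.symm).trans (cj_inv_cj _ _)⟩
        · have : cj ((b * a) ^ j) (V4 (b * a) a l (0 + 1)) ≤ cj ((b * a) ^ j) E :=
            e.le.trans ((cj_mono g hV).trans (by rw [cj_of_mem_N (norm_of_normal ⊤ trivial), cj_of_mem_N (norm_of_normal ⊤ trivial)]))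
          exact absurd (cj_le_cj.1 this (by rw [zero_add, ← h.V2]; exact r_mem_VV _ _)) n
      let v : alternatingGroup (Fin 7) := ⟨v0, show Perm.sign _ = 1 by decide⟩
      let w : alternatingGroup (Fin 7) := ⟨w0, show Perm.sign _ = 1 by decide⟩
      let u : alternatingGroup (Fin 7) := ⟨u0, show Perm.sign _ = 1 by decide⟩
      let x : alternatingGroup (Fin 7) := ⟨c0, show Perm.sign _ = 1 by decide⟩
      have k : ∀ w : alternatingGroup (Fin 7), (w.1 * w.1 = 1 ∧ w.1 ≠ 1) ∧ v0 ≠ w.1 ∧ v0 * w.1 = w.1 * v0 →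
          ∃ g, cj g (VV (φ v) (φ w)) = V4 (b * a) a l 0 := fun w h => c _ (VV_le.2 ⟨m _, m _⟩)
        (Inv.kf_sup ((o _).trans (Inv.ord2_iff.2 (by decide))) ((o _).trans (Inv.ord2_iff.2 h.1))
          (fun e => h.2.1 (congrArg Subtype.val (i e))) ((cm _ _).2 h.2.2))
      obtain ⟨g1, e1⟩ := k w (by decide)
      obtain ⟨g2, e2⟩ := k u (by decide)
      have x1 : φ x ∈ C[VV (φ v) (φ w)] := by
        rw [C_VV]; exact ⟨mem_C1.2 ((cm _ _).2 (by decide)), mem_C1.2 ((cm _ _).2 (by decide))⟩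
      rw [← mem_cj_conj (g := g1), cj_C, e1, ← e2, ← cj_C, mem_cj, C_VV] at x1
      obtain ⟨y, hy⟩ := s _ (hn.conj_mem' _ (hn.conj_mem _ (m x) g1) g2)
      rw [← hy] at x1
      have y4 := congrArg φ (Subtype.ext ((cen ((cm _ _).1 (mem_C1.1 x1.1))).2.2 ((cm _ _).1 (mem_C1.1 x1.2))) : y ^ 4 = 1)
      rw [map_pow, hy, map_one, ← orderOf_dvd_iff_pow_eq_one, ← inv_inv g2, inv_inv g2⁻¹, Inv.orderOf_conj',
        Inv.orderOf_conj', o, orderOf_dvd_iff_pow_eq_one] at y4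
      exact absurd y4 (by decide)
    intro v hv
    obtain ⟨g, -, e⟩ := hS.cj_sub Nat.prime_two (U := zpowers v) le_top (pig2 hv)
    simpa [mul_assoc] using hn.conj_mem' _ (h.le_of (key h.symm) (key h) (e (mem_cj_conj.2 (mem_zpowers v)))) g
  have oo : ∀ {Q : Subgroup Y}, Odd #Q → ∀ y ∈ Q, Odd (orderOf y) := fun o y h => o.of_dvd_nat (orderOf_dvd_natCard _ h)
  refine ⟨inn, fun v hv Q hQ o => ?_, fun v hv Q o hQ => ?_⟩ <;>
    obtain ⟨w, w1, c, w2, w3, w4, hc, r⟩ := D v (inn v hv) hv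
  · exact (cyc_zpowers c).of_le fun g hg => r v (.inl rfl) g (hQ hg) (oo o g hg)
  refine ⟨w, w2, w3, w4, ?_⟩
  have k := Inv.kf_sup hv w2 w3.symm w4.symm
  have l1 : VV v w ≤ C1[v] := VV_le.2 ⟨mem_C1.2 rfl, mem_C1.2 w4⟩
  have ab : Abel (VV v w) := by rw [Abel, C_VV]; exact le_inf l1 (VV_le.2 ⟨mem_C1.2 w4.symm, mem_C1.2 rfl⟩)
  have cp : ∀ {L : Subgroup Y}, L ≤ Q → (#(VV v w)).Coprime #L := fun h => by
    rw [k.card_four]; exact (Nat.coprime_two_left.2 (o.of_dvd_nat (card_dvd_of_le h))).pow_left 2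
  rw [← C_VV] at hc ⊢
  refine cop_gen_cent1 ab (fun c => k.not_isCyclic c) (l1.trans hQ) (cp le_rfl) fun u hu u1 => ?_
  refine cop_stable (L := Q ⊓ C1[u] ⊓ E) (cp (inf_le_left.trans inf_le_left)) (le_inf (commL ?_) ?_)
    fun g hg => zpowers_le.2 hc (r u ?_ g ⟨hg.2, hg.1.2⟩ (oo o g hg.1.1))
  · exact normI (l1.trans hQ) (normC1 (le_C1_iff.2 (ab hu)))
  · exact (commS le_top (VV_le.2 ⟨inn v hv, w1⟩)).trans (commR (norm_of_normal _))
  · exact ((mem_VV (Inv.sq_of_ord2 hv) (Inv.sq_of_ord2 w2) w4).1 hu).resolve_left u1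

end Cfsg.Agent.GW
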