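import Mathlib

/-! Arithmetic of the degrees in the principal 2-block. -/

set_option autoImplicit false

namespace Cfsg.Agent.GW

theorem inv_le_of {x : ℤ} {c : ℕ} (hc : 0 < c) (h : x < 0 ∨ c ≤ x) : (x : ℚ)⁻¹ ≤ (c : ℚ)⁻¹ := by
  rcases h with h | h
  · exact (inv_nonpos.2 (by exact_mod_cast h.le)).trans (by positivity)
  · exact inv_anti₀ (by exact_mod_cast hc) (by exact_mod_cast h)

theorem neg_le_inv {x : ℤ} {c : ℕ} (hc : 0 < c) (h : 0 < x ∨ x ≤ -c) : -(c : ℚ)⁻¹ ≤ (x : ℚ)⁻¹ := by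
  have := inv_le_of (x := -x) hc (by omega)
  push_cast at this
  rw [inv_neg] at this
  linarith

theorem f_le {x y z : ℤ} (h : 1 + x + y + z = 0) (hx : Odd x) (hy : Odd y) (hz : Odd z) :
    1 + (x : ℚ)⁻¹ + (y : ℚ)⁻¹ + (z : ℚ)⁻¹ ≤ 8 / 3 := by
  obtain ⟨i, hi⟩ := hx
  obtain ⟨j, hj⟩ := hy
  obtain ⟨k, hk⟩ := hz
  have key : ∀ x y z : ℤ, 1 + x + y + z = 0 → x % 2 = 1 → y % 2 = 1 → z < 0 →
      1 + (x : ℚ)⁻¹ + (y : ℚ)⁻¹ + (z : ℚ)⁻¹ ≤ 8 / 3 := fun x y z h hx hy hz => by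
    have a1 := inv_le_of (x := x) one_pos (by omega)
    have b1 := inv_le_of (x := y) one_pos (by omega)
    have c0 : (z : ℚ)⁻¹ ≤ 0 := inv_nonpos.2 (by exact_mod_cast hz.le)
    by_cases h1 : x = 1
    · by_cases h2 : y = 1
      · obtain rfl : z = -3 := by omega
        subst h1 h2; norm_num
      · have := inv_le_of (x := y) three_pos (by omega)
        norm_num at this a1 b1; linarith
    · have := inv_le_of (x := x) three_pos (by omega)
      norm_num at this a1 b1; linarith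
  by_cases c : z < 0
  · exact key x y z h (by omega) (by omega) c
  by_cases c' : y < 0
  · have := key x z y (by omega) (by omega) (by omega) c'; linarith
  · have := key y z x (by omega) (by omega) (by omega) (by omega); linarith

theorem f_ge {x y z : ℤ} {c : ℕ} (hc : 0 < c) (h : 1 + x + y + z = 0) (hx : 0 < x ∨ x ≤ -c)
    (hy : 0 < y ∨ y ≤ -c) (hz : 0 < z ∨ z ≤ -c) :
    1 - 2 * (c : ℚ)⁻¹ ≤ 1 + (x : ℚ)⁻¹ + (y : ℚ)⁻¹ + (z : ℚ)⁻¹ := by
  have a := neg_le_inv hc hx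
  have b := neg_le_inv hc hy
  have d := neg_le_inv hc hz
  have p : ∀ w : ℤ, 0 < w → (0 : ℚ) ≤ (w : ℚ)⁻¹ := fun w hw => by positivity
  by_cases c1 : 0 < x
  · linarith [p x c1]
  by_cases c2 : 0 < y
  · linarith [p y c2]
  · linarith [p z (by omega)]

theorem f_ge3 {x y z : ℤ} (h : 1 + x + y + z = 0) (hx : 3 ≤ |x|) (hy : 3 ≤ |y|) (hz : 3 ≤ |z|) :
    8 / 15 ≤ 1 + (x : ℚ)⁻¹ + (y : ℚ)⁻¹ + (z : ℚ)⁻¹ := by
  have key : ∀ x y z : ℤ, 1 + x + y + z = 0 → 3 ≤ |x| → 3 ≤ |y| → 0 < z →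
      8 / 15 ≤ 1 + (x : ℚ)⁻¹ + (y : ℚ)⁻¹ + (z : ℚ)⁻¹ := fun x y z h hx hy hz => by
    have p : ∀ w : ℤ, 0 < w → (0 : ℚ) ≤ (w : ℚ)⁻¹ := fun w hw => by positivity
    have a := neg_le_inv (x := x) three_pos (by rw [le_abs] at hx; omega)
    have b := neg_le_inv (x := y) three_pos (by rw [le_abs] at hy; omega)
    by_cases c1 : 0 < x
    · norm_num at a b; linarith [p x c1, p z hz]
    by_cases c2 : 0 < y
    · norm_num at a b; linarith [p y c2, p z hz]
    obtain ⟨i, rfl⟩ : ∃ i : ℕ, x = -(3 + i) := ⟨(-x - 3).toNat, by rw [le_abs] at hx; omega⟩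
    obtain ⟨j, rfl⟩ : ∃ j : ℕ, y = -(3 + j) := ⟨(-y - 3).toNat, by rw [le_abs] at hy; omega⟩
    obtain rfl : z = 5 + i + j := by omega
    push_cast
    rw [inv_neg, inv_neg, ← sub_nonneg]
    have e : 1 + -(3 + (i : ℚ))⁻¹ + -(3 + (j : ℚ))⁻¹ + (5 + (i : ℚ) + j)⁻¹ - 8 / 15 =
        (48 * (i + j) + 6 * (i + j) ^ 2 + i * j * (50 + 7 * (i + j))) /
          (15 * (3 + i) * (3 + j) * (5 + i + j)) := by
      field_simp; ring
    rw [e]; positivity
  by_cases c : 0 < z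
  · exact key x y z h hx hy c
  by_cases c' : 0 < y
  · have := key x z y (by omega) hx hz c'; linarith
  · have := key y z x (by omega) hy hz (by rw [le_abs] at *; omega); linarith

theorem rho_cases {u w r : ℤ} (hu : 4 ∣ u) (hw : 4 ∣ w) (hs : 8 ∣ u + w) (u0 : u ≠ 0) (w0 : w ≠ 0)
    (s0 : u + w ≠ 0) (hr : Odd r) (h3 : 3 ≤ r)
    (e : (1 + r) ^ 2 * (u + w - 2) ^ 2 * (u * w) = 4 * r * (u + w) ^ 2 * ((u - 1) * (w - 1))) :
    (r = 3 ∧ u + w = 16 ∧ u * w = -720) ∨ (r = 5 ∧ u + w = 8 ∧ u * w = -560) := by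
  wlog hle : u ≤ w generalizing u w
  · have := this hw hu (add_comm u w ▸ hs) w0 u0 (add_comm u w ▸ s0)
      (by rw [add_comm w u, mul_comm w u, mul_comm (w - 1)]; exact e) (by omega)
    rwa [add_comm w u, mul_comm w u] at this
  obtain ⟨s, hs'⟩ := hs
  obtain ⟨k, rfl⟩ := hr
  obtain ⟨p, hp⟩ : ∃ p, p = u * w := ⟨_, rfl⟩
  have e2 : p * ((1 + k) ^ 2 * (4 * s - 1) ^ 2 - (2 * k + 1) * (16 * s ^ 2)) =
      (2 * k + 1) * (16 * s ^ 2) * (1 - 8 * s) := by
    rw [show (u - 1) * (w - 1) = u * w - (u + w) + 1 by ring, hs', ← hp] at e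
    linarith
  rw [hs', ← hp]
  have hk : 1 ≤ k := by omega
  have c3 : 4 * (2 * k + 1) ≤ 3 * (1 + k) ^ 2 := by nlinarith
  rcases lt_or_gt_of_ne (show s ≠ 0 by omega) with hn | hn
  · exfalso
    have d : (2 * k + 1) * (16 * s ^ 2 - 32 * s + 4) ≤
        3 * ((1 + k) ^ 2 * (4 * s - 1) ^ 2 - (2 * k + 1) * (16 * s ^ 2)) := by nlinarith
    generalize (1 + k) ^ 2 * (4 * s - 1) ^ 2 - (2 * k + 1) * (16 * s ^ 2) = D at d e2
    have d0 : 0 < (2 * k + 1) * (16 * s ^ 2 - 32 * s + 4) := by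
      apply mul_pos <;> nlinarith
    have r0 : 0 < (2 * k + 1) * (16 * s ^ 2) * (1 - 8 * s) := by
      apply mul_pos (mul_pos _ _) <;> nlinarith
    have p0 : 0 < p := by
      by_contra hc; push Not at hc; nlinarith
    have w1 : w < 0 := by
      by_contra hc; nlinarith [show u < 0 by omega]
    have p1 : -32 * s - 16 ≤ p := by nlinarith [show u ≤ -4 by omega, show w ≤ -4 by omega]
    have : p * (16 * s ^ 2 - 32 * s + 4) ≤ 3 * (16 * s ^ 2) * (1 - 8 * s) := by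
      have : (2 * k + 1) * (p * (16 * s ^ 2 - 32 * s + 4)) ≤
          (2 * k + 1) * (3 * (16 * s ^ 2) * (1 - 8 * s)) := by nlinarith
      exact le_of_mul_le_mul_left this (by omega)
    nlinarith [mul_le_mul_of_nonneg_right p1 (show 0 ≤ 16 * s ^ 2 - 32 * s + 4 by nlinarith)]
  · have hw0 : 0 < w := by omega
    rcases lt_or_gt_of_ne u0 with u1 | u1
    · have p1 : p ≤ -32 * s - 16 := by nlinarith [show u ≤ -4 by omega]
      by_cases k1 : k = 1
      · subst k1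
        have : s < 7 := by
          by_contra hc; push Not at hc
          nlinarith [mul_le_mul_of_nonneg_right p1 (show 0 ≤ 16 * s ^ 2 - 32 * s + 4 by nlinarith)]
        interval_cases s <;> omega
      · have c5 : 9 * (2 * k + 1) ≤ 5 * (1 + k) ^ 2 := by nlinarith [show 2 ≤ k by omega]
        have d : (2 * k + 1) * (64 * s ^ 2 - 72 * s + 9) ≤
            5 * ((1 + k) ^ 2 * (4 * s - 1) ^ 2 - (2 * k + 1) * (16 * s ^ 2)) := by nlinarith
        by_cases s1 : s = 1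
        · subst s1
          by_cases k2 : k = 2
          · subst k2; omega
          · exfalso; nlinarith [show 3 ≤ k by omega]
        exfalso
        generalize (1 + k) ^ 2 * (4 * s - 1) ^ 2 - (2 * k + 1) * (16 * s ^ 2) = D at d e2
        have : 5 * (16 * s ^ 2) * (1 - 8 * s) ≤ p * (64 * s ^ 2 - 72 * s + 9) := by
          have : (2 * k + 1) * (5 * (16 * s ^ 2) * (1 - 8 * s)) ≤
              (2 * k + 1) * (p * (64 * s ^ 2 - 72 * s + 9)) := by nlinarith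
          exact le_of_mul_le_mul_left this (by omega)
        have s2 : 2 ≤ s := by omega
        nlinarith [mul_le_mul_of_nonneg_right p1 (show 0 ≤ 64 * s ^ 2 - 72 * s + 9 by nlinarith)]
    · exfalso
      have p0 : 0 < p := hp ▸ mul_pos u1 hw0
      by_cases s1 : s = 1
      · subst s1
        obtain rfl : u = 4 := by omega
        obtain rfl : w = 4 := by omega
        subst hp; nlinarith
      have d : (2 * k + 1) * (16 * s ^ 2 - 32 * s + 4) ≤
          3 * ((1 + k) ^ 2 * (4 * s - 1) ^ 2 - (2 * k + 1) * (16 * s ^ 2)) := by nlinarith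
      generalize (1 + k) ^ 2 * (4 * s - 1) ^ 2 - (2 * k + 1) * (16 * s ^ 2) = D at d e2
      have s2 : 2 ≤ s := by omega
      have d0 : 0 < (2 * k + 1) * (16 * s ^ 2 - 32 * s + 4) := by
        apply mul_pos <;> nlinarith
      have r0 : 0 < (2 * k + 1) * (16 * s ^ 2) * (8 * s - 1) := by
        apply mul_pos (mul_pos _ _) <;> nlinarith
      nlinarith

end Cfsg.Agent.GW
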