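import Cfsg.Agent.GW.Ch2
import Cfsg.Agent.Dih.BSW2
import Cfsg.Agent.BG.S01

/-! Groups with dihedral Sylow 2-subgroups: the basic configuration. -/

set_option autoImplicit false
set_option linter.unusedVariables false
set_option linter.unusedSectionVars false

namespace Cfsg.Agent.GW

open Cfsg Cfsg.Agent.BG Cfsg.Agent.Dih Subgroup PHom
open Cfsg.Agent.Inv (ord2_iff sq_of_ord2 ne_one_of_ord2 inv_of_ord2 orderOf_conj' orderOf_conj''
  orderOf_isConj)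
open scoped commutatorElement

variable {G : Type*} [Group G]

/-- `O(H)` -/
scoped notation:max "O'[" H "]" => Cfsg.piCoreOf ({2}ᶜ : Set ℕ) H

/-- The four-group generated by two commuting involutions. -/
abbrev VV (t a : G) : Subgroup G := zpowers t ⊔ zpowers a

theorem odd_iff {n : ℕ} : PiN {2}ᶜ n ↔ Odd n := by
  rw [pin_compl Nat.prime_two, ← Nat.not_even_iff_odd, even_iff_two_dvd]

theorem pie2 {t : G} (h : orderOf t = 2) : PiE {2} t := by
  rw [PiE, h]; exact pin_single_self Nat.prime_two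

theorem pig2 {t : G} (h : orderOf t = 2) : PiG {2} (zpowers t) := pig_zpowers.2 (pie2 h)

theorem mem_zp2 {t g : G} (h : t * t = 1) : g ∈ zpowers t ↔ g = 1 ∨ g = t := by
  refine ⟨?_, by rintro (rfl | rfl); exacts [one_mem _, mem_zpowers _]⟩
  rintro ⟨k, rfl⟩
  have e : t ^ (2 : ℤ) = 1 := by rw [zpow_two, h]
  rcases Int.even_or_odd' k with ⟨m, rfl | rfl⟩ <;> simp [zpow_add, zpow_mul, e]

theorem mem_VV {t a g : G} (ht : t * t = 1) (ha : a * a = 1) (h : a * t = t * a) :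
    g ∈ VV t a ↔ g = 1 ∨ g = t ∨ g = a ∨ g = t * a := by
  refine ⟨fun hg => ?_, ?_⟩
  · obtain ⟨u, hu, v, hv, rfl⟩ := (mem_sup_l (cents_norm (by
      rw [C_zpowers, zpowers_le]; exact mem_C1.2 h))).1 hg
    rcases (mem_zp2 ht).1 hu with rfl | rfl <;> rcases (mem_zp2 ha).1 hv with rfl | rfl <;> simp
  · rintro (rfl | rfl | rfl | rfl)
    exacts [one_mem _, mem_sup_left (mem_zpowers _), mem_sup_right (mem_zpowers _),
      mul_mem_sup' (mem_zpowers _) (mem_zpowers _)]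

theorem C_VV (t a : G) : C[VV t a] = C1[t] ⊓ C1[a] := by rw [C_sup, C_zpowers, C_zpowers]

theorem l_mem_VV (t a : G) : t ∈ VV t a := mem_sup_left (mem_zpowers _)
theorem r_mem_VV (t a : G) : a ∈ VV t a := mem_sup_right (mem_zpowers _)
theorem VV_le {t a : G} {H : Subgroup G} : VV t a ≤ H ↔ t ∈ H ∧ a ∈ H := by
  rw [sup_le_iff, zpowers_le, zpowers_le]

theorem cj_VV (g t a : G) : cj g (VV t a) = VV (g * t * g⁻¹) (g * a * g⁻¹) := by
  rw [cj_sup, cj_zpowers, cj_zpowers]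

/-- A dihedral group generated by the involutions `a` and `b`, with central involution `t`. -/
structure DT (S : Subgroup G) (t a b : G) (l : ℕ) : Prop where
  dh : DH S (b * a) a l
  teq : t = (b * a) ^ (l : ℤ)

namespace DT

variable [Finite G] {S : Subgroup G} {t a b : G} {l : ℕ} (h : DT S t a b l)
include h

theorem a2 : a * a = 1 := h.dh.ysq
theorem oa : orderOf a = 2 := h.dh.yord
theorem ob : orderOf b = 2 := by
  have := h.dh.xyord; rwa [mul_assoc, h.a2, mul_one] at this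
theorem b2 : b * b = 1 := sq_of_ord2 h.ob
theorem ot : orderOf t = 2 := h.teq ▸ h.dh.zord
theorem t2 : t * t = 1 := sq_of_ord2 h.ot
theorem aS : a ∈ S := h.dh.ymem
theorem xS : b * a ∈ S := h.dh.x1mem
theorem bS : b ∈ S := by simpa using mul_mem h.xS (inv_mem h.aS)
theorem tS : t ∈ S := h.teq ▸ h.dh.xmem _
theorem SH : S ≤ C1[t] := h.teq ▸ h.dh.le_centralizer_z
theorem xa : b * a * a = b := by rw [mul_assoc, h.a2, mul_one]
theorem xinv : (b * a)⁻¹ = a * b := by rw [mul_inv_rev, inv_of_ord2 h.oa, inv_of_ord2 h.ob]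
theorem tX : t ∈ zpowers (b * a) := h.teq ▸ zpow_mem (mem_zpowers _) _
theorem card : #S = 4 * l := by rw [h.dh.card]; ring
theorem pig : PiG {2} S := pig_of_pg Nat.prime_two h.dh.isPGroup
theorem lpos : 0 < l := h.dh.lpos
theorem at' : a * t = t * a := mem_C1.1 (h.SH h.aS)
theorem ant : a ≠ t := fun e => h.dh.y_not_mem (e ▸ h.tX)

theorem symm : DT S t b a l := by
  have e : a * b = (b * a)⁻¹ := h.xinv.symm
  refine ⟨⟨h.dh.pw, by rw [e, orderOf_inv, h.dh.ord], h.b2, ?_, fun hb => h.dh.y_not_mem ?_,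
    fun g => ?_⟩, ?_⟩
  · rw [e, inv_inv, ← e]; group
  · rw [e, zpowers_inv] at hb
    simpa using mul_mem (inv_mem hb) (mem_zpowers (b * a))
  · rw [h.dh.mem, e]
    have e2 : ∀ k : ℤ, (b * a) ^ k * a = (b * a)⁻¹ ^ (1 - k) * b := fun k => by
      have := h.xa
      generalize b * a = x at this ⊢
      rw [← this]; group
    refine ⟨fun ⟨k, hk⟩ => hk.elim (fun e => ⟨-k, Or.inl (by rw [e, inv_zpow', neg_neg])⟩)
      fun e => ⟨1 - k, Or.inr (e.trans (e2 k))⟩, fun ⟨k, hk⟩ => hk.elim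
      (fun e => ⟨-k, Or.inl (by rw [e, inv_zpow'])⟩)
      fun e => ⟨1 - k, Or.inr (by rw [e, e2, sub_sub_cancel])⟩⟩
  · rw [e, inv_zpow, ← h.teq, inv_of_ord2 h.ot]

theorem bt' : b * t = t * b := h.symm.at'
theorem X_symm : zpowers (a * b) = zpowers (b * a) := by rw [← h.xinv, zpowers_inv]

theorem V1 : VV t a = V4 (b * a) a l 0 := by rw [V4, ← h.teq, zpow_zero, one_mul]
theorem V2 : VV t b = V4 (b * a) a l 1 := by rw [V4, ← h.teq, zpow_one, h.xa]
theorem kf : IsKleinFour (VV t a) := h.V1 ▸ h.dh.kf_V 0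
theorem VS : VV t a ≤ S := VV_le.2 ⟨h.tS, h.aS⟩
theorem memV {g : G} : g ∈ VV t a ↔ g = 1 ∨ g = t ∨ g = a ∨ g = t * a := mem_VV h.t2 h.a2 h.at'
theorem cardV : #(VV t a) = 4 := h.kf.card_four
theorem abelV : Abel (VV t a) := (abel_zpowers _).sup (abel_zpowers _) (by
  rw [C_zpowers, zpowers_le]; exact mem_C1.2 h.at'.symm)
theorem pigV : PiG {2} (VV t a) := h.pig.of_le h.VS
theorem ncycV : ¬ Cyc (VV t a) := by have := h.kf; exact IsKleinFour.not_isCyclic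
theorem ota : orderOf (t * a) = 2 := by
  have := h.dh.ord_o l; rwa [← h.teq] at this
theorem S_C1 : S ⊓ C1[a] = VV t a := by
  have := h.dh.centralizer_o 0; rwa [zpow_zero, one_mul, ← h.V1] at this
theorem eq_sup : S = zpowers a ⊔ zpowers b :=
  le_antisymm (h.dh.le_of (mem_sup_left (mem_zpowers _)) (by
    rw [h.xa]; exact mem_sup_right (mem_zpowers _)))
    (sup_le (zpowers_le.2 h.aS) (zpowers_le.2 h.bS))
theorem le_of {N : Subgroup G} (ha : a ∈ N) (hb : b ∈ N) : S ≤ N :=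
  h.eq_sup ▸ sup_le (zpowers_le.2 ha) (zpowers_le.2 hb)

/-- an involution of `S` is `t` or conjugate in `⟨x⟩` to `a` or `b` -/
theorem invol {u : G} (hu : u ∈ S) (h2 : orderOf u = 2) :
    u = t ∨ ∃ g ∈ S, g * a * g⁻¹ = u ∨ g * b * g⁻¹ = u := by
  rcases h.dh.invol hu h2 with e | ⟨k, rfl⟩
  · exact Or.inl (h.teq ▸ e)
  rcases Int.even_or_odd' k with ⟨m, rfl | rfl⟩
  · exact Or.inr ⟨_, h.dh.xmem m, Or.inl (by simpa using h.dh.conj_out 0 m)⟩
  · refine Or.inr ⟨_, h.dh.xmem m, Or.inr ?_⟩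
    have := h.dh.conj_out 1 m
    rwa [zpow_one, h.xa, add_comm] at this

theorem one_b (h1 : l = 1) : b = t * a := by rw [h.teq, h1]; simp [h.xa]
theorem one_S (h1 : l = 1) : S = VV t a := by
  subst h1; rw [h.V1, h.dh.V_eq_of_one]

/-- for `l ≥ 2`, the involution `ta` is conjugate to `a` in `S` -/
theorem exists_ta (h1 : l ≠ 1) : ∃ w ∈ S, w * a * w⁻¹ = t * a := by
  obtain ⟨m, hm⟩ := h.dh.l_cases.resolve_left h1
  refine ⟨_, h.dh.xmem m, ?_⟩
  have := h.dh.conj_out 0 m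
  rw [zpow_zero, one_mul, zero_add] at this
  rw [this, h.teq, hm]; push_cast; rfl

theorem subtype {M : Subgroup G} (hM : S ≤ M) :
    DT (S.subgroupOf M) ⟨t, hM h.tS⟩ ⟨a, hM h.aS⟩ ⟨b, hM h.bS⟩ l :=
  ⟨h.dh.subgroupOf hM, Subtype.ext h.teq⟩

theorem cj (g : G) : DT (cj g S) (g * t * g⁻¹) (g * a * g⁻¹) (g * b * g⁻¹) l :=
  ⟨by rw [show g * b * g⁻¹ * (g * a * g⁻¹) = g * (b * a) * g⁻¹ by group]; exact h.dh.cj g, by rw [h.teq, ← conj_zpow]; congr 1; group⟩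

end DT

theorem DH_dt [Finite G] {S : Subgroup G} {x y : G} {l : ℕ} (h : DH S x y l) :
    DT S (x ^ (l : ℤ)) y (x * y) l := by
  have e : x * y * y = x := by rw [mul_assoc, h.ysq, mul_one]
  exact ⟨e.symm ▸ h, by rw [e]⟩

/-- Dihedral Sylow 2-subgroup and one class of involutions. -/
structure GS (S : Subgroup G) (t a b : G) (l : ℕ) : Prop extends DT S t a b l where
  syl : Syl 2 S ⊤
  cls : ∀ u v : G, orderOf u = 2 → orderOf v = 2 → IsConj u v

theorem DT.pnil [Finite G] {S : Subgroup G} {t a b : G} {l : ℕ} (h : DT S t a b l)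
    (hS : Syl 2 S ⊤) : PNil 2 C1[t] := by
  obtain ⟨P, rfl⟩ := hS.exists_sylow_top Nat.prime_two
  rw [pnil_iff_npc Nat.prime_two, h.teq]
  exact h.dh.npc_centralizer

namespace GS

variable [Finite G] {S : Subgroup G} {t a b : G} {l : ℕ} (h : GS S t a b l)
include h

theorem symm : GS S t b a l := ⟨h.toDT.symm, h.syl, h.cls⟩

theorem cj (g : G) : GS (cj g S) (g * t * g⁻¹) (g * a * g⁻¹) (g * b * g⁻¹) l :=
  ⟨h.toDT.cj g, h.syl.cj_top g, h.cls⟩

theorem pnil {u : G} (hu : orderOf u = 2) : PNil 2 C1[u] := by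
  obtain ⟨g, rfl⟩ := isConj_iff.1 (h.cls t u h.ot hu)
  exact (h.cj g).toDT.pnil (h.cj g).syl

theorem sylH : Syl 2 S C1[t] := h.syl.sub h.SH le_top
theorem sd : Sdprod O'[C1[t]] S C1[t] := (h.pnil h.ot).sdprod h.sylH

theorem memU {u g : G} (hu : orderOf u = 2) (hg : g ∈ C1[u]) : g ∈ O'[C1[u]] ↔ Odd (orderOf g) :=
  ⟨fun e => odd_iff.1 ((O_pig _ _).elt e),
    fun e => (h.pnil hu).mem_of_normal (O_norm _ _) (odd_iff.2 e) hg⟩

theorem leU {u : G} (hu : orderOf u = 2) {A : Subgroup G} (hA : A ≤ C1[u]) (ho : PiG {2}ᶜ A) :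
    A ≤ O'[C1[u]] := (h.pnil hu).le_O hA ho

theorem card_H : #C1[t] = 4 * l * #O'[C1[t]] := by rw [← h.sd.card, h.card, mul_comm]

theorem odd_index : Odd (C1[t]).index := by
  rw [← odd_iff, ← relIndex_top_right]
  exact h.syl.idx.of_dvd (relIndex_dvd_left h.SH ⊤)

theorem exists_CS [Fintype G] : ∃ κ : G → ZMod (2 * l),
    CS t a (b * a) O'[C1[t]] (O'[C1[t]] ⊔ zpowers (b * a)) l κ := by
  classical
  set U := O'[C1[t]]
  set x := b * a with hx
  have xN : ∀ g ∈ C1[t], ∀ u ∈ U, g * u * g⁻¹ ∈ U := fun g hg u hu => conj_mem (O_norm _ _ hg) hu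
  have xH : ∀ m : ℤ, x ^ m ∈ C1[t] := fun m => h.SH (h.dh.xmem m)
  have hK : ∀ {k}, k ∈ U ⊔ zpowers x ↔ ∃ u ∈ U, ∃ m : ℤ, k = u * x ^ m := fun {k} => by
    rw [mem_sup_l ((zpowers_le.2 (h.SH h.xS)).trans (O_norm _ _))]
    exact ⟨fun ⟨u, hu, _, ⟨m, rfl⟩, e⟩ => ⟨u, hu, m, e⟩, fun ⟨u, hu, m, e⟩ => ⟨u, hu, _, ⟨m, rfl⟩, e⟩⟩
  let κ : G → ZMod (2 * l) := fun g =>
    if hg : ∃ m : ℤ, g * (x ^ m)⁻¹ ∈ U then (hg.choose : ℤ) else 0
  have inj : ∀ m : ℤ, x ^ m ∈ U → (m : ZMod (2 * l)) = 0 := fun m hm => by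
    have : x ^ m = x ^ (0 : ℤ) := by
      rw [zpow_zero, ← mem_bot, ← h.sd.inf]; exact ⟨hm, h.dh.xmem m⟩
    obtain ⟨c, hc⟩ := h.dh.eq_iff.1 this
    rw [ZMod.intCast_zmod_eq_zero_iff_dvd]
    exact ⟨c, by push_cast; linarith⟩
  have key : ∀ u ∈ U, ∀ m : ℤ, κ (u * x ^ m) = m := fun u hu m => by
    have ex : ∃ n : ℤ, u * x ^ m * (x ^ n)⁻¹ ∈ U := ⟨m, by simpa using hu⟩
    simp only [κ, dif_pos ex]
    have := inj (m - ex.choose) (by
      convert mul_mem (inv_mem hu) ex.choose_spec using 1; group)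
    push_cast at this
    exact (sub_eq_zero.1 this).symm
  have aK : a ∉ U ⊔ zpowers x := fun e => by
    obtain ⟨u, hu, m, e⟩ := hK.1 e
    have : u = 1 := by
      rw [← mem_bot, ← h.sd.inf]
      exact mem_inf.2 ⟨hu, by
        rw [eq_mul_inv_of_mul_eq e.symm]; exact mul_mem h.aS (inv_mem (h.dh.xmem m))⟩
    rw [this, one_mul] at e
    exact h.dh.y_not_mem ⟨m, e.symm⟩
  refine ⟨κ, h.ot, fun u hu => h.cls _ _ h.ot hu, le_sup_left,
    sup_le (O_le _ _) (zpowers_le.2 (h.SH h.xS)), fun g hg => h.memU h.ot hg,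
    mem_sup_right (mem_zpowers _), mem_sup_right h.tX, h.SH h.aS, aK, h.a2, by rw [h.xa, h.b2],
    fun s hs hn => ?_, fun g hg k hk => ?_, fun g hg => ?_, by simpa using key 1 (one_mem _) 1,
    fun g hg => ?_, fun u hu hn h2 => ?_⟩
  · obtain ⟨u, hu, w, hw, rfl⟩ := h.sd.prod.ex s hs
    rw [mul_assoc]
    exact mul_mem_sup' hu (h.dh.mul_mem_X hw h.aS (fun e => hn (mul_mem_sup' hu e)) h.dh.y_not_mem)
  · obtain ⟨u, hu, m, rfl⟩ := hK.1 hg
    obtain ⟨v, hv, n, rfl⟩ := hK.1 hk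
    rw [show u * x ^ m * (v * x ^ n) = u * (x ^ m * v * (x ^ m)⁻¹) * x ^ (m + n) by group,
      key _ (mul_mem hu (xN _ (xH m) _ hv)), key _ hu, key _ hv, Int.cast_add]
  · obtain ⟨u, hu, m, rfl⟩ := hK.1 hg
    rw [key _ hu, mul_mem_cancel_left hu]
    refine ⟨fun e => ?_, inj m⟩
    obtain ⟨c, hc⟩ := (ZMod.intCast_zmod_eq_zero_iff_dvd _ _).1 e
    rw [h.dh.eq_iff (b := 0) |>.2 ⟨c, by rw [hc]; push_cast; ring⟩, zpow_zero]
    exact one_mem _
  · obtain ⟨u, hu, m, rfl⟩ := hK.1 hg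
    rw [show a * (u * x ^ m) * a⁻¹ = a * u * a⁻¹ * (a * x ^ m * a⁻¹) by group,
      Inv.conj_zpow_inv h.dh.conj, key _ (xN _ (h.SH h.aS) _ hu), key _ hu, Int.cast_neg]
  · obtain ⟨g, hg, e⟩ := h.sylH.cj_sub Nat.prime_two (zpowers_le.2 hu) (pig2 h2)
    have e := e (mem_cj_conj.2 (mem_zpowers u))
    rcases h.invol e (by rw [orderOf_conj', h2]) with e | ⟨w, hw, e⟩
    · rw [mul_inv_eq_iff_eq_mul, ← mem_C1.1 hg] at e
      exact absurd (mul_left_cancel e ▸ mem_sup_right h.tX) hn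
    · rw [h.xa]
      refine ⟨g⁻¹ * w, mul_mem (inv_mem hg) (h.SH hw), e.imp (fun e => ?_) fun e => ?_⟩ <;>
      · rw [← mul_left_inj g⁻¹, ← mul_right_inj g, ← mul_assoc g u, ← e]; group

theorem kk_eq : kk t a = l * (O'[C1[t]] ⊓ C1[a]).relIndex O'[C1[t]] := by
  have e : Sdprod (O'[C1[t]] ⊓ C1[a]) (VV t a) (C1[t] ⊓ C1[a]) := by
    have e2 := ((h.pnil h.ot).of_le (inf_le_left : C1[t] ⊓ C1[a] ≤ _))
    have e3 := (h.pnil h.ot).O_eq_inf (inf_le_left : C1[t] ⊓ C1[a] ≤ _)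
    rw [← inf_assoc, inf_eq_left.2 (O_le _ _)] at e3
    rw [← e3]
    refine e2.sdprod ?_
    obtain ⟨P, hP, hV⟩ := syl_superset Nat.prime_two (h.abelV.trans_eq (C_VV t a)) h.pigV
    obtain ⟨g, hg, e⟩ := h.sylH.cj_sub Nat.prime_two (hP.le.trans inf_le_left) hP.pi
    have ha := e (mem_cj_conj.2 (hV (r_mem_VV t a)))
    have : #P ≤ 4 := by
      have e3 : BG.cj g P ≤ S ⊓ C1[g * a * g⁻¹] := le_inf e (by
        rw [← cj_C1]; exact map_mono (hP.le.trans inf_le_right))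
      have e4 := card_le e3
      rw [BG.card_cj] at e4
      obtain ⟨k, hk⟩ := (h.dh.invol ha (by rw [orderOf_conj', h.oa])).resolve_left fun e => by
        rw [← h.teq, mul_inv_eq_iff_eq_mul, ← mem_C1.1 hg] at e
        exact h.ant (mul_left_cancel e)
      rwa [hk, h.dh.centralizer_o, (h.dh.kf_V k).card_four] at e4
    rwa [eq_of_card_le hV (h.cardV ▸ this)]
  have e1 := e.card
  have e2 := card_inf_mul_relIndex C1[a] C1[t]
  have e3 := card_mul_relIndex (inf_le_left : O'[C1[t]] ⊓ C1[a] ≤ _)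
  rw [inf_comm, ← e1, h.card_H, h.cardV, ← e3] at e2
  exact Nat.eq_of_mul_eq_mul_left (Nat.mul_pos (card_pos (O'[C1[t]] ⊓ C1[a])) four_pos)
    (by rw [kk, e2]; ring)

end GS

end Cfsg.Agent.GW
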