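import Cfsg.Agent.GW.Cop
import Cfsg.Agent.H8.SC
import Cfsg.Agent.S1312

/-! Bender's criterion for the equality of two maximal subgroups. -/

set_option autoImplicit false
set_option linter.unusedVariables false
set_option linter.unusedSectionVars false

namespace Cfsg.Agent.GW

open Cfsg Cfsg.Agent.BG Cfsg.Agent.Dih Subgroup PHom
open Cfsg.Agent.Comp (Lay FStar SubIn)
open Cfsg.Agent.H8 (N_coatom' FStar_def)
open scoped commutatorElement

universe u

variable {G : Type u} [Group G] [Finite G] {A B M X S : Subgroup G} {t a b : G} {l p : ℕ}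

theorem subIn_of_nil (h : Nil A) (hX : X ≤ A) : SubIn X A := by
  induction X using gt_wf_ind with | h X ih => ?_
  rcases hX.eq_or_lt with rfl | hX
  · exact .of_normal le_rfl (normG _)
  · exact (SubIn.of_normal (h.lt_norm hX).le inf_le_right).trans (ih _ (h.lt_norm hX) inf_le_left)

theorem FStar_eq_F (h : Lay A = ⊥) : FStar A = F[A] := by rw [FStar_def, h, bot_sup_eq]

theorem C_F_le' (h : Lay A = ⊥) : A ⊓ C[F[A]] ≤ F[A] := by
  have := Comp.centralizer_FStar_le A; rwa [FStar_eq_F h] at this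

/-- `B` contains a self-centralizing subgroup of `F*(A) = F(A)` -/
structure Arr (A B : Subgroup G) : Prop where
  max : IsCoatom A
  lay : Lay A = ⊥
  ex : ∃ S ≤ F[A], F[A] ⊓ C[S] ≤ S ∧ S ≤ B

theorem arr_of (hA : IsCoatom A) (hL : Lay A = ⊥) (hX : X ≤ F[A]) (h : F[A] ⊓ N[X] ≤ B) :
    Arr A B :=
  ⟨hA, hL, _, inf_le_left, inf_le_inf_left _ (cents_norm (centS (le_inf hX (normG X)))), h⟩

namespace Arr

variable (h : Arr A B)
include h

theorem one (hp : p.Prime) (hd : ¬ p ∣ #F[A]) : O[{p}](B) ⊓ A = ⊥ := by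
  obtain ⟨S, h1, h2, h3⟩ := h.ex
  rw [← FStar_eq_F h.lay] at h2
  exact H8.bender_one (FStar_eq_F h.lay ▸ subIn_of_nil (F_nil A) h1) h2 h3 hp hd

theorem D_inf : O[{p | p ∣ #F[A]}ᶜ](F[B]) ⊓ A = ⊥ := by
  by_contra hc
  obtain ⟨q, hq, hd⟩ := exists_prime_dvd hc
  obtain ⟨X, hX, e⟩ := exists_prime_sub hq hd
  refine ne_bot_of_prime (e ▸ hq) (eq_bot_iff.2 (h.one hq
    (((O_pig _ _).of_le inf_le_left).mem_of_card hq hX e) ▸ le_inf ?_ (hX.trans inf_le_right)))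
  rw [← O_F]
  exact (F_nil B).le_O (hX.trans (inf_le_left.trans (O_le _ _))) (pig_of_card' hq e)

theorem two [IsSimpleGroup G] (hp : p.Prime) (hd : p ∣ #F[A]) : O[{p}](B) ≤ C[O[{p}ᶜ](F[A])] := by
  obtain ⟨S, h1, h2, h3⟩ := h.ex
  rw [← FStar_eq_F h.lay] at h2
  exact (H8.bender_two (FStar_eq_F h.lay ▸ subIn_of_nil (F_nil A) h1) h2 h.max h3 hp hd).trans
    (centS le_sup_right)

theorem Z_le : Z[F[A]] ≤ B := by
  obtain ⟨S, h1, h2, h3⟩ := h.ex
  exact ((inf_le_inf_left _ (centS h1)).trans h2).trans h3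

end Arr

theorem DT.eq_N_ZJ [IsSimpleGroup G] (h : DT S t a b l) (hS : Syl 2 S ⊤) (hp : p.Prime) (p2 : p ≠ 2)
    (hA : IsCoatom A) (hL : Lay A = ⊥) (h1 : F[A] ≠ ⊥) {P : Subgroup G} (hP : Syl p P ⊤)
    (hF : F[A] ≤ P) : A = N[PLoc.ZJOf 0 P] := by
  have := Fact.mk hp
  obtain ⟨S, rfl⟩ := hS.exists_sylow_top Nat.prime_two
  have nF := N_coatom' hA (F_le A) (F_norm A) h1
  have le : A ≤ N[PLoc.ZJOf 0 P] := fun g hg => by
    obtain ⟨m, hm, e⟩ := h.dh.fusion p2 ((syl_iff' hp).1 hP) hF (g := g)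
      ((cj_of_mem_N (F_norm A (inv_mem hg))).trans_le hF)
    have : g * m⁻¹ ∈ C[F[A]] := mem_C.2 fun x hx => by
      calc _ = g * (g⁻¹ * x * g) * m⁻¹ := by group
        _ = _ := by rw [← e x hx]; group
    simpa using mul_mem (PLoc.le_normalizer_ZJOf P (hF (C_F_le' hL ⟨nF ▸ C_le_N _ this, this⟩))) hm
  refine (hA.le_iff.1 le).symm.resolve_right (fun e => ?_) |>.symm
  rcases (normal_iff.2 e.ge).eq_bot_or_eq_top with e2 | e2
  · exact PLoc.ZJOf_ne_bot (hP.pi.pg hp) (ne_bot_of_le_ne_bot h1 hF) (dvd_zero p) e2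
  · have pg : PiG {p} (⊤ : Subgroup G) := hP.pi.of_le (e2.ge.trans (PLoc.ZJOf_le P))
    exact p2 ((pg.of_le (le_top (a := zpowers t))).eq_prime Nat.prime_two
      (by rw [card_zpowers', h.ot])).symm

theorem Arr.eq [IsSimpleGroup G] (nab : ¬ IsMulCommutative G) (h : DT S t a b l) (hS : Syl 2 S ⊤)
    (r : Arr A B) (hB : IsCoatom B) (hL : Lay B = ⊥) (hD : O[{p | p ∣ #F[A]}ᶜ](F[B]) = ⊥)
    (h2 : ¬ PiG {2} F[A]) : A = B := by
  have hπ : PiG {p | p ∣ #F[A]} F[B] := by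
    have := ((F_nil B).dprod_O {p | p ∣ #F[A]}).sup
    rw [hD, sup_bot_eq] at this
    exact this ▸ O_pig _ _
  have pig : ∀ {p} {A : Subgroup G}, O[{p}ᶜ](F[A]) = ⊥ → PiG {p} F[A] := fun {p A} e => by
    have := ((F_nil A).dprod_O {p}).sup
    rw [e, sup_bot_eq] at this
    exact this ▸ O_pig _ _
  by_cases c : ∃ p, p.Prime ∧ O[{p}ᶜ](F[A]) = ⊥
  · obtain ⟨p, hp, c⟩ := c
    have := Fact.mk hp
    have pA := pig c
    have p2 : p ≠ 2 := fun e => h2 (e ▸ pA)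
    have pB : PiG {p} F[B] := hπ.mono' fun q hq _ hd => pA.eq_prime hq hd
    have nA : F[A] ≠ ⊥ := fun e => h2 (e ▸ pig_bot _)
    have nZ := (F_nil A).Z_ne_bot nA
    obtain ⟨S₀, h1, h2, h3⟩ := r.ex
    have nB : F[B] ≠ ⊥ := fun e => nZ (eq_bot_iff.2 (r.Z_le.trans (by
      have := C_F_le' hL; rwa [e, C_bot, inf_top_eq] at this)))
    obtain ⟨P, hP, le⟩ := syl_superset hp (le_top (a := F[A])) pA
    obtain ⟨Q, hQ, le'⟩ := syl_superset hp (le_top (a := F[B] ⊔ S₀))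
      (pB.sup_l (pA.of_le h1) (h3.trans (F_norm B)))
    obtain ⟨g, -, rfl⟩ := hP.conj hp hQ
    have eA := h.eq_N_ZJ hS hp p2 r.max r.lay nA hP le
    have eB := h.eq_N_ZJ hS hp p2 hB hL nB hQ (le_sup_left.trans le')
    obtain ⟨T, rfl⟩ := hS.exists_sylow_top Nat.prime_two
    obtain ⟨m, hm, e⟩ := h.dh.fusion p2 ((syl_iff' hp).1 hP) (h1.trans le) (g := g)
      (le_cj_iff.1 (le_sup_right.trans le'))
    have : g * m⁻¹ ∈ C[S₀] := mem_C.2 fun x hx => by
      calc _ = g * (g⁻¹ * x * g) * m⁻¹ := by group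
        _ = _ := by rw [← e x hx]; group
    have gA : g ∈ N[PLoc.ZJOf 0 P] := by
      have m2 := N_coatom' r.max (inf_le_left.trans (F_le A)) (normZ (F_norm A)) nZ ▸ C_le_N _
        (centS ((inf_le_inf_left _ (centS h1)).trans h2) this)
      have := mul_mem (eA.le m2) hm
      rwa [inv_mul_cancel_right] at this
    rw [eB, eA]
    exact congrArg (fun X => N[X]) ((cj_of_mem_N gA).symm.trans (PLoc.cj_ZJOf g P))
  push Not at c
  have BA : F[B] ≤ A := (F_nil B).le_of_O fun p hp hd => by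
    rw [O_F, ← N_coatom' r.max ((O_le _ _).trans (F_le A)) (normO _ (F_norm A)) (c p hp)]
    exact cents_norm (r.two hp (hπ p hp hd))
  have r' : Arr B A := ⟨hB, hL, _, le_rfl, inf_le_left, BA⟩
  have hπ' : ∀ p, p.Prime → p ∣ #F[A] → p ∣ #F[B] := fun p hp hd => by_contra fun hn =>
    (F_nil A).meet_C (O_le {p} _) (O_norm _ _) ((F_nil A).O_ne_bot hp hd rfl) (eq_bot_iff.2
      (r'.one hp hn ▸ le_inf (inf_le_left.trans_eq (O_F p A))
        ((inf_le_inf_right _ (O_le _ _)).trans r.Z_le)))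
  have AB : F[A] ≤ B := (F_nil A).le_of_O fun p hp hd => by
    rw [O_F, ← N_coatom' hB ((O_le {p}ᶜ _).trans (F_le B)) (normO _ (F_norm B)) fun e => by
      obtain ⟨q, hq, hd⟩ := exists_prime_dvd (c p hp)
      exact O_pig _ _ q hq hd ((pig e).eq_prime hq (hπ' q hq (hd.trans (cardS (O_le _ _)))))]
    exact cents_norm (r'.two hp (hπ' p hp hd))
  by_contra hne
  obtain ⟨p, hp, e, -⟩ := S1312.result nab A B r.max hB hne
    (by rwa [Comp.FStar_eq, FStar_eq_F r.lay]) (by rwa [Comp.FStar_eq, FStar_eq_F hL])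
  have := (pig_of_pg hp e).map A.subtype
  rw [Comp.FStar_eq, FStar_eq_F r.lay] at this
  exact c p hp (O_eq_bot this.compl_compl)

end Cfsg.Agent.GW
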