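import Cfsg.Agent.GW.Max

/-! The first case: the normalizers of the subgroups of `C_F(a)` have no components. -/

set_option autoImplicit false
set_option linter.unusedVariables false
set_option linter.unusedSectionVars false

namespace Cfsg.Agent.GW

open Cfsg Cfsg.Agent.BG Cfsg.Agent.Dih Subgroup PHom
open Cfsg.Agent.Comp (Lay FStar SubIn CompIn QS Lay_le Lay_normal Lay_perfect)
open Cfsg.Agent.H8 (N_coatom')
open Cfsg.Agent.Inv (ord2_iff sq_of_ord2 ne_one_of_ord2 inv_of_ord2 orderOf_conj' orderOf_conj''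
  orderOf_isConj)
open scoped commutatorElement

universe u

variable {G : Type u} [Group G] [Finite G]
  {A B D K L M N P Q S V X : Subgroup G} {t a b s v w g y : G} {l p : ℕ}

/-- the odd part of the Fitting subgroup of `C(t)` -/
abbrev FO (t : G) : Subgroup G := O'[F[C1[t]]]

theorem cj_FO (g t : G) : cj g (FO t) = FO (g * t * g⁻¹) := by rw [cj_O, cj_F, cj_C1]
theorem FO_le (t : G) : FO t ≤ C1[t] := (O_le _ _).trans (F_le _)
theorem FO_leU (t : G) : FO t ≤ O'[C1[t]] := O_F_le _ _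
theorem FO_nil (t : G) : Nil (FO t) := (F_nil _).of_le (O_le _ _)
theorem FO_odd (t : G) : PiG {2}ᶜ (FO t) := O_pig _ _
theorem FO_norm (t : G) : C1[t] ≤ N[FO t] := normO _ (F_norm _)
theorem C_FO (t : G) : O'[C1[t]] ⊓ C[FO t] ≤ FO t := by
  rw [FO, ← F_O]; exact C_F_le (sol_odd (O_pig _ _))
theorem cent_U (hA : A ≤ C1[t]) (h2 : PiG {2} A) (h : A ≤ C[FO t]) : A ≤ C[O'[C1[t]]] :=
  cop_cent_F (hA.trans (O_norm _ _)) (h2.coprime (O_pig _ _)) (sol_odd (O_pig _ _)) (by rwa [F_O])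

/-- `s` is an involution other than `t` which commutes with `t` -/
structure CI (t s : G) : Prop where
  ot : orderOf t = 2
  os : orderOf s = 2
  ne : s ≠ t
  c : s * t = t * s

theorem DT.ci (h : DT S t a b l) : CI t a := ⟨h.ot, h.oa, h.ant, h.at'⟩
theorem CI.dt (c : CI t s) : DT (VV t s) t s (t * s) 1 := dt_four c.ot c.os c.ne c.c
theorem CI.mul (c : CI t s) : CI t (t * s) := c.dt.symm.ci
theorem CI.mem (c : CI t s) : s ∈ C1[t] := mem_C1.2 c.c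
theorem CI.mem' (c : CI t s) : t ∈ C1[s] := mem_C1'.2 c.c
theorem CI.inf (c : CI t s) (hA : A ≤ C1[t]) : A ⊓ C1[t * s] = A ⊓ C1[s] := by
  rw [← inf_eq_left.2 hA, inf_assoc, inf_assoc, c.dt.C1_ta]
theorem CI.eq_bot (c : CI t s) (ho : PiG {2}ᶜ D) (h1 : t ∈ N[D]) (h2 : s ∈ N[D])
    (e1 : D ⊓ C1[t] = ⊥) (e2 : D ⊓ C1[s] = ⊥) (e3 : D ⊓ C1[t * s] = ⊥) : D = ⊥ :=
  eq_bot_iff.2 (cop_gen_cent1 c.dt.abelV c.dt.ncycV (VV_le.2 ⟨h1, h2⟩) (c.dt.pigV.coprime ho)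
    fun v hv v1 => by
      rcases c.dt.memV.1 hv with rfl | rfl | rfl | rfl
      exacts [absurd rfl v1, e1.le, e2.le, e3.le])

theorem CI.cjF (c : CI t s) (g1 : g * t * g⁻¹ = s) (g2 : g * s * g⁻¹ = t * s) :
    cj g (FO t ⊓ C1[s]) = FO s ⊓ C1[t] := by
  rw [← c.inf (FO_le t), cj_inf, cj_FO, cj_C1, g1, c.dt.g3 g1 g2]

/-- some subgroup of `C_F(s)` has its normalizer in a maximal subgroup with a component -/
def MM (t s : G) : Prop :=
  ∃ M X : Subgroup G, IsCoatom M ∧ X ≠ ⊥ ∧ X ≤ FO t ⊓ C1[s] ∧ N[X] ≤ M ∧ Lay M ≠ ⊥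

theorem CI.MM_mul (c : CI t s) : MM t (t * s) ↔ MM t s := by
  simp only [MM, c.inf (FO_le t)]

/-- the part of `F` inverted by `s` -/
abbrev KK (t s : G) : Subgroup G := O[{p | p ∣ #(FO t ⊓ C1[s])}ᶜ](FO t)

theorem DT.l_two (h : DT S t a b l) (l1 : l ≠ 1) (e : b * a * b⁻¹ * a⁻¹ ∈ C1[a]) :
    l = 2 ∧ b * a * b⁻¹ = t * a := by
  have e2 : b * a * b⁻¹ * a⁻¹ = (b * a) ^ (2 : ℤ) := by
    rw [inv_of_ord2 h.oa, inv_of_ord2 h.ob, zpow_two, mul_assoc (b * a)]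
  have := h.lpos
  rcases h.dh.comm_o (g := b * a * b⁻¹ * a⁻¹) (e2 ▸ zpow_mem (mem_zpowers _) 2) (a := 0)
    (by simpa using mem_C1'.1 e) with e' | e'
  · obtain ⟨c, hc⟩ := h.dh.eq_iff.1 (e2.symm.trans (e'.trans (zpow_zero _).symm))
    exact absurd (Int.natCast_dvd_natCast.1 (⟨c, by push_cast; linarith⟩ : (l : ℤ) ∣ (1 : ℕ)))
      (by simpa)
  · obtain ⟨c, hc⟩ := h.dh.eq_iff.1 (e2.symm.trans e')
    have := Nat.le_of_dvd two_pos (Int.natCast_dvd_natCast.1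
      (⟨2 * c + 1, by push_cast; linarith⟩ : (l : ℤ) ∣ (2 : ℕ)))
    exact ⟨by omega, by rw [h.teq, ← e', inv_mul_cancel_right]⟩

namespace MC

variable (h : MC S t a b l)
include h

theorem exg (c : CI t s) : ∃ g, g * t * g⁻¹ = s ∧ g * s * g⁻¹ = t * s := by
  have := h.simple
  have e : ⁅(⊤ : Subgroup G), (⊤ : Subgroup G)⁆ = ⊤ :=
    ((commutator_normal ⊤ ⊤).eq_bot_or_eq_top).resolve_left fun e =>
      h.nab fun x y => mem_C_comm (comm_eq_bot.1 e) trivial trivial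
  obtain ⟨g, -, e⟩ := h.dg.exists_g e c.ot c.os c.ne c.c trivial trivial
  exact ⟨g, e⟩

theorem layH : Lay C1[t] = ⊥ := by_contra fun e => lay_ns e ((h.solC h.ot).of_le Lay_le)

theorem arr (hX : X ≤ FO t) (hM : N[X] ≤ M) : Arr C1[t] M :=
  arr_of h.maxH h.layH (hX.trans (O_le _ _)) (inf_le_right.trans hM)

theorem two_mem : 2 ∈ {p | p ∣ #F[C1[t]]} :=
  h.ot ▸ orderOf_dvd (Z_le_F _ ⟨mem_C1_self t, le_C1_iff.1 le_rfl⟩)

theorem oD (M : Subgroup G) : PiG {2}ᶜ O[{p | p ∣ #F[C1[t]]}ᶜ](F[M]) :=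
  (O_pig _ _).compl_single h.two_mem

theorem pF (hv : orderOf v = 2) : PiG {p | p ∣ #F[C1[t]]} (FO v) := by
  obtain ⟨g, rfl⟩ := isConj_iff.1 (h.cls t v h.ot hv)
  rw [← cj_FO, pig_cj]
  exact (pin_self _).of_dvd (cardS (O_le _ _))

theorem N_eq (h1 : X ≤ C1[t]) (h2 : C1[t] ≤ N[X]) (h3 : X ≠ ⊥) : N[X] = C1[t] :=
  have := h.simple
  N_coatom' h.maxH h1 h2 h3

theorem NB' (s : G) : N[VV t s] ≤ N[O'[C1[t]] ⊓ C1[s]] := by
  have := (h.pnil h.ot).O_eq_inf (inf_le_left : C1[t] ⊓ C1[s] ≤ _)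
  rw [← inf_assoc, inf_eq_left.2 (O_le _ _), ← C_VV] at this
  exact this ▸ normO _ (normC le_rfl)

theorem not_cU (c : CI t s) : ¬ O'[C1[t]] ≤ C1[s] := fun e => by
  obtain ⟨g, g1, g2⟩ := h.exg c
  have := h.NB' s (c.dt.mem_N g1 g2)
  rw [inf_eq_left.2 e, h.N_eq (O_le _ _) (O_norm _ _) h.U_ne] at this
  exact c.ne (by rw [← g1, mem_C1.1 this, mul_inv_cancel_right])

theorem FO_inf (c : CI t s) (n : ¬ MM t s) : FO t ⊓ FO s = ⊥ := by_contra fun e => by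
  obtain ⟨g, g1, g2⟩ := h.exg c
  obtain ⟨M, hM, YM⟩ := h.exists_max' e ((FO_odd t).of_le inf_le_left)
  have L0 : Lay M = ⊥ := by_contra fun e' => n ⟨M, _, hM, e, inf_le_inf_left _ (FO_le s), YM, e'⟩
  have r := h.arr inf_le_left YM
  have r' := (h.cj g).arr (X := FO t ⊓ FO s) (g1 ▸ inf_le_right) YM
  rw [← cj_C1] at r'
  have F0 : FO t ≠ ⊥ := ne_bot_of_le_ne_bot e inf_le_left
  have D0 := h.D_bot le_rfl (fun B hB ho => (h.leU h.ot hB ho).trans (O_cent_O' _ _)) F0 c.os c.c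
    g1 g2 r r' (YM (C_le_N _ (le_C1_iff.1 (inf_le_left.trans (FO_le t)))))
    (YM (C_le_N _ (le_C1_iff.1 (inf_le_right.trans (FO_le s))))) (h.oD M)
  have e := (h.arr_eq r hM L0 D0 F0).trans (h.arr_eq r' hM L0 (by rwa [← cj_F, card_cj])
    (by rwa [← cj_F, ← cj_O, Ne, cj_eq_bot])).symm
  have : g ∈ C1[t] := h.N_self h.maxH le_rfl ▸ mem_N_iff_cj.2 e.symm
  exact c.ne (by rw [← g1, mem_C1.1 this, mul_inv_cancel_right])

theorem N_le (c : CI t s) (n : ¬ MM t s) (hX : X ≤ FO t ⊓ C1[s]) (X0 : X ≠ ⊥) : N[X] ≤ C1[t] := by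
  have XF := hX.trans inf_le_left
  obtain ⟨M, hM, XM⟩ := h.exists_max' X0 ((FO_odd t).of_le XF)
  have L0 : Lay M = ⊥ := by_contra fun e' => n ⟨M, _, hM, X0, hX, XM, e'⟩
  have r := h.arr XF XM
  have d1 := r.D_inf
  have oD := h.oD M
  have pD := O_pig {p | p ∣ #F[C1[t]]}ᶜ F[M]
  have nD : M ≤ N[O[{p | p ∣ #F[C1[t]]}ᶜ](F[M])] := normO _ (F_norm M)
  have tM : t ∈ M := XM (C_le_N _ (le_C1_iff.1 (XF.trans (FO_le t))))
  refine XM.trans (h.arr_eq r hM L0 ?_ (ne_bot_of_le_ne_bot X0 XF)).ge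
  generalize O[{p | p ∣ #F[C1[t]]}ᶜ](F[M]) = D at *
  have i := iv_of_fpf h.ot oD (nD tM) d1
  have key : ∀ v, CI t v → ¬ MM t v → X ≤ FO t ⊓ C1[v] → D ⊓ C1[v] = ⊥ := fun v c n hX => by
    have o := oD.of_le (inf_le_left : D ⊓ C1[v] ≤ D)
    have p' := pD.of_le (inf_le_left : D ⊓ C1[v] ≤ D)
    have n1 : D ⊓ C1[v] ≤ N[FO v] := inf_le_right.trans (FO_norm v)
    have a1 : FO v ⊓ C1[t] ≤ C1[v] := inf_le_left.trans (FO_le v)
    have a2 : FO v ⊓ C1[t] ≤ C[FO t ⊓ C1[v]] := cent_of_norm_inf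
      (normI (inf_le_right.trans (FO_norm t)) (normsG a1))
      (normI (inf_le_right.trans (FO_norm v)) (normsG (inf_le_left.trans (FO_le t))))
      (eq_bot_iff.2 (h.FO_inf c n ▸ le_inf (inf_le_right.trans inf_le_left)
        (inf_le_left.trans inf_le_left)))
    exact ((h.pF c.os).of_le ((le_inf (h.leU c.os inf_le_right o) (lemW h.ot (FO_nil v) (FO_odd v)
      n1 (FO_norm v c.mem') (i.of_le inf_le_left).norm (p'.coprime' (h.pF c.os))
      ((i.of_le inf_le_left).le_comm o) (cent_of_inf inf_le_left n1 (normI ((a2.trans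
        ((centS hX).trans (C_le_N _))).trans (XM.trans nD)) (normsG a1))
        ((h.pF c.os).inf_bot p')))).trans (C_FO v))).eq_bot p'
  exact c.eq_bot oD (nD tM) (nD (XM (C_le_N _ (le_C1_iff.1 (hX.trans inf_le_right))))) d1
    (key s c n hX) (key _ c.mul (fun e => n (c.MM_mul.1 e)) (c.inf (FO_le t) ▸ hX))

theorem N_le' (c : CI t s) (n : ¬ MM t s) (hX : X ≤ FO s ⊓ C1[t]) (X0 : X ≠ ⊥) : N[X] ≤ C1[s] := by
  obtain ⟨g, g1, g2⟩ := h.exg c
  have := h.N_le c n (X := BG.cj g⁻¹ X) (by rwa [cj_le_iff, inv_inv, c.cjF g1 g2]) (by rwa [Ne, cj_eq_bot])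
  rwa [← cj_N, cj_le_iff, inv_inv, cj_C1, g1] at this

theorem cent_P (c : CI t s) (n : ¬ MM t s) (h0 : O[{p}](FO t) ⊓ C1[s] ≠ ⊥) :
    O[{p}](FO t) ≤ C1[s] := by
  obtain ⟨g, g1, g2⟩ := h.exg c
  have nP : C1[t] ≤ N[O[{p}](FO t)] := normO _ (FO_norm t)
  have pP := O_pig {p} (FO t)
  have le : BG.cj g (O[{p}](FO t) ⊓ C1[s]) ≤ FO s ⊓ C1[t] :=
    c.cjF g1 g2 ▸ map_mono (inf_le_inf_right _ (O_le _ _))
  have n1 := (le.trans inf_le_right).trans nP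
  exact le_C1_iff.2 (zpowers_le.1 (pq_lemma
    (pP.sup_l ((pP.of_le inf_le_left).cj g) n1).nil le_sup_right le_sup_left
    (C_zpowers s ▸ le.trans (inf_le_left.trans (FO_le s))) (cop2 c.os ((FO_odd t).of_le (O_le _ _)))
    n1 (zpowers_le.2 (nP c.mem)) (inf_le_right.trans ((C_le_N _).trans
      ((h.N_le' c n le (by rwa [Ne, cj_eq_bot])).trans (C_zpowers s).ge)))))

section
variable (c : CI t s) (n : ¬ MM t s)
include c n

theorem F1_eq : FO t ⊓ C1[s] = O[{p | p ∣ #(FO t ⊓ C1[s])}](FO t) :=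
  le_antisymm ((FO_nil t).le_O inf_le_left (pin_self _)) (le_inf (O_le _ _)
    (((FO_nil t).of_le (O_le _ _)).le_of_O fun p hp hd =>
      ((FO_nil t).O_mono _ (O_le _ _)).trans (h.cent_P c n (ne_bot_of_le_ne_bot
        (((FO_nil t).of_le inf_le_left).O_ne_bot (π := {p}) hp (O_pig _ _ p hp hd) rfl)
        (le_inf ((FO_nil t).O_mono _ inf_le_left) ((O_le _ _).trans inf_le_right))))))

theorem F1_norm : C1[t] ≤ N[FO t ⊓ C1[s]] := h.F1_eq c n ▸ normO _ (FO_norm t)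

theorem K_dp : Dprod (FO t ⊓ C1[s]) (KK t s) (FO t) := by
  have := (FO_nil t).dprod_O {p | p ∣ #(FO t ⊓ C1[s])}
  rwa [← h.F1_eq c n] at this

theorem K_iv : Iv s (KK t s) :=
  iv_of_fpf c.os ((FO_odd t).of_le (O_le _ _)) (normO _ (FO_norm t) c.mem)
    (eq_bot_iff.2 ((h.K_dp c n).inf ▸ le_inf (inf_le_inf_right _ (O_le _ _)) inf_le_left))

theorem K_cent : FO t ≤ C[KK t s] :=
  (h.K_dp c n).sup.ge.trans (sup_le (cent_symm (h.K_dp c n).cent) (h.K_iv c n).abel)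

theorem K_comm : ⁅O'[C1[t]], zpowers s⁆ ≤ KK t s := by
  have nK : C1[t] ≤ N[KK t s] := normO _ (FO_norm t)
  have nU := O_norm {2}ᶜ C1[t] c.mem
  have e : ⁅O'[C1[t]], zpowers s⁆ ≤ FO t := (le_inf (commL (zpowers_le.2 nU)) (by
    rw [← (h.K_dp c n).sup]
    exact centY ((commS le_rfl (zpowers_le.2 (le_C1_iff.1 inf_le_right))).trans
      (commR (normC ((O_le _ _).trans (h.F1_norm c n)))))
      ((h.K_iv c n).comm_cent c.os ((O_le _ _).trans nK)))).trans (C_FO t)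
  refine (comm2 c.os (O_pig _ _) nU).ge.trans ((commS (e.trans (h.K_dp c n).sup.ge) le_rfl).trans
    (comm_sup_le ((comm_zp_bot.2 inf_le_right).trans_le bot_le)
      (commL (zpowers_le.2 (nK c.mem))) (inf_le_left.trans ((FO_le t).trans nK)) (normG _)))

theorem K_ne : KK t s ≠ ⊥ := fun e =>
  h.not_cU c (comm_zp_bot.1 (eq_bot_iff.2 (e ▸ h.K_comm c n)))

theorem K_prod : IsProd (KK t s) (O'[C1[t]] ⊓ C1[s]) O'[C1[t]] :=
  prod_of_comm_le c.os (O_pig _ _) (O_norm _ _ c.mem) ((O_le _ _).trans (FO_leU t)) (h.K_comm c n)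

theorem K_idx : (O'[C1[t]] ⊓ C1[s]).relIndex O'[C1[t]] = #(KK t s) :=
  (h.K_iv c n).relIndex (O_pig _ _) (h.K_prod c n)

end

section
variable (hK : K ≤ FO t) (n : C1[t] ≤ N[K]) (c : FO t ≤ C[K]) (ia : Iv a K) (ib : Iv b K)
  (e : ⁅O'[C1[t]], zpowers a⁆ ≤ FO t)
include hK n c ia ib e

theorem CY (hy : y ∈ K) (y1 : y ≠ 1) : C1[y] ≤ C1[t] := by
  have oK := (FO_odd t).of_le hK
  have Y0 : zpowers y ≠ ⊥ := by rwa [Ne, zpowers_eq_bot]
  have YK := zpowers_le.2 hy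
  obtain ⟨M, hM, YM⟩ := h.exists_max' Y0 (oK.of_le YK)
  have SM : S ≤ M := h.le_of (YM (ia.of_le YK).norm) (YM (ib.of_le YK).norm)
  rw [← C_zpowers]
  refine (C_le_N _).trans ?_
  by_cases L0 : Lay M = ⊥
  · have r := h.arr (YK.trans hK) YM
    have d1 := r.D_inf
    have oD := h.oD M
    have pD := O_pig {p | p ∣ #F[C1[t]]}ᶜ F[M]
    have nD : M ≤ N[O[{p | p ∣ #F[C1[t]]}ᶜ](F[M])] := normO _ (F_norm M)
    refine YM.trans (h.arr_eq r hM L0 ?_ (ne_bot_of_le_ne_bot Y0 (YK.trans hK))).ge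
    generalize O[{p | p ∣ #F[C1[t]]}ᶜ](F[M]) = D at *
    have i := iv_of_fpf h.ot oD (nD (SM h.tS)) d1
    have key : ∀ k, (k⁻¹ * t * k = a ∨ k⁻¹ * t * k = t * a) → D ⊓ C1[k * t * k⁻¹] = ⊥ :=
      fun k hk => by
      refine ((h.pF (v := k * t * k⁻¹) (by rw [orderOf_conj', h.ot])).of_le fun d hd => ?_).eq_bot
        (pD.of_le inf_le_left)
      have o : Odd (orderOf (k⁻¹ * d * k)) := by rw [orderOf_conj'']; exact PiG.odd oD hd.1
      have m : k⁻¹ * d * k ∈ C1[t] := by rw [← mem_cj, cj_C1]; exact hd.2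
      have e1 : k⁻¹ * t * k * (k⁻¹ * d * k) * (k⁻¹ * t * k)⁻¹ = (k⁻¹ * d * k)⁻¹ := by
        calc _ = k⁻¹ * (t * d * t⁻¹) * k := by group
          _ = _ := by rw [i d hd.1]; group
      rw [← cj_FO, mem_cj]
      refine e (mem_comm_of_inv o ((h.memU h.ot m).2 o) ?_)
      generalize k⁻¹ * d * k = u at *
      rcases hk with hk | hk <;> rw [hk] at e1
      · exact e1
      · rw [← e1, ← h.at']
        calc _ = a * (u * t * t⁻¹) * a⁻¹ := by group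
          _ = _ := by rw [mem_C1.1 m]; group
    obtain ⟨g, g1, g2⟩ := h.exists_g
    have g3 := h.g3 g1 g2
    have g4 : g⁻¹ * t * g = t * a := by nth_rw 1 [← g3]; group
    exact h.ci.eq_bot oD (nD (SM h.tS)) (nD (SM h.aS)) d1 (g1 ▸ key g (Or.inr g4))
      (by simpa [g4] using key g⁻¹ (Or.inl (by simpa using g1)))
  · have cy := h.dg.ncyc (h.syl.sub SM le_top) L0
    have tL := (h.mem_of_ncyc inf_le_left cy).2
    obtain ⟨w, wL, iw⟩ : ∃ w ∈ Lay M, Iv w K :=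
      (h.mem_or (SM.trans (Lay_normal M)) cy).elim (fun e => ⟨a, e, ia⟩) fun e => ⟨b, e, ib⟩
    have KM : K ≤ M := (hK.trans (c.trans ((centS YK).trans (C_le_N _)))).trans YM
    have KL : K ≤ Lay M := (iw.le_comm oK).trans ((commS KM (zpowers_le.2 wL)).trans
      (commR (Lay_normal M)))
    obtain ⟨Y, _, _, φ, E, f⟩ := exists_LM h.dg h.ih hM.1 L0
    have : Cyc K := cyc_of_im_inj (f.le KM) (eq_bot_iff.2 (iw.inf_bot oK ▸ inf_le_inf_left _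
      (f.ker ▸ le_C1_iff.2 (lay_cO M wL)))) (f.md.cyc (f.ord h.ot (SM h.tS)) (f.app_mem tL)
      (oK.im φ) (le_inf (f.im ▸ im_mono KL) (im_C1 (f.mem (SM h.tS)) (hK.trans (FO_le t)))))
    exact (h.N_eq (YK.trans (hK.trans (FO_le t))) (this.norm_sub YK n) Y0).le

theorem not_dvd (hp : p.Prime) (hd : p ∣ #K) : ¬ p ∣ (C1[t]).index := fun e' => by
  obtain ⟨y, hy, yp⟩ := cauchy hp hd
  have y1 : y ≠ 1 := fun e => hp.ne_one (by rw [← yp, e, orderOf_one])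
  have m := index_modEq hp yp (FO_le t (hK hy)) fun g hg => by
    have k : ∀ s, Iv s K → ∀ x ∈ C1[t], x * s * x⁻¹ ≠ g * t * g⁻¹ := fun s i x hx e =>
      y1 (one_of_inv (PiG.odd ((FO_odd t).of_le hK) hy) (i.conj (n hx) y hy) (e ▸ mem_C1.2 hg))
    obtain ⟨x, hx, e | e | e⟩ := h.exists_cj h.sylH (h.CY hK n c ia ib e hy y1 (mem_C1'.2 hg))
      (by rw [orderOf_conj', h.ot])
    · rw [mem_C1.1 hx, mul_inv_cancel_right] at e
      exact mem_C1.2 (mul_inv_eq_iff_eq_mul.1 e.symm)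
    exacts [absurd e (k a ia x hx), absurd e (k b ib x hx)]
  exact hp.ne_one (Nat.dvd_one.1 (Nat.modEq_zero_iff_dvd.1 (m.symm.trans
    (Nat.modEq_zero_iff_dvd.2 e'))))

end

section
variable (na : ¬ MM t a) (nb : ¬ MM t b)
include na nb

theorem beta' (l1 : l = 1) : False := by
  subst l1
  have ia := h.K_iv h.ci na
  have KF : KK t a ≤ FO t := O_le _ _
  have nK : C1[t] ≤ N[KK t a] := normO _ (FO_norm t)
  have ib : Iv b (KK t a) := h.one_b rfl ▸ ia.cent_mul (le_C1_iff.1 (KF.trans (FO_le t)))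
  have e := (h.K_comm h.ci na).trans KF
  have cy := fun y => h.CY (y := y) KF nK (h.K_cent h.ci na) ia ib e
  by_cases B0 : O'[C1[t]] ⊓ C1[a] = ⊥
  · have := (h.K_prod h.ci na).sup
    rw [B0, sup_bot_eq] at this
    exact h.bsw (by rw [h.one_b rfl, mul_assoc, h.a2, mul_one]; exact le_C1_iff.1 (O_le _ _))
      (this ▸ ia) (this ▸ cy)
  · obtain ⟨p, hp, hd⟩ := exists_prime_dvd (h.K_ne h.ci na)
    exact h.not_dvd KF nK (h.K_cent h.ci na) ia ib e hp hd (hd.trans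
      (h.beta (KF.trans (FO_leU t)) nK ia (h.K_prod h.ci na) cy B0))

theorem alpha (l1 : l ≠ 1) (h1 : FO t ⊓ C1[a] = ⊥) (h2 : FO t ⊓ C1[b] = ⊥) : False := by
  have k : ∀ {a b}, MC S t a b l → ¬ MM t a → FO t ⊓ C1[a] = ⊥ →
      Iv a (FO t) ∧ ⁅O'[C1[t]], zpowers a⁆ ≤ FO t := fun h na h1 =>
    ⟨iv_of_fpf h.oa (FO_odd t) (FO_norm t h.ci.mem) h1, (h.K_comm h.ci na).trans (O_le _ _)⟩
  obtain ⟨ia, ca⟩ := k h na h1
  obtain ⟨ib, cb⟩ := k h.symm nb h2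
  have k2 : ∀ {a b}, MC S t a b l → Iv a (FO t) → Iv b (FO t) → b * a ∈ C[O'[C1[t]]] :=
    fun h ia ib => zpowers_le.1 (cent_U (zpowers_le.2 (h.SH h.xS)) (h.pig.of_le (zpowers_le.2 h.xS))
      (zpowers_le.2 (by simpa [inv_of_ord2 h.oa] using ib.mul_cent ia)))
  have k3 : ∀ {a b}, MC S t a b l → b * a ∈ C[O'[C1[t]]] → ∃ g, g * t * g⁻¹ = a ∧
      ∀ z ∈ O'[C1[t]] ⊓ C1[a], z⁻¹ * (g⁻¹ * z * g) ∈ FO t ⊔ S := fun {a b} h x => by
    have c : S ≤ C[O'[C1[t]] ⊓ C1[a]] := h.le_of (le_C1_iff.1 inf_le_right)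
      (h.xa ▸ mul_mem (centS inf_le_left x) (le_C1_iff.1 inf_le_right))
    obtain ⟨w, wS, hw⟩ := h.exists_ta l1
    obtain ⟨g, g1, g2⟩ := h.exists_g
    have wt := mem_C1.1 (h.SH wS)
    have hw' : w * (t * a) * w⁻¹ = a := by
      rw [show w * (t * a) * w⁻¹ = w * t * w⁻¹ * (w * a * w⁻¹) by group, hw, wt,
        mul_inv_cancel_right, h.tta]
    have m := mul_mem (c wS) (conj_mem (zpowers_le.1 (normC (zpowers_le.2
      (h.NB (h.mem_N g1 g2))))) (c wS))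
    refine ⟨w * (g * w * g⁻¹), ?_, fun z hz => by
      rw [mul_assoc _ z, mem_C.1 m z hz, inv_mul_cancel_left, inv_mul_cancel]; exact one_mem _⟩
    calc _ = w * (g * (w * (g⁻¹ * (g * (t * a) * g⁻¹) * g) * w⁻¹) * g⁻¹) * w⁻¹ := by
          rw [h.g3 g1 g2]; group
      _ = _ := by rw [show g⁻¹ * (g * (t * a) * g⁻¹) * g = t * a by group, hw', g2, hw']
  by_cases B0 : O'[C1[t]] ⊓ C1[a] = ⊥
  · have := (prod_of_comm_le h.oa (O_pig _ _) (O_norm _ _ h.ci.mem) (FO_leU t) ca).sup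
    rw [B0, sup_bot_eq] at this
    exact h.bsw (k2 h ia ib) (this ▸ ia)
      (this ▸ fun y => h.CY (y := y) le_rfl (FO_norm t) ia.abel ia ib ca)
  · have nU : O'[C1[t]] ≤ N[FO t] := (O_le _ _).trans (FO_norm t)
    have := h.fused (N := FO t ⊔ S) (h.sd.sup.ge.trans (sup_le (comm_le_r.1 ((comm_sup_le'
      (commR nU) (h.eq_sup ▸ comm_sup_le' ca cb (zpowers_le.2 ia.norm) (zpowers_le.2 ib.norm))
      (normG _) (h.SH.trans (FO_norm t))).trans le_sup_left)) (le_sup_right.trans (normG _))))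
      le_sup_right (k3 h (k2 h ia ib)) (k3 h.symm (k2 h.symm ib ia))
    have e := modl_l (h.SH.trans (FO_norm t)) (FO_leU t)
    rw [inf_eq_right.2 this, inf_comm S, h.sd.inf, sup_bot_eq] at e
    exact B0 (e ▸ h1)

theorem gamma1 (l1 : l ≠ 1) (h1 : FO t ⊓ C1[a] ≠ ⊥) : FO t ⊓ C1[a] ≤ KK t b := by
  obtain ⟨g, g1, g2⟩ := h.exists_g
  have bH := h.SH h.bS
  have le : ∀ X ≤ FO t ⊓ C1[a], BG.cj g X ≤ FO a ⊓ C1[t] := fun X hX =>
    h.ci.cjF g1 g2 ▸ map_mono hX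
  have l2 := le _ le_rfl
  have x2 : b * a * b⁻¹ * a⁻¹ ∈ C[FO t] := by
    rw [← (h.K_dp h.ci na).sup, C_sup]
    exact mem_inf.2 ⟨mul_mem (conj_mem (zpowers_le.1 (normC (zpowers_le.2 (h.F1_norm h.ci na bH))))
      (le_C1_iff.1 inf_le_right)) (inv_mem (le_C1_iff.1 inf_le_right)),
      ((h.K_iv h.ci na).conj (normO _ (FO_norm t) bH)).mul_cent (h.K_iv h.ci na)⟩
  have xS : zpowers (b * a * b⁻¹ * a⁻¹) ≤ S :=
    zpowers_le.2 (mul_mem (conj_mem (normG S h.bS) h.aS) (inv_mem h.aS))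
  obtain ⟨-, e⟩ := h.l_two l1 (h.N_le' h.ci na l2 (by rwa [Ne, cj_eq_bot]) (C_le_N _ (centS
    (h.leU h.ot (l2.trans inf_le_right) (((FO_odd t).of_le inf_le_left).cj g)) (zpowers_le.1
      (cent_U (xS.trans h.SH) (h.pig.of_le xS) (zpowers_le.2 x2))))))
  refine (FO_nil t).le_O inf_le_left fun p hp hd hd' => ?_
  have P0 := ((FO_nil t).of_le inf_le_left).O_ne_bot (π := {p}) hp hd rfl
  have P1 := h.cent_P h.ci na (ne_bot_of_le_ne_bot P0
    (le_inf ((FO_nil t).O_mono _ inf_le_left) ((O_le _ _).trans inf_le_right)))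
  have X1 := le _ (le_inf (O_le _ _) P1)
  rw [cj_O, cj_FO, g1] at X1
  have X0 : O[{p}](FO a) ≠ ⊥ := by
    rw [← g1, ← cj_FO, ← cj_O, Ne, cj_eq_bot]
    exact ne_bot_of_le_ne_bot P0 ((FO_nil t).O_mono _ inf_le_left)
  have pX := O_pig {p} (FO a)
  have nX : C1[a] ≤ N[O[{p}](FO a)] := normO _ (FO_norm a)
  generalize O[{p}](FO a) = X at *
  have X2 : BG.cj b X ≤ C1[a] := by
    have : BG.cj b X ≤ BG.cj b (C1[t] ⊓ C1[a]) :=
      map_mono (le_inf (X1.trans inf_le_right) (X1.trans (inf_le_left.trans (FO_le a))))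
    rw [cj_inf, cj_C1, cj_C1, e, mem_C1.1 bH, mul_inv_cancel_right, h.C1_ta] at this
    exact this.trans inf_le_right
  have X3 : X ≤ C1[b] := fun x hx => by
    have m : x * b * x⁻¹ * b⁻¹ ∈ X ⊔ BG.cj b X := by
      simpa [mul_assoc] using mul_mem_sup' hx (mem_cj_conj.2 (inv_mem hx) : b * x⁻¹ * b⁻¹ ∈ _)
    have := ((pX.sup_l (pX.cj b) (X2.trans nX)).elt m).eq_one (PiG.elt ((O_pig _ _).compl_single hd')
      (h.K_comm h.symm.ci nb (comm_mem (h.leU h.ot (X1.trans inf_le_right)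
        ((FO_odd a).of_le (X1.trans inf_le_left)) hx) (mem_zpowers b))))
    rwa [mul_inv_eq_one, mul_inv_eq_iff_eq_mul, ← mem_C1] at this
  have := mem_C1.1 (h.N_le' h.ci na X1 X0 (C_le_N _ (le_C1_iff.1 X3)))
  exact h.tana (by rw [← e, this, mul_inv_cancel_right])

theorem gamma2 (l1 : l ≠ 1) (h1 : FO t ⊓ C1[a] ≠ ⊥) (h2 : FO t ⊓ C1[b] ≠ ⊥) :
    #(FO t ⊓ C1[a]) < #(FO t ⊓ C1[b]) := by
  obtain ⟨g, g1, g2⟩ := h.exists_g
  have e := h.ci.cjF g1 g2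
  have := one_lt_card h2
  have d := Semireg.card_dvd (K := FO t ⊓ C1[b]) (R := FO a ⊓ C1[t]) (fun x hx x1 => eq_bot_iff.2
    (((h.K_iv h.ci na).inf_bot ((FO_odd t).of_le (O_le _ _))) ▸ inf_le_inf
      (h.symm.gamma1 nb na l1 h2) ((C_zpowers x).ge.trans ((C_le_N _).trans (h.N_le' h.ci na
        (zpowers_le.2 hx) (by rwa [Ne, zpowers_eq_bot]))))))
    (inf_le_right.trans (h.F1_norm h.symm.ci nb))
  rw [← e, card_cj] at d
  have := Nat.le_of_dvd (by omega) d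
  omega

theorem gamma (l1 : l ≠ 1) (h1 : FO t ⊓ C1[a] ≠ ⊥) : False := by
  have h2 : FO t ⊓ C1[b] = ⊥ := by_contra fun h2 =>
    lt_asymm (h.gamma2 na nb l1 h1 h2) (h.symm.gamma2 nb na l1 h2 h1)
  have e := (h.K_dp h.symm.ci nb).sup
  rw [h2, bot_sup_eq] at e
  have KF : KK t a ≤ FO t := O_le _ _
  have o := odd_iff.1 ((FO_odd t).of_le (inf_le_left : FO t ⊓ C1[a] ≤ _))
  have := one_lt_card h1
  obtain ⟨rfl, n⟩ := h.rho l1 o (by obtain ⟨k, hk⟩ := o; omega) (by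
    rw [h.kk_eq, h.symm.kk_eq, h.K_idx h.ci na, h.K_idx h.symm.ci nb, e, ← (h.K_dp h.ci na).card]
    ring)
  rw [h.kk_eq, h.K_idx h.ci na] at n
  obtain ⟨p, hp, hd⟩ := exists_prime_dvd (h.K_ne h.ci na)
  refine h.not_dvd KF (normO _ (FO_norm t)) (h.K_cent h.ci na) (h.K_iv h.ci na)
    ((h.K_iv h.symm.ci nb).of_le (KF.trans e.ge)) ((h.K_comm h.ci na).trans KF) hp hd (hd.trans ?_)
  rcases n with ⟨-, n⟩ | ⟨-, n⟩
  exacts [⟨105 * #(KK t a), by linarith⟩, ⟨189 * #(KK t a), by linarith⟩]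

theorem case1 : False := by
  by_cases l1 : l = 1
  · exact h.beta' na nb l1
  · exact h.alpha na nb l1 (by_contra (h.gamma na nb l1)) (by_contra (h.symm.gamma nb na l1))

end

end MC

end Cfsg.Agent.GW
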