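import Cfsg.Agent.GW.C1
import Cfsg.Agent.BG.S05

/-! The second case: a maximal subgroup with a component. -/

set_option autoImplicit false
set_option linter.unusedVariables false
set_option linter.unusedSectionVars false

namespace Cfsg.Agent.GW

open Cfsg Cfsg.Agent.BG Cfsg.Agent.Dih Subgroup PHom
open Cfsg.Agent.Comp (Lay FStar SubIn CompIn QS Lay_le Lay_normal Lay_perfect)
open Cfsg.Agent.H8 (N_coatom')
open Cfsg.Agent.Inv (ord2_iff sq_of_ord2 ne_one_of_ord2 inv_of_ord2 orderOf_conj' orderOf_conj''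
  orderOf_isConj)
open scoped commutatorElement

universe u

variable {G : Type u} [Group G] [Finite G] {Y : Type u} [Group Y] [Finite Y] {φ : PHom G Y}
  {A B D J K L M N P Q S V W X Z : Subgroup G} {t a b s v w g y : G} {l p : ℕ} {E : Subgroup Y}
  {q τ : ℕ} {ε : ℤ} {T : Y → Subgroup Y}

theorem QO.lift2 (f : QO M φ) (hv : orderOf v = 2) (vM : v ∈ M) {w : Y} (hw : orderOf w = 2)
    (c : w ∈ C1[φ.app v]) : ∃ u ∈ M ⊓ C1[v], orderOf u = 2 ∧ φ.app u = w := by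
  rw [← f.C2 hv vM, mem_im' (f.le inf_le_left)] at c
  obtain ⟨u, hu, rfl⟩ := c
  have m := f.mem hu.1
  obtain ⟨k, hk⟩ := PiG.odd (O_pig _ _) ((f.app_eq_one (mul_mem hu.1 hu.1)).1 (by
    rw [app_mul m m, sq_of_ord2 hw]))
  have e : φ.app (u ^ (2 * k + 1)) = φ.app u := by
    rw [app_pow m, pow_succ, pow_mul, sq, sq_of_ord2 hw, one_pow, one_mul]
  refine ⟨u ^ (2 * k + 1), pow_mem hu _, ord2_iff.2 ⟨?_, fun e' => ne_one_of_ord2 hw ?_⟩, e⟩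
  · rw [← (Commute.refl u).mul_pow, ← hk, pow_orderOf_eq_one]
  · rw [← e, e', app_one]

theorem LM.inj (f : LM M φ E) (hv : orderOf v = 2) (hw : orderOf w = 2) (vL : v ∈ Lay M)
    (wL : w ∈ Lay M) (e : φ.app v = φ.app w) : v = w := by
  rw [app_eq_iff (f.mem (Lay_le vL)) (f.mem (Lay_le wL)), f.ker] at e
  refine inv_mul_eq_one.1 (one_of_inv (t := w) (PiG.odd (O_pig _ _) e) ?_
    (le_C1_iff.2 (lay_cO M wL) e))
  rw [inv_of_ord2 hv, mul_inv_rev, inv_of_ord2 hv, mul_assoc, mul_inv_cancel_right, inv_of_ord2 hw]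

theorem LM.imT (f : LM M φ E) (m : LT E q τ ε T) (hv : orderOf v = 2) (vM : v ∈ M)
    (hA : A ≤ FO v ⊓ M) : φ.im A ≤ T (φ.app v) :=
  (im_mono hA).trans (m.p1 _ (f.ord hv vM) _ (odd_iff.1 (((FO_odd v).of_le inf_le_left).im φ))
    (((FO_nil v).of_le inf_le_left).im φ)
    (f.N2 hv vM (normI (inf_le_right.trans (FO_norm v)) (normsG inf_le_left))))

theorem LM.le_O (f : LM M φ E) (m : LT E q τ ε T) (c : CI v s) (vM : v ∈ M) (sM : s ∈ M)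
    (hA : A ≤ M) (ho : PiG {2}ᶜ A) (h1 : φ.im A ≤ T (φ.app v)) (h2 : A ≤ C1[s]) : A ≤ O'[M] := by
  have d := c.dt.im (f.le (VV_le.2 ⟨vM, sM⟩)) f.odd
  exact (f.bot hA).1 (eq_bot_iff.2 (((show Iv (φ.app s) (T (φ.app v)) from
    m.inv _ _ d.ot d.oa d.ant.symm d.at'.symm).of_le h1).inf_bot (ho.im φ) ▸
      le_inf le_rfl (im_C1 (f.mem sM) h2)))

theorem LM.le_O' (f : LM M φ E) (m : LT E q τ ε T) (c : CI v s) (vM : v ∈ M) (sM : s ∈ M) :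
    FO v ⊓ C1[s] ⊓ M ≤ O'[M] :=
  f.le_O m c vM sM inf_le_right ((FO_odd v).of_le (inf_le_left.trans inf_le_left))
    (f.imT m c.ot vM (inf_le_inf_right _ inf_le_left)) (inf_le_left.trans inf_le_right)

/-- the configuration of the second case -/
structure SD (S : Subgroup G) (t a b : G) (l : ℕ) (M : Subgroup G) (φ : PHom G Y) (E : Subgroup Y)
    (q τ : ℕ) (ε : ℤ) (T : Y → Subgroup Y) : Prop extends MC S t a b l where
  max : IsCoatom M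
  ne : FO t ⊓ C1[a] ⊓ M ≠ ⊥
  nrm : ∀ X ≤ FO t ⊓ C1[a] ⊓ M, X ≠ ⊥ → N[X] ≤ M
  f : LM M φ E
  m : LT E q τ ε T

namespace MC

variable (h : MC S t a b l)
include h

theorem lay_eq (hM : IsCoatom M) (hN : IsCoatom N) (h1 : Lay M ≠ ⊥) (h2 : Lay N ≠ ⊥)
    (h3 : Lay M ≤ N) (h4 : #(Lay N) ≤ #(Lay M)) : M = N := by
  have := h.simple
  obtain ⟨_, _, _, _, _, f⟩ := exists_LM h.dg h.ih hM.1 h1
  obtain ⟨_, _, _, _, _, f'⟩ := exists_LM h.dg h.ih hN.1 h2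
  rw [← N_coatom' hM Lay_le (Lay_normal M) h1, eq_of_card_le (f.lay_le f' h3) h4,
    N_coatom' hN Lay_le (Lay_normal N) h2]

theorem exists_LT' (hX : X ≤ FO t) (XM : N[X] ≤ M) (f : LM M φ E) : ∃ q τ ε T, LT E q τ ε T := by
  refine f.md.mod.resolve_right fun m => ?_
  have tM : t ∈ M := XM (C_le_N _ (le_C1_iff.1 (hX.trans (FO_le t))))
  have o := (FO_odd t).of_le (inf_le_left : FO t ⊓ M ≤ _)
  obtain ⟨w, w2, w1, wc, hw⟩ := m.p1 _ (f.ord h.ot tM) _ (odd_iff.1 (o.im φ))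
    (f.N2 h.ot tM (normI (inf_le_right.trans (FO_norm t)) (normsG inf_le_left)))
  obtain ⟨u, hu, u2, rfl⟩ := f.lift2 h.ot tM w2 (mem_C1.2 wc)
  have c : FO t ⊓ M ≤ C[zpowers u] := C_zpowers u ▸ cent2 u2 o (f.ker ▸ (cent_im_iff
    (f.le inf_le_right) (zpowers_le.2 (f.mem hu.1))).1 (by
      rw [im_zpowers (f.mem hu.1), C_zpowers]; exact hw.trans inf_le_right)) (O_pig _ _)
    (le_C1_iff.2 (lay_cO M (f.mem_lay u2 hu.1 (m.inn _ w2))))
  exact h.not_cU ⟨h.ot, u2, fun e => w1 (by rw [e]), mem_C1.1 hu.2⟩ (le_C1_iff.2 (zpowers_le.1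
    (cent_U (zpowers_le.2 hu.2) (pig2 u2) (pq_lemma (FO_nil t) hX le_rfl
      ((le_inf hX ((normG X).trans XM)).trans c) (cop2 u2 (FO_odd t)) (normsG hX)
      (zpowers_le.2 (FO_norm t hu.2)) ((inf_le_inf_left _ ((C_le_N _).trans XM)).trans c)))))

theorem exists_SD (n : MM t a) : ∃ (M : Subgroup G) (Y : Type u) (_ : Group Y) (_ : Finite Y)
    (φ : PHom G Y) (E : Subgroup Y) (q τ : ℕ) (ε : ℤ) (T : Y → Subgroup Y),
    SD S t a b l M φ E q τ ε T := by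
  have := h.simple
  obtain ⟨M, ⟨X, hM, X0, hX, XM, hL⟩, mx⟩ := Set.exists_max_image {M : Subgroup G | ∃ X,
    IsCoatom M ∧ X ≠ ⊥ ∧ X ≤ FO t ⊓ C1[a] ∧ N[X] ≤ M ∧ Lay M ≠ ⊥} (fun M => #(Lay M))
    (Set.toFinite _) n
  obtain ⟨Y, _, _, φ, E, f⟩ := exists_LM h.dg h.ih hM.1 hL
  obtain ⟨q, τ, ε, T, m⟩ := h.exists_LT' (hX.trans inf_le_left) XM f
  have c : ∀ {X N}, X ≤ FO t ⊓ C1[a] → N[X] ≤ N → t ∈ N ∧ a ∈ N := fun hX XM =>
    ⟨XM (C_le_N _ (le_C1_iff.1 (hX.trans (inf_le_left.trans (FO_le t))))),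
      XM (C_le_N _ (le_C1_iff.1 (hX.trans inf_le_right)))⟩
  refine ⟨M, Y, _, inferInstance, φ, E, q, τ, ε, T, h, hM, ne_bot_of_le_ne_bot X0
    (le_inf hX ((normG X).trans XM)), fun Z hZ Z0 => ?_, f, m⟩
  have Z1 := hZ.trans inf_le_left
  obtain ⟨N, hN, ZN⟩ := h.exists_max' Z0 ((FO_odd t).of_le (Z1.trans inf_le_left))
  have LN : Lay M ≤ N := (lay_cO M).trans ((centS (hZ.trans (f.le_O' m h.ci (c hX XM).1
    (c hX XM).2))).trans ((C_le_N _).trans ZN))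
  have r := h.arr (Z1.trans inf_le_left) ZN
  have hL' : Lay N ≠ ⊥ := h.dg.lay_ne LN (lay_ns hL) ((f.le_comm2 h.ot (c hX XM).1).trans
    (cent_symm (((F_nil N).of_le (O_le _ _)).le_of_O fun p hp hd => cent_symm ?_)))
  · exact ZN.trans (h.lay_eq hM hN hL hL' LN (mx N ⟨Z, hN, Z0, Z1, ZN, hL'⟩)).ge
  have le : O[{p}](O'[F[N]]) ≤ O[{p}](F[N]) := (F_nil N).O_mono _ (O_le _ _)
  refine le_trans ?_ (centS le)
  by_cases hs : p ∣ #F[C1[t]]
  · rw [O_F]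
    exact (commS le_rfl (zpowers_le.2 (cent_symm (r.two hp hs) ((F_nil _).mem_O (Z_le_F _
      ⟨mem_C1_self t, le_C1_iff.1 le_rfl⟩) ((pie2 h.ot).ne_compl fun e =>
        O_pig {2}ᶜ _ p hp hd e.symm))))).trans (commR (normC (LN.trans (O_norm _ _))))
  · have nD : N ≤ N[O[{p | p ∣ #F[C1[t]]}ᶜ](F[N])] := normO _ (F_norm N)
    exact ((iv_of_fpf h.ot (h.oD N) (nD (c Z1 ZN).1) r.D_inf).comm_cent h.ot (LN.trans nD)).trans
      (centS (O_mono (Set.singleton_subset_iff.2 hs) _))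

end MC

namespace SD

variable (d : SD S t a b l M φ E q τ ε T)
include d

theorem tM : t ∈ M := d.nrm _ le_rfl d.ne
  (C_le_N _ (le_C1_iff.1 (inf_le_left.trans (inf_le_left.trans (FO_le t)))))
theorem aM : a ∈ M := d.nrm _ le_rfl d.ne
  (C_le_N _ (le_C1_iff.1 (inf_le_left.trans inf_le_right)))

theorem F1M : FO t ⊓ C1[a] ≤ M :=
  inf_eq_left.1 (((FO_nil t).of_le inf_le_left).eq_of_norm inf_le_left
    (inf_le_inf_left _ (d.nrm _ le_rfl d.ne)))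

theorem nrm' (hX : X ≤ FO t ⊓ C1[a]) (X0 : X ≠ ⊥) : N[X] ≤ M := d.nrm X (le_inf hX (hX.trans d.F1M)) X0

theorem ne' : FO t ⊓ C1[a] ≠ ⊥ := ne_bot_of_le_ne_bot d.ne inf_le_left

theorem F1O : FO t ⊓ C1[a] ≤ O'[M] := (le_inf le_rfl d.F1M).trans (d.f.le_O' d.m d.ci d.tM d.aM)

theorem CV : C1[t] ⊓ C1[a] ≤ M :=
  (normI (inf_le_left.trans (FO_norm t)) (normsG inf_le_right)).trans (d.nrm' le_rfl d.ne')

theorem mem_of_lay (e : Lay M ≤ BG.cj g M) : g ∈ M := by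
  have := d.simple
  have e := d.lay_eq d.max (coatom_cj d.max g) d.f.ne (by
    rw [← cj_Lay, Ne, cj_eq_bot]; exact d.f.ne) e (by rw [← cj_Lay, card_cj])
  exact N_coatom' d.max le_rfl (normG M) (ne_bot_of_mem d.tM (ne_one_of_ord2 d.ot)) ▸
    mem_N_iff_cj.2 e.symm

theorem mem_of_N (hX : X ≤ O'[M]) (h1 : X ≤ BG.cj g (FO t ⊓ C1[a])) (X0 : X ≠ ⊥) : g ∈ M := by
  refine d.mem_of_lay ((lay_cO M).trans ((centS hX).trans ((C_le_N _).trans ?_)))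
  rw [le_cj_iff, cj_N]
  exact d.nrm' (le_cj_iff.1 h1) (by rwa [Ne, cj_eq_bot])

theorem VL : t ∈ Lay M ∧ a ∈ Lay M := by
  obtain ⟨g, g1, g2⟩ := d.exists_g
  have e := d.ci.cjF g1 g2
  have gM := Lay_normal M (d.mem_of_N (g := g) ((le_inf le_rfl ((le_inf inf_le_right
    (inf_le_left.trans (FO_le a))).trans d.CV)).trans (d.f.le_O' d.m ⟨d.oa, d.ot, d.ant.symm,
      d.at'.symm⟩ d.aM d.tM)) e.ge (by rw [← e, Ne, cj_eq_bot]; exact d.ne'))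
  have k : t ∈ Lay M → t ∈ Lay M ∧ a ∈ Lay M := fun e => ⟨e, g1 ▸ conj_mem gM e⟩
  have k2 : t * a ∈ Lay M → t ∈ Lay M := fun e => d.g3 g1 g2 ▸ conj_mem gM e
  obtain ⟨v, ⟨hv, hv'⟩, v1⟩ := exists_mem_ne_one (d.dg.meet d.kf (VV_le.2 ⟨d.tM, d.aM⟩) Lay_le
    (Lay_normal M) (two_dvd_lay d.f.ne))
  rcases d.memV.1 hv' with rfl | rfl | rfl | rfl
  exacts [absurd rfl v1, k hv, k (k2 (g2 ▸ conj_mem gM hv)), k (k2 hv)]

theorem Ot : O'[M] ≤ C1[t] := le_C1_iff.2 (lay_cO M d.VL.1)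
theorem Oa : O'[M] ≤ C1[a] := le_C1_iff.2 (lay_cO M d.VL.2)

theorem F1e : FO t ⊓ O'[M] = FO t ⊓ C1[a] :=
  le_antisymm (inf_le_inf_left _ d.Oa) (le_inf inf_le_left d.F1O)

theorem F1n : M ≤ N[FO t ⊓ C1[a]] :=
  (d.dg.prod_lay d.ot d.VL.1).sup.ge.trans (sup_le (cents_norm ((lay_cO M).trans (centS d.F1O)))
    (d.F1e ▸ normI (inf_le_right.trans (FO_norm t)) (inf_le_left.trans (O_norm _ _))))

theorem HM : ¬ C1[t] ≤ M := fun e =>
  d.f.ne (((d.maxH.le_iff.1 e).resolve_left d.max.1).symm ▸ d.layH)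

theorem symm' (bM : b ∈ M) (h0 : FO t ⊓ C1[b] ⊓ M ≠ ⊥) : SD S t b a l M φ E q τ ε T :=
  ⟨d.toMC.symm, d.max, h0, fun X hX => d.nrm' (d.F1e ▸ le_inf (hX.trans (inf_le_left.trans
    inf_le_left)) (hX.trans (d.f.le_O' d.m d.toMC.symm.ci d.tM bM))), d.f, d.m⟩

theorem kk_le : ∃ n ≤ τ, kk t a = n * M.relIndex C1[t] := by
  classical
  have := Fintype.ofFinite Y
  refine ⟨(C1[a]).relIndex (M ⊓ C1[t]), ?_, ?_⟩
  · have tE := d.f.app_mem d.VL.1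
    have t2 := d.f.ord d.ot d.tM
    have c : ∀ x ∈ M ⊓ C1[t], x * a * x⁻¹ ∈ Lay M ∧ orderOf (x * a * x⁻¹) = 2 := fun x hx =>
      ⟨conj_mem (Lay_normal M hx.1) d.VL.2, by rw [orderOf_conj', d.oa]⟩
    refine (relIndex_le_ncard (fun x => φ.app (x * a * x⁻¹)) (Set.toFinite
      (((E ⊓ C1[φ.app t] : Subgroup Y) : Set Y) \ T (φ.app t))) (fun x hx => ?_)
      fun x hx y hy e => mem_C1.2 ?_).trans ?_
    · have m : x * a * x⁻¹ ∈ C1[t] := conj_mem (normG _ hx.2) d.ci.mem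
      have dm := d.f.mem (Lay_le (c x hx).1)
      refine ⟨⟨d.f.app_mem (c x hx).1, im_C1 (d.f.mem d.tM) le_rfl (app_mem_im m dm)⟩, fun e => ?_⟩
      have := d.f.inj (c x hx).2 d.ot (c x hx).1 d.VL.1 (Cyc.eq2 (d.m.cyc _ t2) e (d.m.mem _ tE t2)
        (d.f.ord (c x hx).2 (Lay_le (c x hx).1)) t2)
      rw [mul_inv_eq_iff_eq_mul, ← mem_C1.1 hx.2, mul_right_inj] at this
      exact d.ant this
    · have := d.f.inj (c x hx).2 (c y hy).2 (c x hx).1 (c y hy).1 e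
      calc _ = x⁻¹ * (y * a * y⁻¹) * y := by group
        _ = _ := by rw [← this]; group
    · rw [Set.ncard_sdiff (d.m.le _ t2)]
      have e1 := d.m.cC _ tE t2
      have e2 := d.m.cin _ tE t2
      change (_ : Set Y).ncard = _ at e1 e2
      omega
  · rw [kk, ← inf_relIndex_right C1[a], ← inf_relIndex_right C1[a], ← inf_relIndex_right M,
      ← relIndex_mul_relIndex _ (M ⊓ C1[t]) _ (le_inf ((inf_comm _ _).le.trans d.CV) inf_le_right)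
        inf_le_right]
    congr 2
    exact le_antisymm (le_inf inf_le_left (le_inf ((inf_comm _ _).le.trans d.CV) inf_le_right))
      (inf_le_inf_left _ inf_le_right)

theorem idx : M.index * (C1[t]).relIndex M = (C1[t]).index * M.relIndex C1[t] := by
  rw [← inf_relIndex_right C1[t], ← inf_relIndex_right M, mul_comm,
    relIndex_mul_index inf_le_right, mul_comm, relIndex_mul_index inf_le_right, inf_comm]

theorem fus : ∃ g, g * t * g⁻¹ = a ∧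
    ∀ z ∈ O'[C1[t]] ⊓ C1[a], z⁻¹ * (g⁻¹ * z * g) ∈ Lay M ⊓ O'[M] := by
  obtain ⟨g, gL, g1, g2⟩ := d.dg.exists_g (Lay_perfect M) d.ot d.oa d.ant d.at' d.VL.1 d.VL.2
  have le : Lay M ⊓ (O'[C1[t]] ⊓ C1[a]) ≤ O'[M] := by
    have o : PiG {2}ᶜ (Lay M ⊓ (O'[C1[t]] ⊓ C1[a])) :=
      (O_pig _ _).of_le (inf_le_right.trans inf_le_left)
    exact d.f.le_O d.m d.ci d.tM d.aM (inf_le_left.trans Lay_le) o (d.m.odd_le (d.f.ord d.ot d.tM)
      (d.f.app_mem d.VL.1) (o.im φ) (le_inf (d.f.im ▸ im_mono inf_le_left) (im_C1 (d.f.mem d.tM)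
        (inf_le_right.trans (inf_le_left.trans (O_le _ _)))))) (inf_le_right.trans inf_le_right)
  refine ⟨g, g1, fun z hz => ?_⟩
  have m : z⁻¹ * (g⁻¹ * z * g) ∈ Lay M := by
    simpa [mul_assoc] using mul_mem (conj_mem' (Lay_normal M (d.CV ⟨O_le _ _ hz.1, hz.2⟩))
      (inv_mem gL)) gL
  exact ⟨m, le (mem_inf.2 ⟨m, mul_mem (inv_mem hz) (conj_mem' (d.NB (d.mem_N g1 g2)) hz)⟩)⟩

end SD

end Cfsg.Agent.GW
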