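import Cfsg.Agent.GW.C2

/-! The second case: the counting argument. -/

set_option autoImplicit false
set_option linter.unusedVariables false
set_option linter.unusedSectionVars false

namespace Cfsg.Agent.GW

open Cfsg Cfsg.Agent.BG Cfsg.Agent.Dih Subgroup PHom
open Cfsg.Agent.Comp (Lay FStar SubIn CompIn QS Lay_le Lay_normal Lay_perfect)
open Cfsg.Agent.H8 (N_coatom')
open Cfsg.Agent.Inv (ord2_iff sq_of_ord2 ne_one_of_ord2 inv_of_ord2 orderOf_conj' orderOf_conj''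
  orderOf_isConj)
open scoped commutatorElement

universe u

variable {G : Type u} [Group G] [Finite G] {Y : Type u} [Group Y] [Finite Y] {φ : PHom G Y}
  {A B D J K L M N P Q R S V W X Z : Subgroup G} {t a b s v w g y : G} {l p : ℕ} {E : Subgroup Y}
  {q τ : ℕ} {ε : ℤ} {T : Y → Subgroup Y}

theorem lines (hp : p.Prime) (cZ : #Z = p) (hD : D ≤ W)
    (h : ∀ x ∈ J, cj x Z ≤ W ∧ cj x Z ⊓ D = ⊥) : N[Z].relIndex J * (p - 1) + #D ≤ #W := by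
  classical
  have := Fintype.ofFinite G
  have c : ∀ X : Subgroup G, (X : Set G).toFinset.card = #X := fun X => by
    rw [Set.toFinset_card, ← Nat.card_eq_fintype_card]; rfl
  set C := (J : Set G).toFinset.image fun x => cj x Z
  have h1 : N[Z].relIndex J ≤ C.card := relIndex_le_card (fun x => cj x Z) C
    (fun x hx => Finset.mem_image_of_mem _ (Set.mem_toFinset.2 hx))
    fun x _ y _ e => mem_N_iff_cj.2 (by rw [cj_mul, ← e, ← cj_mul, inv_mul_cancel, cj_one])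
  have h2 : ∀ X ∈ C, #X = p ∧ X ≤ W ∧ X ⊓ D = ⊥ := fun X hX => by
    obtain ⟨x, hx, rfl⟩ := Finset.mem_image.1 hX
    exact ⟨by rw [card_cj, cZ], h x (Set.mem_toFinset.1 hx)⟩
  have h3 := Finset.card_le_card (s := C.biUnion fun X => (X : Set G).toFinset.erase 1)
    (t := (W : Set G).toFinset \ (D : Set G).toFinset) fun x hx => by
      obtain ⟨X, hX, hx⟩ := Finset.mem_biUnion.1 hx
      simp only [Finset.mem_erase, Set.mem_toFinset, Finset.mem_sdiff] at hx ⊢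
      exact ⟨(h2 X hX).2.1 hx.2, fun e => hx.1 (mem_bot.1 ((h2 X hX).2.2.le ⟨hx.2, e⟩))⟩
  rw [Finset.card_biUnion, Finset.card_sdiff_of_subset (Set.toFinset_mono hD), c, c,
    Finset.sum_const_nat (m := p - 1) fun X hX => by
      rw [Finset.card_erase_of_mem (by simp), c, (h2 X hX).1]] at h3
  · have := Nat.mul_le_mul_right (p - 1) h1
    have := card_le hD
    omega
  · intro X hX X' hX' ne
    refine Finset.disjoint_left.2 fun x h1 h3 => ne ?_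
    simp only [Finset.mem_erase, Set.mem_toFinset] at h1 h3
    exact (eq_zpowers_of_prime ((h2 X hX).1 ▸ hp) h1.2 h1.1).symm.trans
      (eq_zpowers_of_prime ((h2 X' hX').1 ▸ hp) h3.2 h3.1)

theorem le_card_sigma {α β : Type*} {s : Finset α} {f : α → Finset β} {n : ℕ}
    (h : ∀ x ∈ s, n ≤ (f x).card) : s.card * n ≤ (s.sigma f).card := by
  rw [Finset.card_sigma]
  exact Finset.card_nsmul_le_sum s _ n h

/-- the conjugates of `Z` attached to the involution `v` -/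
def ZS (Z M : Subgroup G) (p : ℕ) (v : G) : Set (Subgroup G) :=
  {X | (∃ g, X = cj g Z) ∧ X ≤ O[{p}](FO v) ⊓ M ∧ X ≠ Z}

namespace SD

variable (d : SD S t a b l M φ E q τ ε T) (hp : p.Prime) (hZ : Z ≤ O[{p}](FO t) ⊓ C1[a])
  (cZ : #Z = p)
include d hp hZ cZ

theorem Z0 : Z ≠ ⊥ := ne_bot_of_prime (cZ ▸ hp)
theorem ZF : Z ≤ FO t ⊓ C1[a] := hZ.trans (inf_le_inf_right _ (O_le _ _))
theorem p2 : p ≠ 2 := ((FO_odd t).mem_of_card hp ((d.ZF hp hZ cZ).trans inf_le_left) cZ)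

theorem P1n : N[O[{p}](FO t) ⊓ C1[a]] ≤ M :=
  d.nrm' (inf_le_inf_right _ (O_le _ _)) (ne_bot_of_le_ne_bot (d.Z0 hp hZ cZ) hZ)

theorem exh : ∃ x ∈ C1[t] ⊓ N[O[{p}](FO t) ⊓ M], x ∉ M := by
  by_cases e : O[{p}](FO t) ≤ M
  · rw [inf_eq_left.2 e, inf_eq_left.2 (normO _ (FO_norm t))]
    exact SetLike.not_le_iff_exists.1 d.HM
  · obtain ⟨x, hx, hx'⟩ := SetLike.exists_of_lt ((O_pig {p} (FO t)).nil.lt_norm
      (inf_lt_left.2 e))
    exact ⟨x, ⟨FO_le t (O_le _ _ hx.1), hx.2⟩, fun e => hx' ⟨hx.1, e⟩⟩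

theorem PT : φ.im (O[{p}](FO t) ⊓ M) ≤ T (φ.app t) :=
  d.f.imT d.m d.ot d.tM (inf_le_inf_right _ (O_le _ _))

theorem P1M : O[{p}](FO t) ⊓ C1[a] ≤ O[{p}](FO t) ⊓ M :=
  le_inf inf_le_left ((inf_le_inf_right _ (O_le _ _)).trans d.F1M)

theorem P1c : Cyc (O[{p}](FO t) ⊓ C1[a]) := by
  obtain ⟨x, hx, hx'⟩ := d.exh hp hZ cZ
  have le := cj_le_of_mem (d.P1M hp hZ cZ) hx.2
  rw [← cyc_cj (g := x)]
  exact cyc_of_im_inj (d.f.le (le.trans inf_le_right)) (by_contra fun e => hx' (d.mem_of_N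
    (d.f.ker ▸ inf_le_right) (inf_le_left.trans (map_mono (inf_le_inf_right _ (O_le _ _)))) e))
    ((d.m.cyc _ (d.f.ord d.ot d.tM)).of_le ((im_mono le).trans (d.PT hp hZ cZ)))

theorem P1e : O[{p}](FO t) ⊓ M ⊓ φ.ker = O[{p}](FO t) ⊓ C1[a] := by
  rw [d.f.ker]
  exact le_antisymm (inf_le_inf inf_le_left d.Oa) (le_inf (d.P1M hp hZ cZ)
    ((inf_le_inf_right _ (O_le _ _)).trans d.F1O))

theorem pτ : 2 * p ∣ τ := by
  have t2 := d.f.ord d.ot d.tM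
  refine Nat.Coprime.mul_dvd_of_dvd_of_dvd ((Nat.coprime_primes Nat.prime_two hp).2
    (d.p2 hp hZ cZ).symm) d.m.ev.two_dvd (d.m.cin _ (d.f.app_mem d.VL.1) t2 ▸ (PiG.dvd
      (((O_pig _ _).of_le inf_le_left).im φ) fun e => ?_).trans (cardS (d.PT hp hZ cZ)))
  obtain ⟨x, hx, hx'⟩ := d.exh hp hZ cZ
  have := d.P1e hp hZ cZ
  rw [inf_eq_left.2 ((im_eq_bot_iff (d.f.le inf_le_right)).1 e)] at this
  exact hx' (d.P1n hp hZ cZ (this ▸ hx.2))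

theorem ZN : N[Z] = M :=
  le_antisymm (d.nrm' (d.ZF hp hZ cZ) (d.Z0 hp hZ cZ)) ((d.P1c hp hZ cZ).norm_sub hZ (by
    have := normO {p} d.F1n
    rwa [(FO_nil t).O_eq_inf _ inf_le_left, ← inf_assoc, inf_eq_left.2 (O_le _ _)] at this))

theorem PMc (h1 : Lay M ≤ C[A]) (h2 : O[{p}](FO t) ⊓ C1[a] ≤ C[A]) : O[{p}](FO t) ⊓ M ≤ C[A] :=
  (prod2 d.oa ((FO_odd t).of_le (inf_le_left.trans (O_le _ _))) (zpowers_le.1 (normI
    (zpowers_le.2 (normO _ (FO_norm t) d.ci.mem)) (normsG (zpowers_le.2 d.aM))))).sup.ge.trans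
    (sup_le (((commS inf_le_right (zpowers_le.2 d.VL.2)).trans (commR (Lay_normal M))).trans h1)
      ((inf_le_inf_right _ inf_le_left).trans h2))

theorem PMa : Abel (O[{p}](FO t) ⊓ M) :=
  abel_of_cyc_im (d.f.le inf_le_right) (d.P1e hp hZ cZ ▸ cent_symm (d.PMc hp hZ cZ
    ((lay_cO M).trans (centS ((inf_le_inf_right _ (O_le _ _)).trans d.F1O))) (d.P1c hp hZ cZ).abel))
    ((d.m.cyc _ (d.f.ord d.ot d.tM)).of_le (d.PT hp hZ cZ))

theorem sq_le (hA : A ≤ O[{p}](FO t) ⊓ M) (e : ∀ x ∈ A, x ^ p = 1) : #A ≤ p * p := by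
  have AM := d.f.le (hA.trans inf_le_right)
  rw [← card_im_mul AM]
  exact Nat.mul_le_mul (Nat.le_of_dvd hp.pos (cyc_exp_card hp ((d.P1c hp hZ cZ).of_le
    (d.P1e hp hZ cZ ▸ inf_le_inf_right _ hA)) fun x hx => e x hx.1)) (Nat.le_of_dvd hp.pos
    (cyc_exp_card hp ((d.m.cyc _ (d.f.ord d.ot d.tM)).of_le ((im_mono hA).trans (d.PT hp hZ cZ)))
      fun x hx => by
        obtain ⟨y, hy, rfl⟩ := (mem_im' AM).1 hx
        rw [← app_pow (AM hy), e y hy, app_one]))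

theorem Pv (vL : v ∈ Lay M) (hv : orderOf v = 2) : Z ≤ O[{p}](FO v) ∧ O[{p}](FO v) ⊓ M ≤ C[Z] ∧
    FO v ⊓ O'[M] = FO t ⊓ C1[a] := by
  obtain ⟨e, eL, rfl⟩ := d.dg.conj (Lay_perfect M) d.ot hv d.VL.1 vL
  have eM := Lay_le eL
  have eZ := cj_of_mem_N (d.ZN hp hZ cZ ▸ eM : e ∈ N[Z])
  rw [← cj_FO, ← cj_O]
  refine ⟨eZ ▸ map_mono (hZ.trans inf_le_left), ?_, ?_⟩
  · rw [← cj_of_mem eM, ← eZ, ← cj_inf, cent_cj]
    exact (d.PMa hp hZ cZ).trans (centS (hZ.trans (d.P1M hp hZ cZ)))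
  · rw [← cj_of_mem_N (O_norm _ _ eM), ← cj_inf, d.F1e, cj_of_mem_N (d.F1n eM)]

theorem Zim (vL : v ∈ Lay M) (hv : orderOf v = 2) (hX : X ∈ ZS Z M p v) :
    ∃ y ∈ T (φ.app v), orderOf y = p ∧ φ.im X = zpowers y := by
  obtain ⟨⟨g, rfl⟩, h1, h2⟩ := hX
  have c : #(φ.im (BG.cj g Z)) = p := by
    rw [card_im_inj (d.f.le (h1.trans inf_le_right)), card_cj, cZ]
    exact by_contra fun e => h2 (cj_of_mem_N (d.ZN hp hZ cZ ▸ d.mem_of_N (d.f.ker ▸ inf_le_right)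
      (inf_le_left.trans (map_mono (d.ZF hp hZ cZ))) e))
  obtain ⟨y, hy, yp⟩ := cauchy hp c.symm.dvd
  exact ⟨y, d.f.imT d.m hv (Lay_le vL) (h1.trans (inf_le_inf_right _ (O_le _ _))) hy, yp,
    (eq_zpowers_of_prime (c ▸ hp) hy fun e => hp.ne_one (by rw [← yp, e, orderOf_one])).symm⟩

theorem ZS_inj (vL : v ∈ Lay M) (hv : orderOf v = 2) (wL : w ∈ Lay M) (hw : orderOf w = 2)
    (h1 : X ∈ ZS Z M p v) (h2 : X ∈ ZS Z M p w) : v = w := by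
  obtain ⟨y, hy, yp, e⟩ := d.Zim hp hZ cZ vL hv h1
  exact d.f.inj hv hw vL wL (d.m.ti _ (d.f.app_mem vL) _ (d.f.app_mem wL) (d.f.ord hv (Lay_le vL))
    (d.f.ord hw (Lay_le wL)) y hy (d.f.imT d.m hw (Lay_le wL) (h2.2.1.trans (inf_le_inf_right _
      (O_le _ _))) (e ▸ mem_zpowers y)) (yp ▸ hp.odd_of_ne_two (d.p2 hp hZ cZ))
    fun e => hp.ne_one (by rw [← yp, e, orderOf_one]))

theorem two_mem' (vL : v ∈ Lay M) (hv : orderOf v = 2) (wL : w ∈ Lay M) (hw : orderOf w = 2)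
    (h1 : X ∈ ZS Z M p v) (h2 : R ∈ ZS Z M p w) (hs : s ∈ X ⊔ R) (s2 : orderOf s = 2) :
    s ∈ Lay M ∧ Z ≤ O[{p}](FO s) ⊓ C[X ⊔ R] := by
  have k : ∀ {v X}, v ∈ Lay M → orderOf v = 2 → X ∈ ZS Z M p v → X ≤ M ∧ φ.im X ≤ E ∧ Z ≤ C[X] :=
    fun vL hv h => ⟨h.2.1.trans inf_le_right, (d.f.imT d.m hv (Lay_le vL) (h.2.1.trans
      (inf_le_inf_right _ (O_le _ _)))).trans ((d.m.le _ (d.f.ord hv (Lay_le vL))).trans inf_le_left),
      cent_symm (h.2.1.trans (d.Pv hp hZ cZ vL hv).2.1)⟩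
  obtain ⟨a1, a2, a3⟩ := k vL hv h1
  obtain ⟨b1, b2, b3⟩ := k wL hw h2
  have sM := sup_le a1 b1 hs
  have sL := d.f.mem_lay s2 sM (sup_le a2 b2 (im_sup (d.f.le a1) (d.f.le b1) ▸
    app_mem_im hs (d.f.mem sM)))
  exact ⟨sL, le_inf (d.Pv hp hZ cZ sL s2).1 (centY a3 b3)⟩

theorem key (vL : v ∈ Lay M) (hv : orderOf v = 2) (wL : w ∈ Lay M) (hw : orderOf w = 2)
    (h1 : BG.cj g X ∈ ZS Z M p v) (h2 : BG.cj g R ∈ ZS Z M p w) {v' w' : G} (vL' : v' ∈ Lay M)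
    (hv' : orderOf v' = 2) (wL' : w' ∈ Lay M) (hw' : orderOf w' = 2) (h1' : X ∈ ZS Z M p v')
    (h2' : R ∈ ZS Z M p w') (e : 2 ∣ #(X ⊔ R)) : g ∈ M := by
  obtain ⟨s, hs, s2⟩ := cauchy Nat.prime_two e
  obtain ⟨-, z1⟩ := d.two_mem' hp hZ cZ vL' hv' wL' hw' h1' h2' hs s2
  have z2 : BG.cj g Z ≤ _ := map_mono (f := (MulAut.conj g).toMonoidHom) z1
  change _ ≤ BG.cj g _ at z2
  rw [cj_inf, cj_O, cj_FO, cj_C, cj_sup] at z2
  have hu : g * s * g⁻¹ ∈ BG.cj g X ⊔ BG.cj g R := cj_sup g X R ▸ mem_cj_conj.2 hs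
  have u2 : orderOf (g * s * g⁻¹) = 2 := by rw [orderOf_conj', s2]
  generalize g * s * g⁻¹ = u at *
  generalize BG.cj g X = X at *
  generalize BG.cj g R = R at *
  obtain ⟨uL, z3⟩ := d.two_mem' hp hZ cZ vL hv wL hw h1 h2 hu u2
  have uM := Lay_le uL
  have ub := d.f.ord u2 uM
  have uE := d.f.app_mem uL
  have le : O[{p}](FO u) ⊓ C[X ⊔ R] ⊓ M ≤ FO t ⊓ C1[a] := fun c hc => by
    rw [← (d.Pv hp hZ cZ uL u2).2.2]
    refine ⟨O_le _ _ hc.1.1, (d.f.app_eq_one hc.2).1 (by_contra fun c1 => ?_)⟩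
    have cT := d.f.imT d.m u2 uM le_rfl (app_mem_im ⟨O_le _ _ hc.1.1, hc.2⟩ (d.f.mem hc.2))
    have k : ∀ {v X}, v ∈ Lay M → orderOf v = 2 → X ∈ ZS Z M p v → c ∈ C[X] →
        PiG {2}ᶜ (φ.im X) ∧ φ.im X ≤ T (φ.app u) := fun {v X} vL hv h hc' => by
      obtain ⟨y, hy, yp, e⟩ := d.Zim hp hZ cZ vL hv h
      have yE := (d.m.le _ (d.f.ord hv (Lay_le vL)) hy).1
      have o : PiG {2}ᶜ (φ.im X) := (((FO_odd v).of_le (h.2.1.trans
        (inf_le_left.trans (O_le _ _)))).im φ)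
      have cy : y * φ.app c = φ.app c * y := mem_C.1 (im_cent (zpowers_le.2 hc')
        (app_mem_im (mem_zpowers c) (d.f.mem hc.2))) y (e ▸ mem_zpowers y)
      have := d.m.ti _ uE _ (mul_mem (mul_mem yE uE) (inv_mem yE)) ub (by rw [orderOf_conj', ub]) _
        cT (by rw [d.m.cj _ _ ub, mem_cj, mul_assoc, ← cy, inv_mul_cancel_left]; exact cT)
        (odd_iff.1 (((FO_odd u).elt (O_le _ _ hc.1.1)).app (d.f.mem hc.2))) c1
      exact ⟨o, d.m.odd_le ub uE o (e ▸ zpowers_le.2 ⟨yE, mem_C1.2 (eq_mul_inv_iff_mul_eq.1 this).symm⟩)⟩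
    obtain ⟨a1, a2⟩ := k vL hv h1 (centS le_sup_left hc.1.2)
    obtain ⟨b1, b2⟩ := k wL hw h2 (centS le_sup_right hc.1.2)
    have := app_mem_im hu (d.f.mem uM)
    rw [im_sup (d.f.le (h1.2.1.trans inf_le_right)) (d.f.le (h2.2.1.trans inf_le_right))] at this
    exact ne_one_of_ord2 ub ((pie2 ub).eq_one ((a1.sup_l b1
      (b2.trans (abel_norm (d.m.cyc _ ub).abel a2))).elt this))
  have ZM : Z ≤ M := (d.ZF hp hZ cZ).trans d.F1M
  have eq := ((O_pig {p} (FO u)).of_le inf_le_left).nil.eq_of_norm inf_le_left (inf_le_inf_left _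
    (d.nrm' le (ne_bot_of_le_ne_bot (d.Z0 hp hZ cZ) (le_inf z3 ZM))))
  exact d.mem_of_N (z2.trans (eq.ge.trans (le.trans d.F1O))) (map_mono (d.ZF hp hZ cZ))
    (by rw [Ne, cj_eq_bot]; exact d.Z0 hp hZ cZ)

theorem count (hJ : J ≤ C1[t]) (h : ∀ x ∈ J, BG.cj x Z ≤ M) : ∃ β : ℕ,
    (β : ℤ) ≤ 1 + (1 + ε) * (q - 1) ∧ (C1[t]).relIndex M * ((M.relIndex J - 1) *
      (((C1[t]).relIndex M - β) * (M.relIndex J - 1))) ≤ M.index := by
  classical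
  have := Fintype.ofFinite G
  have := Fintype.ofFinite (Subgroup G)
  have := Fintype.ofFinite (G ⧸ M)
  have eN := d.ZN hp hZ cZ
  set I := Finset.univ.filter fun v => v ∈ Lay M ∧ orderOf v = 2
  have mI : ∀ {v}, v ∈ I ↔ v ∈ Lay M ∧ orderOf v = 2 := by simp [I]
  have cI : (C1[t]).relIndex M ≤ I.card := relIndex_le_card (fun x => x * t * x⁻¹) I
    (fun x hx => mI.2 ⟨conj_mem (Lay_normal M hx) d.VL.1, by rw [orderOf_conj', d.ot]⟩)
    fun x _ y _ e => mem_C1.2 (by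
      calc _ = x⁻¹ * (y * t * y⁻¹) * y := by group
        _ = _ := by rw [← e]; group)
  have cZ' : ∀ v ∈ I, M.relIndex J - 1 ≤ (ZS Z M p v).toFinset.card := fun v hv => by
    obtain ⟨e, eL, rfl⟩ := d.dg.conj (Lay_perfect M) d.ot (mI.1 hv).2 d.VL.1 (mI.1 hv).1
    have := (relIndex_le_card (D := M) (X := J) (fun x => BG.cj (e * x) Z)
      (insert Z (ZS Z M p (e * t * e⁻¹)).toFinset) (fun x hx => by
        rw [Finset.mem_insert, or_iff_not_imp_left, Set.mem_toFinset]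
        refine fun ne => ⟨⟨_, rfl⟩, ?_, ne⟩
        rw [← cj_FO, ← cj_O, ← cj_of_mem (Lay_le eL), ← cj_inf, cj_mul]
        exact map_mono (le_inf (cj_le_of_mem (hZ.trans inf_le_left) (normO _ (FO_norm t) (hJ hx)))
          (h x hx)))
      fun x _ y _ e => eN ▸ mem_N_iff_cj.2 (by
        rw [cj_mul, cj_mul, cj_eq_cj] at e
        rw [cj_mul, ← e, ← cj_mul, inv_mul_cancel, cj_one])).trans (Finset.card_insert_le _ _)
    omega
  obtain ⟨β, hβ⟩ : ∃ β : ℕ, (β : ℤ) = 1 + (1 + ε) * (q - 1) := by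
    have := d.m.q3
    exact Int.eq_ofNat_of_zero_le (by rcases d.m.eps with rfl | rfl <;> omega) |>.imp fun _ => Eq.symm
  set Gd := fun X : Subgroup G => I.filter fun w => ∀ R ∈ ZS Z M p w, 2 ∣ #(X ⊔ R)
  have cG : ∀ v ∈ I, ∀ X ∈ ZS Z M p v, (C1[t]).relIndex M - β ≤ (Gd X).card := fun v hv X hX => by
    obtain ⟨vL, v2⟩ := mI.1 hv
    obtain ⟨y, hy, yp, e⟩ := d.Zim hp hZ cZ vL v2 hX
    have l5 := d.m.l5 _ (d.f.app_mem vL) (d.f.ord v2 (Lay_le vL)) y hy (yp ▸ hp)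
      (yp ▸ d.p2 hp hZ cZ)
    rw [← hβ, Int.ofNat_le] at l5
    have := Finset.card_filter_add_card_filter_not (s := I)
      fun w => ∀ R ∈ ZS Z M p w, 2 ∣ #(X ⊔ R)
    have := (Set.ncard_coe_finset _).ge.trans ((Set.ncard_le_ncard_of_injOn φ.app (s := ↑(I.filter
      fun w => ¬ ∀ R ∈ ZS Z M p w, 2 ∣ #(X ⊔ R))) (fun w hw => by
        simp only [Finset.coe_filter, Set.mem_ofPred_eq, not_forall] at hw
        obtain ⟨hw, R, hR, o⟩ := hw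
        obtain ⟨wL, w2⟩ := mI.1 hw
        obtain ⟨z, hz, zp, e'⟩ := d.Zim hp hZ cZ wL w2 hR
        refine ⟨d.f.app_mem wL, d.f.ord w2 (Lay_le wL), z, hz, zp.trans yp.symm, ?_⟩
        rw [← e, ← e', ← im_sup (d.f.le (hX.2.1.trans inf_le_right))
          (d.f.le (hR.2.1.trans inf_le_right))]
        exact odd_iff.1 (PiG.im ((pin_compl Nat.prime_two).2 o) φ)) fun w hw w' hw' e => by
        obtain ⟨a1, a2⟩ := mI.1 (Finset.mem_filter.1 hw).1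
        obtain ⟨b1, b2⟩ := mI.1 (Finset.mem_filter.1 hw').1
        exact d.f.inj a2 b2 a1 b1 e).trans l5)
    change _ ≤ (I.filter _).card
    omega
  set D := I.sigma fun v => (ZS Z M p v).toFinset.sigma fun X => (Gd X).sigma
    fun w => (ZS Z M p w).toFinset
  set Ω := Finset.univ.image fun c : G ⧸ M => BG.cj c.out Z
  have mΩ : ∀ g {v X}, X ∈ ZS Z M p v → BG.cj g X ∈ Ω := by
    rintro g v X ⟨⟨k, rfl⟩, -⟩
    obtain ⟨x, hx⟩ := QuotientGroup.mk_out_eq_mul M (g * k)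
    exact Finset.mem_image.2 ⟨_, Finset.mem_univ _, by
      rw [hx, cj_mul, cj_of_mem_N (eN.ge x.2), cj_mul]⟩
  have cΩ : Ω.card ≤ M.index := Finset.card_image_le.trans (by
    rw [index_eq_card, Nat.card_eq_fintype_card, Finset.card_univ])
  have inj := Finset.card_le_card_of_injOn (s := (Finset.univ : Finset (G ⧸ M)) ×ˢ D) (t := Ω ×ˢ Ω)
    (fun x => (BG.cj x.1.out x.2.2.1, BG.cj x.1.out x.2.2.2.2)) (by
      rintro ⟨c, v, X, w, R⟩ hx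
      simp only [D, Finset.coe_product, Set.mem_prod, Finset.mem_coe, Finset.mem_sigma,
        Set.mem_toFinset] at hx ⊢
      exact ⟨mΩ _ hx.2.2.1, mΩ _ hx.2.2.2.2⟩) (by
      rintro ⟨c, v, X, w, R⟩ hx ⟨c', v', X', w', R'⟩ hx' e
      simp only [D, Gd, Finset.coe_product, Set.mem_prod, Finset.mem_coe, Finset.mem_sigma,
        Set.mem_toFinset, Finset.mem_filter, mI, Prod.mk.injEq] at hx hx' e
      obtain ⟨-, ⟨a1, a2⟩, a3, ⟨⟨a4, a5⟩, a6⟩, a7⟩ := hx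
      obtain ⟨-, ⟨b1, b2⟩, b3, ⟨⟨b4, b5⟩, b6⟩, b7⟩ := hx'
      have e1 := cj_eq_iff.1 e.1
      have e2 := cj_eq_iff.1 e.2
      rw [← cj_mul] at e1 e2
      obtain rfl : c = c' := by
        rw [← c.out_eq, ← c'.out_eq]
        exact QuotientGroup.eq.2 (d.key hp hZ cZ a1 a2 a4 a5 (e1 ▸ a3) (e2 ▸ a7) b1 b2 b4 b5 b3 b7
          (b6 _ b7))
      rw [inv_mul_cancel, cj_one] at e1 e2
      subst e1 e2
      rw [d.ZS_inj hp hZ cZ a1 a2 b1 b2 a3 b3, d.ZS_inj hp hZ cZ a4 a5 b4 b5 a7 b7])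
  rw [Finset.card_product, Finset.card_product, Finset.card_univ, ← Nat.card_eq_fintype_card,
    ← index_eq_card] at inj
  refine ⟨β, hβ.le, le_trans ?_ (Nat.le_of_mul_le_mul_left (inj.trans (Nat.mul_le_mul cΩ cΩ))
    (Nat.pos_of_ne_zero index_ne_zero_of_finite))⟩
  exact (Nat.mul_le_mul_right _ cI).trans (le_card_sigma fun v hv => (Nat.mul_le_mul_right _
    (cZ' v hv)).trans (le_card_sigma fun X hX => (Nat.mul_le_mul_right _ (cG v hv X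
      (Set.mem_toFinset.1 hX))).trans (le_card_sigma fun w hw => cZ' w (Finset.mem_filter.1 hw).1)))

theorem count' (hJ : J ≤ C1[t]) (h : ∀ x ∈ J, BG.cj x Z ≤ M) :
    ((M.relIndex J : ℤ) - 1) ^ 2 * (((2 * τ - 1) * (τ - 1)) ^ 2 * (τ * (2 * τ - 3))) ≤
      (C1[t]).index * M.relIndex C1[t] := by
  obtain ⟨β, h1, h2⟩ := d.count hp hZ cZ hJ h
  have e := d.idx
  have j := d.f.idx d.m d.ot d.VL.1
  have := relIndex_pos M J
  have q1 := d.m.qeq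
  have t3 := d.m.three
  have ep := d.m.eps
  obtain ⟨μ, hμ⟩ : ∃ μ, M.relIndex J = μ + 1 := ⟨_, (Nat.sub_add_cancel this).symm⟩
  rw [hμ, Nat.add_sub_cancel] at h2
  generalize (C1[t]).relIndex M = i at *
  have a1 : (2 * τ - 1) * (τ - 1) ≤ (i : ℤ) := by rcases ep with rfl | rfl <;> nlinarith
  have a2 : τ * (2 * τ - 3) ≤ ((i - β : ℕ) : ℤ) := by
    refine le_trans ?_ (Int.le_natCast_sub i β)
    rcases ep with rfl | rfl <;> nlinarith
  have a0 : 0 ≤ (2 * τ - 1) * (τ - 1 : ℤ) := by apply mul_nonneg <;> omega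
  have a3 : 0 ≤ τ * (2 * τ - 3 : ℤ) := by apply mul_nonneg <;> omega
  rw [← Nat.cast_mul, ← e, hμ]
  calc _ ≤ (μ : ℤ) ^ 2 * (i ^ 2 * (i - β : ℕ)) := by
        rw [Nat.cast_add, Nat.cast_one, add_sub_cancel_right]; gcongr
    _ = ((i * (μ * ((i - β) * μ)) * i : ℕ) : ℤ) := by push_cast; ring
    _ ≤ _ := Int.ofNat_le.2 (Nat.mul_le_mul_right _ h2)

end SD

end Cfsg.Agent.GW
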