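import Cfsg.Agent.GW.C3
import Cfsg.Agent.PLoc.Transfer2

/-! The second case and the final contradiction. -/

set_option autoImplicit false
set_option linter.unusedVariables false
set_option linter.unusedSectionVars false

namespace Cfsg.Agent.GW

open Cfsg Cfsg.Agent.BG Cfsg.Agent.Dih Subgroup PHom
open Cfsg.Agent.Comp (Lay FStar SubIn CompIn QS Lay_le Lay_normal Lay_perfect)
open Cfsg.Agent.H8 (N_coatom')
open Cfsg.Agent.Inv (ord2_iff sq_of_ord2 ne_one_of_ord2 inv_of_ord2 orderOf_conj' orderOf_conj''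
  orderOf_isConj)
open scoped commutatorElement

universe u

theorem numA {N m n τ p : ℤ} (h1 : (m - 1) ^ 2 * (((2 * τ - 1) * (τ - 1)) ^ 2 * (τ * (2 * τ - 3))) ≤
    N * m) (h2 : N ≤ 136 * (n * m) ^ 2) (h3 : n ≤ τ) (h0 : 0 ≤ n) (h4 : 2 ≤ m) (h5 : m ≤ p + 1)
    (h6 : 2 * p ≤ τ) (h7 : 3 ≤ p) : False := by
  obtain ⟨μ, rfl⟩ : ∃ μ, m = μ + 1 := ⟨m - 1, by ring⟩
  have a0 : 0 < μ := by omega
  have a1 : 0 < τ := by omega
  refine lt_irrefl _ (calc μ ^ 2 * τ ^ 3 * 729 = (μ + 1 - 1) ^ 2 * ((9 * τ) ^ 2 * (τ * 9)) := by ring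
    _ ≤ _ := by gcongr _ * (?_ ^ 2 * (τ * ?_)) <;> nlinarith
    _ ≤ N * (μ + 1) := h1
    _ ≤ 136 * (n * (μ + 1)) ^ 2 * (μ + 1) := by gcongr
    _ ≤ 136 * (τ * (2 * μ)) ^ 2 * τ := by gcongr <;> omega
    _ = μ ^ 2 * τ ^ 3 * 544 := by ring
    _ < _ := by gcongr _ * ?_; norm_num)

theorem numB {N m n τ p μ : ℤ} (h1 : μ ^ 2 * (((2 * τ - 1) * (τ - 1)) ^ 2 * (τ * (2 * τ - 3))) ≤
    N * m) (h2 : N ≤ 15 * (n * m) ^ 2) (h3 : n ≤ τ) (h0 : 0 ≤ n) (h4 : 0 ≤ m) (h5 : m ≤ p * (p + 1))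
    (h6 : p - 1 ≤ μ) (h7 : p = 3 ∧ 12 ≤ τ ∨ 5 ≤ p ∧ 2 * p ≤ τ) : False := by
  have a1 : 10 ≤ τ := by omega
  have a2 : 0 ≤ p - 1 := by omega
  have k : τ ^ 2 * ((p - 1) ^ 2 * τ ^ 4 * 4913) ≤ τ ^ 2 * (15000 * (p * (p + 1)) ^ 3) :=
    calc _ = (p - 1) ^ 2 * ((17 * τ ^ 2) ^ 2 * (τ * (17 * τ))) := by ring
      _ ≤ μ ^ 2 * ((10 * ((2 * τ - 1) * (τ - 1))) ^ 2 * (τ * (10 * (2 * τ - 3)))) := by
        gcongr ?_ ^ 2 * (?_ ^ 2 * (τ * ?_)) <;> nlinarith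
      _ = 1000 * (μ ^ 2 * (((2 * τ - 1) * (τ - 1)) ^ 2 * (τ * (2 * τ - 3)))) := by ring
      _ ≤ 1000 * (15 * (n * m) ^ 2 * m) := by gcongr _ * ?_; exact h1.trans (by gcongr)
      _ ≤ 1000 * (15 * (τ * (p * (p + 1))) ^ 2 * (p * (p + 1))) := by gcongr
      _ = _ := by ring
  have k := le_of_mul_le_mul_left k (by positivity)
  rcases h7 with ⟨rfl, h⟩ | ⟨h, h'⟩
  · have : (12 : ℤ) ^ 4 ≤ τ ^ 4 := by gcongr
    linarith
  · have a3 : 0 < p := by omega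
    refine lt_irrefl _ (calc p ^ 6 * (80 * 16 * 4913) = (4 * p) ^ 2 * (2 * p) ^ 4 * (5 * 4913) := by ring
      _ ≤ (5 * (p - 1)) ^ 2 * τ ^ 4 * (5 * 4913) := by gcongr ?_ ^ 2 * ?_ ^ 4 * _; omega
      _ = 125 * ((p - 1) ^ 2 * τ ^ 4 * 4913) := by ring
      _ ≤ 125 * (15000 * (p * (p + 1)) ^ 3) := by gcongr
      _ = 15000 * (p * (5 * (p + 1))) ^ 3 := by ring
      _ ≤ 15000 * (p * (6 * p)) ^ 3 := by gcongr _ * (_ * ?_) ^ 3; omega
      _ = p ^ 6 * (15000 * 216) := by ring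
      _ < _ := by gcongr _ * ?_; norm_num)

theorem numC {N m n l o : ℕ} (h1 : 653400 ≤ N * m) (h2 : N ≤ 15 * (n * m) ^ 2)
    (h3 : l ≠ 1 → 3 * N ≤ 40 * (n * m) ^ 2) (h4 : 4 ≤ l → 7 * N ≤ 72 * (n * m) ^ 2) (h5 : n ≤ 6)
    (h6 : m ≤ 12) (h7 : n * m = l * o) (h8 : Odd o) : False := by
  obtain ⟨k, rfl⟩ := h8
  by_cases n5 : n ≤ 5
  · have : N * m ≤ 15 * (5 * 12) ^ 2 * 12 := Nat.mul_le_mul (h2.trans (by gcongr)) h6
    omega
  obtain rfl : n = 6 := by omega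
  by_cases m1 : m ≤ 11
  · have : 3 * N * m ≤ 40 * (6 * 11) ^ 2 * 11 :=
      Nat.mul_le_mul ((h3 (by rintro rfl; omega)).trans (by gcongr)) m1
    nlinarith
  obtain rfl : m = 12 := by omega
  have := h4 (by by_contra h; have : l ≤ 3 := by omega
                 interval_cases l <;> omega)
  omega

variable {G : Type u} [Group G] [Finite G] {Y : Type u} [Group Y] [Finite Y] {φ : PHom G Y}
  {A B D J K L M N P Q R S V W X Z : Subgroup G} {t a b s v w g y : G} {l p : ℕ} {E : Subgroup Y}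
  {q τ : ℕ} {ε : ℤ} {T : Y → Subgroup Y}

theorem abel_syl_Z (hp : p.Prime) (hL : ⁅L, L⁆ = L) (hP : Syl p P L) (h : Abel P) :
    P ⊓ C[L] = ⊥ := by
  have e := PLoc.inf_commutator_inf_center_eq_bot (H := P.subgroupOf L)
    (h.equiv (subgroupOfEquivOfLe hP.le).symm).comm (by
      rw [Nat.card_congr (subgroupOfEquivOfLe hP.le).toEquiv]; exact hP.coprime)
  refine eq_bot_iff.2 fun x hx => congrArg Subtype.val (mem_bot.1 (e.le (show
    (⟨x, hP.le hx.1⟩ : L) ∈ _ from ⟨⟨hx.1, ?_⟩, mem_center_iff.2 fun y =>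
      Subtype.ext (mem_C.1 hx.2 y y.2)⟩)))
  obtain ⟨y, hy, e⟩ := (map_subtype_commutator L).ge (hL.ge (hP.le hx.1))
  exact (Subtype.ext e : y = ⟨x, _⟩) ▸ hy

namespace SD

variable (d : SD S t a b l M φ E q τ ε T) (hp : p.Prime) (hZ : Z ≤ O[{p}](FO t) ⊓ C1[a])
  (cZ : #Z = p)
include d hp hZ cZ

theorem caseA (h : ∀ x ∈ C1[t], BG.cj x Z ≤ M) : False := by
  obtain ⟨n, n1, e⟩ := d.kk_le
  have a1 := lines (J := C1[t]) hp cZ (bot_le (a := Ω[p](O[{p}](FO t) ⊓ M))) fun x hx =>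
    ⟨le_Om_of_card (by rw [card_cj, cZ]) (le_inf (cj_le_of_mem (hZ.trans inf_le_left)
      (normO _ (FO_norm t) hx)) (h x hx)), inf_bot_eq _⟩
  have a2 := d.sq_le hp hZ cZ (Om_le p _) ((d.PMa hp hZ cZ).Om_abelem p).pow
  have a3 := d.N_le136
  have a4 := relIndex_pos M C1[t]
  have a5 : M.relIndex C1[t] ≠ 1 := fun e => d.HM (relIndex_eq_one.1 e)
  have a6 := d.p2 hp hZ cZ
  have a7 := hp.two_le
  have a8 := Nat.le_of_dvd (by have := d.m.three; have := d.m.eps; omega) (d.pτ hp hZ cZ)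
  rw [d.ZN hp hZ cZ, card_bot'] at a1
  rw [e] at a3
  refine numA (p := p) (n := n) (d.count' hp hZ cZ le_rfl h) (by exact_mod_cast a3) (by exact_mod_cast n1)
    (by omega) (by omega) ?_ (by omega) (by omega)
  obtain ⟨r, rfl⟩ : ∃ r, p = r + 1 := ⟨p - 1, by omega⟩
  rw [Nat.add_sub_cancel] at a1
  have : M.relIndex C1[t] ≤ r + 1 + 1 := by nlinarith
  exact_mod_cast this

theorem le_p (hA : A ≤ O[{p}](FO t) ⊓ C[Z]) (e : ∀ x ∈ A, x ^ p = 1) (h : A ⊓ Z = ⊥) : #A ≤ p := by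
  have a1 : A ≤ O[{p}](FO t) ⊓ M :=
    hA.trans (inf_le_inf_left _ ((C_le_N _).trans (d.ZN hp hZ cZ).le))
  have a2 := d.sq_le hp hZ cZ (sup_le a1 (hZ.trans (d.P1M hp hZ cZ))) (Abelem.sup
    ⟨(d.PMa hp hZ cZ).of_le a1, e⟩ (abelem_of_card hp cZ) (hA.trans inf_le_right)).pow
  have a3 := (isProd_r (cents_norm (hA.trans inf_le_right))).card
  rw [h, card_bot', mul_one, cZ] at a3
  exact Nat.le_of_mul_le_mul_right (a3 ▸ a2) hp.pos

theorem ZE : Lay M ⊓ O'[M] ≤ C[O[{p}](FO t)] := by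
  have pP := O_pig {p} (FO t)
  have t2 := d.f.ord d.ot d.tM
  have o : PiG {p}ᶜ (Lay M ⊓ O'[M]) := pig_of_prime_elts fun c hc _ e => by
    have e : orderOf c = p := e
    obtain ⟨Q, hQ, cQ⟩ := syl_superset hp (zpowers_le.2 hc.1)
      (pig_of_card' hp (by rw [card_zpowers', e]))
    obtain ⟨Q', hQ'⟩ := syl_exists hp (T (φ.app t))
    have le := (d.m.le _ t2).trans inf_le_left
    suffices hd : ¬ p ∣ (T (φ.app t)).relIndex E by
      obtain ⟨g, -, e'⟩ := Syl.conj (hQ'.trans' le ((pin_compl hp).2 hd)) hp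
        (d.f.im ▸ hQ.im (d.f.le Lay_le))
      have := abel_syl_Z hp (Lay_perfect M) hQ (abel_of_cyc_im (d.f.le (hQ.le.trans Lay_le))
        (inf_le_right.trans (d.f.ker ▸ cent_symm (hQ.le.trans (lay_cO M))))
        (e' ▸ cyc_cj.2 ((d.m.cyc _ t2).of_le hQ'.le)))
      exact hp.ne_one (by rw [← e, mem_bot.1 (this.le ⟨cQ (mem_zpowers c),
        cent_symm (lay_cO M) hc.2⟩), orderOf_one])
    intro hd
    have e1 := card_mul_relIndex le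
    have e2 := d.m.cardE
    have e3 := d.m.three
    have e4 := d.m.eps
    rw [← e1, d.m.cin _ (d.f.app_mem d.VL.1) t2, Nat.cast_mul] at e2
    have e5 : (p : ℤ) ∣ 2 * (q * (τ + ε)) := by
      rw [← mul_left_cancel₀ (a := (τ : ℤ)) (c := 2 * (q * (τ + ε))) (by omega)
        (e2.trans (by ring))]
      exact Int.natCast_dvd_natCast.2 hd
    have e6 : (p : ℤ) ∣ τ := Int.natCast_dvd_natCast.2 ((Dvd.intro_left _ rfl).trans (d.pτ hp hZ cZ))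
    have pr := Nat.prime_iff_prime_int.1 hp
    have e7 : ¬ (p : ℤ) ∣ ε := fun e => pr.not_isUnit (isUnit_of_dvd_unit e (by
      rcases e4 with rfl | rfl <;> simp))
    rcases pr.dvd_or_dvd e5 with e | e
    · exact d.p2 hp hZ cZ ((Nat.prime_dvd_prime_iff_eq hp Nat.prime_two).1
        (Int.natCast_dvd_natCast.1 e))
    rcases pr.dvd_or_dvd e with e | e
    · exact e7 ((dvd_add_right (e6.mul_left 2)).1 (d.m.qeq ▸ e))
    · exact e7 ((dvd_add_right e6).1 e)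
  have c : O'[M] ≤ C[Lay M ⊓ O'[M]] := cent_symm (inf_le_left.trans (lay_cO M))
  exact pq_lemma pP.nil (hZ.trans inf_le_left) le_rfl (((d.ZF hp hZ cZ).trans d.F1O).trans c)
    (o.coprime' pP) (normsG (hZ.trans inf_le_left)) ((inf_le_right.trans d.Ot).trans
      (normO _ (FO_norm t))) ((inf_le_inf_left _ ((C_le_N _).trans (d.ZN hp hZ cZ).le)).trans
      (d.PMc hp hZ cZ ((lay_cO M).trans (centS inf_le_right))
        (((inf_le_inf_right _ (O_le _ _)).trans d.F1O).trans c)))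

theorem caseT (h1 : W ≤ O[{p}](FO t)) (h2 : C1[t] ≤ N[W]) (h3 : Abel W) (h4 : ¬ Z ≤ C[W]) :
    O[{p}](FO t) ⊓ C[W] ⊓ C1[a] = ⊥ ∧ O[{p}](FO t) ⊓ C[W] ⊓ C1[b] ≠ ⊥ := by
  have pP := O_pig {p} (FO t)
  have nP : C1[t] ≤ N[O[{p}](FO t)] := normO _ (FO_norm t)
  have oP : PiG {2}ᶜ O[{p}](FO t) := (FO_odd t).of_le (O_le _ _)
  have nT := normI nP (normC h2)
  have W1 : W ≤ O[{p}](FO t) ⊓ C[W] := le_inf h1 h3
  have R1 : O[{p}](FO t) ⊓ C[W] ≤ O[{p}](FO t) := inf_le_left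
  have R2 : O[{p}](FO t) ⊓ C[W] ≤ C[W] := inf_le_right
  have R3 : O[{p}](FO t) ⊓ C[O[{p}](FO t) ⊓ C[W]] ≤ _ := inf_le_inf_left _ (centS W1)
  generalize O[{p}](FO t) ⊓ C[W] = R at *
  have Ta : R ⊓ C1[a] = ⊥ := by_contra fun e => h4 (((d.P1c hp hZ cZ).le_of_dvd
    hZ (inf_le_inf_right _ R1) (cZ.dvd.trans ((pP.of_le (inf_le_left.trans R1)).dvd e))).trans
      (inf_le_left.trans R2))
  have oT := oP.of_le R1
  have bH := d.SH d.bS
  have ia := iv_of_fpf d.oa oT (nT d.ci.mem) Ta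
  refine ⟨Ta, fun Tb => h4 ?_⟩
  have ib := iv_of_fpf d.ob oT (nT bH) Tb
  have xS := zpowers_le.2 (mul_mem d.bS (inv_mem d.aS))
  have x := zpowers_le.1 (cop_self_cent pP.nil (xS.trans (d.SH.trans nP))
    ((d.pig.of_le xS).coprime oP) R1 (cent_symm (zpowers_le.2 (ib.mul_cent ia))) R3)
  have Zb : Z ≤ C1[b] := le_C1_iff.2 (by
    simpa using mul_mem (centS (hZ.trans inf_le_left) x) (le_C1_iff.1 (hZ.trans inf_le_right)))
  have d' := d.symm' ((d.ZN hp hZ cZ).le (C_le_N _ (le_C1_iff.1 Zb))) (ne_bot_of_le_ne_bot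
    (d.Z0 hp hZ cZ) (le_inf (le_inf ((d.ZF hp hZ cZ).trans inf_le_left) Zb)
      ((d.ZF hp hZ cZ).trans d.F1M)))
  have le : Lay M ⊓ O'[M] ≤ (O'[C1[t]] ⊓ C[R]) ⊔ S := (le_inf (d.leU d.ot (inf_le_right.trans d.Ot)
    ((O_pig _ _).of_le inf_le_right)) ((d.ZE hp hZ cZ).trans (centS R1))).trans le_sup_left
  have nN : C1[t] ≤ N[O'[C1[t]] ⊓ C[R]] := normI (O_norm _ _) (normC nT)
  have k : ∀ s ∈ S, orderOf s = 2 → Iv s R → ⁅O'[C1[t]], zpowers s⁆ ≤ O'[C1[t]] ⊓ C[R] :=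
    fun s hs s2 i => le_inf (commL (zpowers_le.2 (O_norm _ _ (d.SH hs))))
      (i.comm_cent s2 ((O_le _ _).trans nT))
  have := d.fused (N := (O'[C1[t]] ⊓ C[R]) ⊔ S) (d.sd.sup.ge.trans (sup_le (comm_le_r.1
    ((comm_sup_le' (commR ((O_le _ _).trans nN)) (d.eq_sup ▸ comm_sup_le' (k a d.aS d.oa ia)
      (k b d.bS d.ob ib) (zpowers_le.2 (nN d.ci.mem)) (zpowers_le.2 (nN bH))) (normG _)
      (d.SH.trans nN)).trans le_sup_left)) (le_sup_right.trans (normG _)))) le_sup_right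
    (d.fus.imp fun g hg => ⟨hg.1, fun z hz => le (hg.2 z hz)⟩)
    (d'.fus.imp fun g hg => ⟨hg.1, fun z hz => le (hg.2 z hz)⟩)
  have e := modl_l (d.SH.trans nN) (inf_le_left : _ ≤ O'[C1[t]])
  rw [inf_eq_right.2 this, inf_comm S, d.sd.inf, sup_bot_eq] at e
  exact ((d.ZF hp hZ cZ).trans (inf_le_left.trans (FO_leU t))).trans
    (e.le.trans (inf_le_right.trans (centS W1)))

theorem caseB (h1 : M.relIndex C1[t] ≤ p * (p + 1)) (hJ : J ≤ C1[t])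
    (h : ∀ x ∈ J, BG.cj x Z ≤ M) (h2 : p ≤ M.relIndex J) (h3 : kk t b ≤ kk t a) : False := by
  obtain ⟨n, n1, e⟩ := d.kk_le
  have c := d.count' hp hZ cZ hJ h
  have a0 : kk t a * kk t b ≤ (n * M.relIndex C1[t]) ^ 2 := by rw [← e, sq]; gcongr
  have a1 := d.N_le15.trans (Nat.mul_le_mul_left _ a0)
  obtain ⟨k, hk⟩ := d.pτ hp hZ cZ
  have a2 := d.m.three
  have a3 := d.m.eps
  have a4 := hp.two_le
  have a5 := d.p2 hp hZ cZ
  have k0 : k ≠ 0 := by rintro rfl; omega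
  by_cases s : p = 3 ∧ τ = 6
  · obtain ⟨rfl, rfl⟩ := s
    refine numC ?_ a1 (fun l1 => (d.N_le40 l1).trans (Nat.mul_le_mul_left _ a0))
      (fun l1 => (d.N_le72 l1).trans (Nat.mul_le_mul_left _ a0)) n1 h1 (e.symm.trans d.kk_eq)
      (odd_iff.1 ((O_pig _ _).relIndex _))
    have : (2 : ℤ) ^ 2 ≤ ((M.relIndex J : ℤ) - 1) ^ 2 := by gcongr; omega
    push_cast at c
    zify
    linarith
  · refine numB (p := p) (n := n) c (by exact_mod_cast a1) (by exact_mod_cast n1) (by omega)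
      (by omega) (by exact_mod_cast h1) (by omega) ?_
    by_cases p3 : p = 3
    · subst p3; omega
    · have : p ≠ 4 := by rintro rfl; norm_num at hp
      have := Nat.le_of_dvd (by omega) (d.pτ hp hZ cZ)
      omega

theorem main : O[{p}](FO t) ⊓ C1[b] ≠ ⊥ ∧ (Abel Ω[p](Z2 O[{p}](FO t)) ∧
    O[{p}](FO t) ⊓ C[Ω[p](Z2 O[{p}](FO t))] ⊓ C1[a] = ⊥ ∧
    O[{p}](FO t) ⊓ C[Ω[p](Z2 O[{p}](FO t))] ⊓ C1[b] ≠ ⊥ ∨
    ¬ Abel Ω[p](Z2 O[{p}](FO t)) ∧ ¬ kk t b ≤ kk t a) := by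
  obtain ⟨x, hx, hx'⟩ : ∃ x ∈ C1[t], ¬ BG.cj x Z ≤ M := by
    by_contra e
    exact d.caseA hp hZ cZ fun x hx => by_contra fun e' => e ⟨x, hx, e'⟩
  have pP := O_pig {p} (FO t)
  have nP : C1[t] ≤ N[O[{p}](FO t)] := normO _ (FO_norm t)
  have oP : PiG {2}ᶜ O[{p}](FO t) := (FO_odd t).of_le (O_le _ _)
  have ZP := hZ.trans inf_le_left
  have CZ : C[Z] ≤ M := (C_le_N _).trans (d.ZN hp hZ cZ).le
  have PM : ¬ O[{p}](FO t) ≤ M := fun e => hx' ((cj_le_of_mem ZP (nP hx)).trans e)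
  obtain ⟨w1, w2⟩ := Om_odd_Z2 pP (odd_iff.1 oP) fun e => PM (e.abel.trans ((centS ZP).trans CZ))
  have w3 := comm_Om_Z2_le pP (odd_iff.1 oP)
  have w4 : Ω[p](Z2 O[{p}](FO t)) ≤ O[{p}](FO t) := (Om_le _ _).trans (Z2_le _)
  have w5 : C1[t] ≤ N[Ω[p](Z2 O[{p}](FO t))] := normOm p (normZ2 nP)
  have w6 : Ω[p](Z[O[{p}](FO t)]) ≤ Ω[p](Z2 O[{p}](FO t)) := Om_mono (Z_le_Z2 _)
  have z1 : Ω[p](Z[O[{p}](FO t)]) ⊓ Z = ⊥ := by_contra fun e => PM ((cent_symm (inf_le_left.trans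
    (OmZ_cent _ _))).trans ((C_le_N _).trans (d.nrm' (inf_le_right.trans (d.ZF hp hZ cZ)) e)))
  have z2 := d.le_p hp hZ cZ (le_inf (OmZ_le _ _) ((OmZ_cent _ _).trans (centS ZP)))
    (OmZ_abelem _ _).pow z1
  have z3 := Nat.le_of_dvd (card_pos _) ((pP.of_le (OmZ_le p _)).dvd
    (pP.OmZ_ne_bot (ne_bot_of_le_ne_bot (d.Z0 hp hZ cZ) ZP)))
  have z4 : C1[t] ≤ N[Ω[p](Z[O[{p}](FO t)])] := normOmZ p nP
  generalize Ω[p](Z2 O[{p}](FO t)) = W at *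
  generalize Ω[p](Z[O[{p}](FO t)]) = Z₀ at *
  have pW := pP.of_le w4
  have c1 : #W ≤ #(W ⊓ C[Z]) * p := by
    obtain ⟨z, hz, z1⟩ := exists_mem_ne_one (d.Z0 hp hZ cZ)
    rw [← card_inf_mul_relIndex C[Z] W, inf_comm, ← C1_eq_of_prime (cZ ▸ hp) hz z1]
    exact Nat.mul_le_mul_left _ ((relIndex_le_sub (fun w => w * z * w⁻¹ * z⁻¹)
      (fun w hw => w3 (comm_mem hw (ZP hz))) fun x _ y _ e => mem_C1.2 (by
        calc _ = x⁻¹ * (y * z * y⁻¹ * z⁻¹) * z * y := by group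
          _ = _ := by rw [← e]; group)).trans z2)
  by_cases ZW : Z ≤ W
  · have na : ¬ Abel W := fun e => hx' ((cj_le_of_mem ZW (w5 hx)).trans
      (e.trans ((centS ZW).trans CZ)))
    refine ⟨fun e => na (iv_of_fpf d.ob (oP.of_le w4) (w5 (d.SH d.bS))
      (eq_bot_iff.2 (e ▸ inf_le_inf_right _ w4))).abel, Or.inr ⟨na, d.caseB hp hZ cZ
        (J := O[{p}](FO t) ⊓ N[O[{p}](FO t) ⊓ M]) ?_ (inf_le_left.trans ((O_le _ _).trans (FO_le t)))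
        (fun y hy => (cj_le_of_mem (hZ.trans (d.P1M hp hZ cZ)) hy.2).trans inf_le_right) ?_⟩⟩
    · have a1 := lines (J := C1[t]) hp cZ w6 fun y hy => ⟨cj_le_of_mem ZW (w5 hy), by
        rw [← cj_of_mem_N (z4 hy), ← cj_inf, inf_comm, z1, cj_bot]⟩
      have a2 := d.sq_le hp hZ cZ (inf_le_inf w4 CZ) fun y hy => w2 y hy.1
      have a3 := c1.trans (Nat.mul_le_mul_right _ a2)
      rw [d.ZN hp hZ cZ] at a1
      have := hp.two_le
      obtain ⟨r, rfl⟩ : ∃ r, p = r + 1 := ⟨p - 1, by omega⟩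
      rw [Nat.add_sub_cancel] at a1
      exact Nat.le_of_mul_le_mul_right (c := r) (by nlinarith) (by omega)
    · obtain ⟨r, hr, hd⟩ := Nat.exists_prime_and_dvd (n := M.relIndex
        (O[{p}](FO t) ⊓ N[O[{p}](FO t) ⊓ M])) fun e => (pP.nil.lt_norm (inf_lt_left.2 PM)).not_ge
          (le_inf inf_le_left (relIndex_eq_one.1 e))
      exact Nat.le_of_dvd (relIndex_pos _ _)
        (((pP.of_le inf_le_left).relIndex M).eq_prime hr hd ▸ hd)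
  · have c2 := d.le_p hp hZ cZ (inf_le_inf_right _ w4) (fun y hy => w2 y hy.1)
      (eq_bot_iff.2 (inf_bot_of_prime (cZ ▸ hp) ZW ▸ le_inf inf_le_right
        (inf_le_left.trans inf_le_left)))
    have c3 := (pW.card_dvd_or hp 1).resolve_left fun e => w1 (cyc_of_card_dvd hp (by simpa using e))
    have c4 : #W = p ^ 2 := le_antisymm (by nlinarith) (Nat.le_of_dvd (card_pos _) c3)
    have := d.caseT hp hZ cZ w4 w5 (abel_of_card_sq hp c4) fun e => by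
      rw [inf_eq_left.2 (cent_symm e), c4] at c2
      have := hp.two_le
      nlinarith
    exact ⟨ne_bot_of_le_ne_bot this.2 (inf_le_inf_right _ inf_le_left),
      Or.inl ⟨abel_of_card_sq hp c4, this⟩⟩

theorem MM_b : MM t b := by_contra fun n => lay_ns d.f.ne ((d.solC d.ot).of_le (Lay_le.trans
  ((d.ZN hp hZ cZ).ge.trans (d.N_le d.toMC.symm.ci n (le_inf ((d.ZF hp hZ cZ).trans inf_le_left)
    ((hZ.trans inf_le_left).trans (d.cent_P d.toMC.symm.ci n (d.main hp hZ cZ).1)))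
    (d.Z0 hp hZ cZ)))))

end SD

theorem MC.case2 (h : MC S t a b l) (n : MM t a) : False := by
  obtain ⟨M, Y, _, _, φ, E, q, τ, ε, T, d⟩ := h.exists_SD n
  obtain ⟨p, hp, hd⟩ := exists_prime_dvd d.ne'
  obtain ⟨Z, hZ, cZ⟩ := exists_prime_sub hp hd
  replace hZ := le_inf ((FO_nil t).le_O (hZ.trans inf_le_left) (pig_of_card' hp cZ))
    (hZ.trans inf_le_right)
  obtain ⟨M', Y', _, _, φ', E', q', τ', ε', T', d'⟩ := h.symm.exists_SD (d.MM_b hp hZ cZ)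
  obtain ⟨h1, h2⟩ := d.main hp hZ cZ
  obtain ⟨Z', hZ', cZ'⟩ := ((O_pig _ _).of_le inf_le_left).exists_prime_sub h1
  rcases h2 with ⟨a1, -, a2⟩ | ⟨a1, a2⟩ <;>
    rcases (d'.main hp hZ' cZ').2 with ⟨b1, b2, -⟩ | ⟨b1, b2⟩
  exacts [a2 b2, b1 a1, a1 b1, (le_total _ _).elim a2 b2]

theorem MC.false (h : MC S t a b l) : False :=
  h.case1 h.case2 h.symm.case2

end Cfsg.Agent.GW
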