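import Cfsg.Agent.Dih.BSW1
import Cfsg.Agent.Blk.Main

/-! Groups with dihedral Sylow 2-subgroups: the generalized characters `β`. -/

set_option autoImplicit false
set_option linter.unusedVariables false
set_option linter.unusedSectionVars false

namespace Cfsg.Agent.GW

open Cfsg.Agent.PLoc Cfsg.Agent.Inv Cfsg.Agent.Char Cfsg.Agent.Dih Subgroup Finset
open scoped ComplexConjugate Classical

/-- the standard additive character -/
noncomputable abbrev ps {n : ℕ} [NeZero n] (z : ZMod n) : ℂ := ZMod.stdAddChar z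

section
variable {n : ℕ} [NeZero n]

theorem ps_add (a b : ZMod n) : ps (a + b) = ps a * ps b := AddChar.map_add_eq_mul _ a b
@[simp] theorem ps_zero : ps (0 : ZMod n) = 1 := AddChar.map_zero_eq_one _
theorem conj_ps (a : ZMod n) : conj (ps a) = ps (-a) := (AddChar.map_neg_eq_conj _ a).symm
theorem ps_eq_one {a : ZMod n} : ps a = 1 ↔ a = 0 := by
  rw [← ps_zero (n := n)]; exact ZMod.injective_stdAddChar.eq_iff
theorem sum_ps (b : ZMod n) : ∑ j : ZMod n, ps (j * b) = if b = 0 then (n : ℂ) else 0 := by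
  have := AddChar.sum_mulShift b (ZMod.isPrimitive_stdAddChar n)
  rw [ZMod.card] at this
  rw [this]; split_ifs <;> simp
end

section
variable {l : ℕ} [NeZero (2 * l)]

theorem l_add_l : (l : ZMod (2 * l)) + l = 0 := by
  rw [← two_mul]; exact_mod_cast ZMod.natCast_self (2 * l)

theorem l_ne_zero : (l : ZMod (2 * l)) ≠ 0 := fun e => by
  have h0 := NeZero.ne (2 * l)
  have := Nat.le_of_dvd (by omega) ((ZMod.natCast_eq_zero_iff _ _).1 e)
  omega

theorem neg_l : -(l : ZMod (2 * l)) = l := neg_eq_iff_add_eq_zero.2 l_add_l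

theorem neg_eq_self {z : ZMod (2 * l)} : -z = z ↔ z = 0 ∨ z = l := by
  rw [ZMod.neg_eq_self_iff]
  refine or_congr Iff.rfl ⟨fun e => ?_, fun e => ?_⟩
  · rw [← ZMod.natCast_zmod_val z, show z.val = l by omega]
  · have h0 := NeZero.ne (2 * l)
    rw [e, ZMod.val_natCast, Nat.mod_eq_of_lt (by omega)]

theorem ps_l : ps (l : ZMod (2 * l)) = -1 := by
  have : ps (l : ZMod (2 * l)) * ps (l : ZMod (2 * l)) = 1 := by rw [← ps_add, l_add_l, ps_zero]
  exact (mul_self_eq_one_iff.1 this).resolve_left fun e => l_ne_zero (ps_eq_one.1 e)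

theorem ps_l_cases (z : ZMod (2 * l)) :
    ps ((l : ZMod (2 * l)) * z) = 1 ∨ ps ((l : ZMod (2 * l)) * z) = -1 := by
  rw [← mul_self_eq_one_iff, ← ps_add, ← add_mul, l_add_l, zero_mul, ps_zero]

theorem ps_l_two (z : ZMod (2 * l)) : ps ((l : ZMod (2 * l)) * (z + z)) = 1 := by
  rw [mul_add, ← add_mul, l_add_l, zero_mul, ps_zero]

end

variable {G : Type*} [Group G] [Fintype G]

theorem isIrr_of_mul {f : G → ℂ} (h1 : f 1 = 1) (hm : ∀ a b, f (a * b) = f a * f b) :
    IsIrrCharacter G f :=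
  isIrrCharacter_hom (MonoidHom.toHomUnits { toFun := f, map_one' := h1, map_mul' := hm })

/-- The configuration `H = C(t) ⊇ K = U⟨x⟩ ⊇ U = O(H)`. -/
structure CS (t a x : G) (U K : Subgroup G) (l : ℕ) (κ : G → ZMod (2 * l)) : Prop where
  ord : orderOf t = 2
  cls : ∀ u, orderOf u = 2 → IsConj t u
  UK : U ≤ K
  KH : K ≤ centralizer {t}
  odd : ∀ h ∈ centralizer {t}, h ∈ U ↔ Odd (orderOf h)
  xK : x ∈ K
  tK : t ∈ K
  aH : a ∈ centralizer {t}
  aK : a ∉ K
  a2 : a * a = 1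
  b2 : (x * a) * (x * a) = 1
  out : ∀ s ∈ centralizer {t}, s ∉ K → s * a ∈ K
  add : ∀ h ∈ K, ∀ k ∈ K, κ (h * k) = κ h + κ k
  ker : ∀ h ∈ K, κ h = 0 ↔ h ∈ U
  one : κ x = 1
  inv : ∀ h ∈ K, κ (a * h * a⁻¹) = -κ h
  cnj : ∀ u ∈ centralizer {t}, u ∉ K → orderOf u = 2 →
    ∃ h ∈ centralizer {t}, h * a * h⁻¹ = u ∨ h * (x * a) * h⁻¹ = u

/-- A linear character of odd order of `C(t)`. -/
structure Lin (t x : G) (ν : G → ℂ) : Prop where
  one : ν 1 = 1
  mul : ∀ h ∈ centralizer {t}, ∀ k ∈ centralizer {t}, ν (h * k) = ν h * ν k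
  inv : ∀ u ∈ centralizer {t}, u * u = 1 → ν u = 1
  x : ν x = 1

theorem lin_one (t x : G) : Lin t x (fun _ => 1) :=
  ⟨rfl, fun _ _ _ _ => by simp, fun _ _ _ => rfl, rfl⟩

namespace Lin
variable {t x : G} {ν : G → ℂ} (hν : Lin t x ν)
include hν

theorem irr (H : Subgroup G) (hH : H ≤ centralizer {t}) : IsIrrCharacter H fun h => ν h :=
  isIrr_of_mul hν.one fun a b => hν.mul _ (hH a.2) _ (hH b.2)

theorem conj_eq {h : G} (hh : h ∈ centralizer {t}) : conj (ν h) = ν h⁻¹ :=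
  ((hν.irr _ le_rfl).isCharacter.apply_inv ⟨h, hh⟩).symm

theorem mul_conj {h : G} (hh : h ∈ centralizer {t}) : ν h * conj (ν h) = 1 := by
  rw [hν.conj_eq hh, ← hν.mul _ hh _ (inv_mem hh), mul_inv_cancel, hν.one]

theorem cj {h k : G} (hh : h ∈ centralizer {t}) (hk : k ∈ centralizer {t}) :
    ν (h * k * h⁻¹) = ν k :=
  (hν.irr _ le_rfl).isClassFunction ⟨k, hk⟩ ⟨h, hh⟩

theorem isIntegral {h : G} (hh : h ∈ centralizer {t}) : IsIntegral ℤ (conj (ν h)) := by
  rw [hν.conj_eq hh]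
  exact (hν.irr _ le_rfl).isCharacter.isIntegral ⟨h⁻¹, inv_mem hh⟩

end Lin

/-- `θ = ν (1 - λ_j)` -/
noncomputable def th {l : ℕ} [NeZero (2 * l)] (κ : G → ZMod (2 * l)) (ν : G → ℂ)
    (j : ZMod (2 * l)) (h : G) : ℂ := ν h * (1 - ps (j * κ h))

/-- `β = θ^G` -/
noncomputable def bt {l : ℕ} [NeZero (2 * l)] (K : Subgroup G) (κ : G → ZMod (2 * l)) (ν : G → ℂ)
    (j : ZMod (2 * l)) : G → ℂ := indFun K fun h => th κ ν j h

/-- the `ν`-component -/
noncomputable def avg (U : Subgroup G) (ν φ : G → ℂ) (k : G) : ℂ :=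
  (Nat.card U : ℂ)⁻¹ * ∑ u : U, φ (u * k) * conj (ν u)

theorem avg_smul (U : Subgroup G) (ν φ : G → ℂ) (c : ℂ) (k : G) :
    avg U ν (c • φ) k = c * avg U ν φ k := by
  simp only [avg, Pi.smul_apply, smul_eq_mul, mul_assoc, ← mul_sum]; ring

/-- number of `C(t)`-conjugates -/
noncomputable def kk (t a : G) : ℕ := (centralizer ({a} : Set G)).relIndex (centralizer {t})

theorem card_conj_eq (H : Subgroup G) {a : G} (ha : a ∈ H) :
    (univ.filter fun u => ∃ h ∈ H, h * a * h⁻¹ = u).card =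
      (centralizer ({a} : Set G)).relIndex H := by
  have e := card_filter_isConj (⟨a, ha⟩ : H)
  have e2 : (centralizer ({a} : Set G)).subgroupOf H = centralizer {(⟨a, ha⟩ : H)} := by
    ext h; simp [mem_subgroupOf, mem_centralizer_singleton_iff, Subtype.ext_iff]
  rw [relIndex, e2, ← e]
  symm
  refine card_bij (fun u _ => (u : G)) (fun u hu => ?_) (fun u _ v _ e => Subtype.ext e) ?_
  · obtain ⟨h, e⟩ := isConj_iff.1 (by simpa using hu : IsConj (⟨a, ha⟩ : H) u)
    exact mem_filter.2 ⟨mem_univ _, h, h.2, congrArg Subtype.val e⟩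
  · intro u hu
    obtain ⟨h, hh, rfl⟩ := (mem_filter.1 hu).2
    exact ⟨⟨h, hh⟩ * ⟨a, ha⟩ * (⟨h, hh⟩ : H)⁻¹, by
      simpa using isConj_conj (⟨h, hh⟩ : H) ⟨a, ha⟩, rfl⟩

namespace CS

variable {t a x : G} {U K : Subgroup G} {l : ℕ} [NeZero (2 * l)] {κ : G → ZMod (2 * l)}
  (h : CS t a x U K l κ)
include h

theorem UH : U ≤ centralizer {t} := h.UK.trans h.KH
theorem tH : t ∈ centralizer {t} := h.KH h.tK
theorem xH : x ∈ centralizer {t} := h.KH h.xK
theorem ainv : a⁻¹ = a := inv_eq_of_mul_eq_one_right h.a2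
theorem bH : x * a ∈ centralizer {t} := mul_mem h.xH h.aH
theorem bK : x * a ∉ K := fun e => h.aK (by simpa using mul_mem (inv_mem h.xK) e)

theorem k1 : κ 1 = 0 := (h.ker 1 (one_mem _)).2 (one_mem _)
theorem kinv {k : G} (hk : k ∈ K) : κ k⁻¹ = -κ k := by
  rw [eq_neg_iff_add_eq_zero, ← h.add _ (inv_mem hk) _ hk, inv_mul_cancel, h.k1]
theorem kU {u : G} (hu : u ∈ U) : κ u = 0 := (h.ker u (h.UK hu)).2 hu

theorem conjU {g u : G} (hg : g ∈ centralizer {t}) (hu : u ∈ U) : g * u * g⁻¹ ∈ U := by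
  rw [h.odd _ (mul_mem (mul_mem hg (h.UH hu)) (inv_mem hg)), Inv.orderOf_conj']
  exact (h.odd _ (h.UH hu)).1 hu

theorem not_memU {u : G} (h2 : orderOf u = 2) : u ∉ U := fun e => by
  have := (h.odd _ (h.UH e)).1 e
  rw [h2] at this; exact absurd this (by decide)

theorem oddU : Odd (Nat.card U) := by
  by_contra hc
  obtain ⟨u, hu, e⟩ := exists_mem_orderOf_eq_prime Nat.prime_two
    (even_iff_two_dvd.1 (Nat.not_odd_iff_even.1 hc))
  exact h.not_memU e hu

theorem kinvol {u : G} (hu : u ∈ K) (h2 : orderOf u = 2) : κ u = l := by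
  refine (neg_eq_self.1 ?_).resolve_left fun e => h.not_memU h2 ((h.ker u hu).1 e)
  rw [← h.kinv hu, inv_of_ord2 h2]

theorem kt : κ t = l := h.kinvol h.tK h.ord

theorem tU : t ∉ U := h.not_memU h.ord

theorem uniq {u : G} (hu : u ∈ K) (h2 : orderOf u = 2) : u = t := by
  have e : u * t ∈ U := (h.ker _ (mul_mem hu h.tK)).1 (by
    rw [h.add _ hu _ h.tK, h.kinvol hu h2, h.kt, l_add_l])
  have c := mem_centralizer_singleton_iff.1 (h.KH hu)
  have e2 : u * t * (u * t) = 1 := by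
    rw [show u * t * (u * t) = u * (t * u) * t by group, ← c, show u * (u * t) * t =
      (u * u) * (t * t) by group, sq_of_ord2 h2, sq_of_ord2 h.ord, one_mul]
  by_contra hc
  refine h.not_memU (ord2_iff.2 ⟨e2, fun e => hc ?_⟩) e
  rw [eq_inv_of_mul_eq_one_left e, inv_of_ord2 h.ord]

theorem pow_t {k : G} (hk : k ∈ K) (hU : k ∉ U) : ∃ n : ℕ, k ^ n = t :=
  ⟨_, h.uniq (pow_mem hk _) (orderOf_pow_half
    (Nat.not_odd_iff_even.1 fun e => hU ((h.odd _ (h.KH hk)).2 e)))⟩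

theorem ti {k g : G} (hk : k ∈ K) (hU : k ∉ U) (hg : g * k * g⁻¹ ∈ K) : g ∈ centralizer {t} := by
  obtain ⟨n, hn⟩ := h.pow_t hk hU
  have := h.uniq (pow_mem hg n) (by rw [conj_pow, hn, Inv.orderOf_conj', h.ord])
  rw [conj_pow, hn] at this
  rw [mem_centralizer_singleton_iff, ← mul_inv_eq_iff_eq_mul, this]

theorem aconj {k : G} (hk : k ∈ K) : a * k * a⁻¹ ∈ K := by
  rw [h.ainv]
  exact h.out _ (mul_mem h.aH (h.KH hk)) fun e => h.aK (by simpa using mul_mem e (inv_mem hk))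

theorem cases {g : G} (hg : g ∈ centralizer {t}) : g ∈ K ∨ ∃ k ∈ K, g = k * a := by
  by_cases e : g ∈ K
  · exact Or.inl e
  · exact Or.inr ⟨_, h.out g hg e, by rw [mul_assoc, h.a2, mul_one]⟩

theorem kcj {k m : G} (hk : k ∈ K) (hm : m ∈ K) : κ (k * m * k⁻¹) = κ m := by
  rw [h.add _ (mul_mem hk hm) _ (inv_mem hk), h.add _ hk _ hm, h.kinv hk]; ring

theorem card_out : (univ.filter fun s => s ∈ centralizer {t} ∧ s ∉ K).card = Nat.card K := by
  rw [card_subgroup_eq_filter]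
  refine card_bij (fun s _ => s * a) (fun s hs => ?_) (fun u _ v _ e => mul_right_cancel e) ?_
  · simpa using h.out s (mem_filter.1 hs).2.1 (mem_filter.1 hs).2.2
  · intro k hk
    have hk : k ∈ K := by simpa using hk
    exact ⟨k * a, mem_filter.2 ⟨mem_univ _, mul_mem (h.KH hk) h.aH, fun e => h.aK (by
      simpa using mul_mem (inv_mem hk) e)⟩, by rw [mul_assoc, h.a2, mul_one]⟩

theorem card_H : Nat.card (centralizer ({t} : Set G)) = 2 * Nat.card K := by
  have e := card_filter_add_card_filter_not (s := univ.filter (· ∈ centralizer ({t} : Set G)))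
    (· ∈ K)
  rw [filter_filter, filter_filter, h.card_out, ← card_subgroup_eq_filter] at e
  rw [← e, two_mul, card_subgroup_eq_filter]
  congr 2
  ext g; simpa using fun e => h.KH e

theorem card_G : Nat.card G = 2 * Nat.card K * (centralizer ({t} : Set G)).index := by
  rw [← h.card_H, card_mul_index]

theorem ind_apply (φ : G → ℂ) (hφ : ∀ k ∈ K, ∀ m ∈ K, φ (k * m * k⁻¹) = φ m) {y : G}
    (hy : y ∈ K) (hU : y ∉ U) : indFun K (fun k => φ k) y = φ y + φ (a * y * a⁻¹) := by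
  rw [indFun_apply']
  have e : ∀ g : G, extendByZero K (fun k => φ k) (g * y * g⁻¹) = (if g ∈ K then φ y else 0) +
      if g ∈ centralizer {t} ∧ g ∉ K then φ (a * y * a⁻¹) else 0 := fun g => by
    by_cases hx : g ∈ K
    · rw [extendByZero_of_mem K _ (mul_mem (mul_mem hx hy) (inv_mem hx))]
      simp [hx, hφ g hx y hy]
    · by_cases hc : g ∈ centralizer {t}
      · obtain ⟨k, hk, rfl⟩ := (h.cases hc).resolve_left hx
        rw [show k * a * y * (k * a)⁻¹ = k * (a * y * a⁻¹) * k⁻¹ by group,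
          extendByZero_of_mem K _ (mul_mem (mul_mem hk (h.aconj hy)) (inv_mem hk))]
        simp only [hx, hc, not_false_eq_true, and_self, if_true, if_false, zero_add]
        exact hφ _ hk _ (h.aconj hy)
      · rw [extendByZero_of_not_mem K _ fun e => hc (h.ti hy hU e)]
        simp [hx, hc]
  simp only [e, sum_add_distrib, ← sum_filter, sum_const, nsmul_eq_mul]
  rw [h.card_out, ← card_subgroup_eq_filter]
  field_simp [card_ne_zero K]

theorem sum_shift (f : G → ℂ) {k : G} (hk : k ∈ K) : ∑ m : K, f (k * m) = ∑ m : K, f m :=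
  Equiv.sum_comp (Equiv.mulLeft (⟨k, hk⟩ : K)) fun m : K => f m

theorem sumK (j : ZMod (2 * l)) :
    ∑ m : K, ps (j * κ m) = if j = 0 then (Nat.card K : ℂ) else 0 := by
  split_ifs with hj
  · simp [hj]
  have e := h.sum_shift (fun m => ps (j * κ m)) h.xK
  rw [sum_congr rfl fun m _ => by
    rw [h.add _ h.xK _ m.2, h.one, mul_add, ps_add, mul_one], ← mul_sum] at e
  exact (mul_left_eq_self₀.1 e).resolve_left fun e => hj (ps_eq_one.1 e)

theorem sum_fiber (f : G → ℂ) {k : G} (hk : k ∈ K) :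
    ∑ m : K, (if κ m = κ k then f m else 0) = ∑ u : U, f (u * k) := by
  rw [← Equiv.sum_comp (Equiv.mulRight (⟨k, hk⟩ : K)), ← sum_filter]
  symm
  refine sum_bij (fun u _ => ⟨u, h.UK u.2⟩) (fun u _ => ?_) (fun u _ v _ e => ?_) ?_
    fun u _ => rfl
  · refine mem_filter.2 ⟨mem_univ _, ?_⟩
    show κ (u * k) = κ k
    rw [h.add _ (h.UK u.2) _ hk, h.kU u.2, zero_add]
  · exact Subtype.ext (congrArg Subtype.val e :)
  · intro m hm
    have := (mem_filter.1 hm).2
    simp only [Equiv.coe_mulRight, MulMemClass.coe_mul, h.add _ m.2 _ hk, add_eq_right] at this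
    exact ⟨⟨m, (h.ker _ m.2).1 this⟩, mem_univ _, rfl⟩

theorem card_K : (Nat.card K : ℂ) = 2 * l * Nat.card U := by
  have e : ∑ j, ∑ m : K, ps (j * κ m) = ∑ m : K, ∑ j, ps (j * κ m) := sum_comm
  simp only [h.sumK, sum_ps, sum_ite_eq', mem_univ, if_true] at e
  have := h.sum_fiber (fun _ => ((2 * l : ℕ) : ℂ)) (one_mem K)
  rw [h.k1] at this
  rw [e, this]
  simp [mul_comm]

theorem card_K' : Nat.card K = 2 * l * Nat.card U := by exact_mod_cast h.card_K

variable {ν ν' : G → ℂ}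

theorem th_U (ν : G → ℂ) (j : ZMod (2 * l)) {u : G} (hu : u ∈ U) : th κ ν j u = 0 := by
  simp [th, h.kU hu]

theorem isGen_bt (hν : Lin t x ν) (j : ZMod (2 * l)) : IsGeneralizedCharacter G (bt K κ ν j) := by
  refine IsGeneralizedCharacter.indFun ?_
  have e2 : IsIrrCharacter K fun m => ps (j * κ m) :=
    isIrr_of_mul (by simp [h.k1]) fun a b => by
      rw [MulMemClass.coe_mul, h.add _ a.2 _ b.2, mul_add, ps_add]
  exact (hν.irr K h.KH).isGen.mul (isGen_one.sub e2.isGen)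

theorem bt_one (ν : G → ℂ) (j : ZMod (2 * l)) : bt K κ ν j 1 = 0 := by
  rw [bt, indFun_one, OneMemClass.coe_one, h.th_U ν j (one_mem U), mul_zero]

theorem bt_apply (hν : Lin t x ν) (j : ZMod (2 * l)) {y : G} (hy : y ∈ K) (hU : y ∉ U) :
    bt K κ ν j y = ν y * (2 - ps (j * κ y) - ps (-j * κ y)) := by
  rw [bt, h.ind_apply (th κ ν j) (fun k hk m hm => by
    rw [th, th, h.kcj hk hm, hν.cj (h.KH hk) (h.KH hm)]) hy hU, th, th, h.inv y hy,
    hν.cj h.aH (h.KH hy), mul_neg, neg_mul]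
  ring

omit h in
theorem inner_bt {φ : G → ℂ} (hφ : IsClassFunction G φ) (ν : G → ℂ) (j : ZMod (2 * l)) :
    classInner φ (bt K κ ν j) =
      (Nat.card K : ℂ)⁻¹ * ∑ m : K, φ m * (conj (ν m) * (1 - ps (-j * κ m))) := by
  rw [bt, classInner_indFun_right K _ hφ, classInner_def]
  simp only [th, map_mul, map_sub, map_one, conj_ps, neg_mul]

theorem bt_bt' (hν : Lin t x ν) (ν' : G → ℂ) (i j : ZMod (2 * l)) :
    classInner (bt K κ ν i) (bt K κ ν' j) = (Nat.card K : ℂ)⁻¹ * ∑ m : K, ν m * conj (ν' m) *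
      ((2 - ps (i * κ m) - ps (-i * κ m)) * (1 - ps (-j * κ m))) := by
  rw [inner_bt (h.isGen_bt hν i).isClassFunction]
  congr 1
  refine sum_congr rfl fun m _ => ?_
  by_cases hm : (m : G) ∈ U
  · simp [h.kU hm]
  · rw [h.bt_apply hν i m.2 hm]; ring

theorem bt_bt (hν : Lin t x ν) {i j : ZMod (2 * l)} (hi : i ≠ 0) (hj : j ≠ 0) :
    classInner (bt K κ ν i) (bt K κ ν j) =
      2 + (if i = j then 1 else 0) + if -i = j then 1 else 0 := by
  rw [h.bt_bt' hν]
  have e : ∀ m : K, ν m * conj (ν m) *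
      ((2 - ps (i * κ m) - ps (-i * κ m)) * (1 - ps (-j * κ m))) =
      2 * ps (0 * κ m) - 2 * ps (-j * κ m) - ps (i * κ m) - ps (-i * κ m) +
        ps ((i - j) * κ m) + ps ((-i - j) * κ m) := fun m => by
    rw [hν.mul_conj (h.KH m.2), sub_eq_add_neg i, sub_eq_add_neg (-i), add_mul, add_mul, ps_add,
      ps_add, zero_mul, ps_zero]
    ring
  simp only [e, sum_add_distrib, sum_sub_distrib, ← mul_sum, h.sumK, neg_eq_zero, hi, hj,
    sub_eq_zero, if_true, if_false]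
  split_ifs <;> field_simp [card_ne_zero K] <;> ring

theorem bt_bt_ne (hν : Lin t x ν) (hν' : Lin t x ν') {u : G} (hu : u ∈ U) (hne : ν u ≠ ν' u)
    (i j : ZMod (2 * l)) : classInner (bt K κ ν i) (bt K κ ν' j) = 0 := by
  rw [h.bt_bt' hν]
  have e := h.sum_shift (fun m => ν m * conj (ν' m) *
      ((2 - ps (i * κ m) - ps (-i * κ m)) * (1 - ps (-j * κ m)))) (h.UK hu)
  rw [sum_congr rfl fun m _ => by
    rw [h.add _ (h.UK hu) _ m.2, h.kU hu, zero_add, hν.mul _ (h.UH hu) _ (h.KH m.2),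
      hν'.mul _ (h.UH hu) _ (h.KH m.2), map_mul, mul_mul_mul_comm (ν u), mul_assoc],
    ← mul_sum] at e
  rw [(mul_left_eq_self₀.1 e).resolve_left fun e => hne ?_, mul_zero]
  have := hν'.mul_conj (h.UH hu)
  linear_combination ν' u * e - ν u * this

theorem bt_zero (ν : G → ℂ) : bt K κ ν 0 = 0 := by
  have : (fun m : K => th κ ν 0 m) = 0 := by funext m; simp [th]
  rw [bt, this, ← indLin_apply, map_zero]

theorem bt_neg (hν : Lin t x ν) (j : ZMod (2 * l)) : bt K κ ν (-j) = bt K κ ν j := by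
  by_cases hj : j = 0
  · rw [hj, neg_zero]
  have hj' := neg_ne_zero.2 hj
  rw [← sub_eq_zero, ← classInner_self_eq_zero, classInner_sub_left, classInner_sub_right,
    classInner_sub_right, h.bt_bt hν hj hj, h.bt_bt hν hj hj', h.bt_bt hν hj' hj,
    h.bt_bt hν hj' hj', neg_neg]
  by_cases e : -j = j
  · simp [e]
  · simp [e, Ne.symm e]

theorem one_bt {j : ZMod (2 * l)} (hj : j ≠ 0) :
    classInner (fun _ => (1 : ℂ)) (bt K κ (fun _ => 1) j) = 1 := by
  rw [inner_bt (isClassFunction_const 1)]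
  simp only [map_one, one_mul, sum_sub_distrib, h.sumK, neg_eq_zero, hj, if_false]
  simp [card_ne_zero K, ← Nat.card_eq_fintype_card]

theorem fourier (hν : Lin t x ν) {φ : G → ℂ} (hφ : IsClassFunction G φ) {k : G} (hk : k ∈ K)
    (hU : k ∉ U) : avg U ν φ k = -ν k * ∑ j, classInner φ (bt K κ ν j) * ps (j * κ k) := by
  have e : ∀ m : K, ∑ j, φ m * (conj (ν m) * (1 - ps (-j * κ m))) * ps (j * κ k) =
      -(2 * l : ℂ) * if κ m = κ k then φ m * conj (ν m) else 0 := fun m => by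
    have e1 : ∀ j, φ m * (conj (ν m) * (1 - ps (-j * κ m))) * ps (j * κ k) =
        φ m * conj (ν m) * (ps (j * κ k) - ps (j * (κ k - κ m))) := fun j => by
      rw [mul_sub j, sub_eq_add_neg (j * κ k), ps_add, neg_mul]; ring
    simp only [e1, ← mul_sum, sum_sub_distrib, sum_ps, h.ker k hk, hU, if_false, sub_eq_zero,
      eq_comm (a := κ k)]
    split_ifs <;> push_cast <;> ring
  simp only [inner_bt hφ, mul_assoc (Nat.card K : ℂ)⁻¹, ← mul_sum, sum_mul]
  rw [sum_comm]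
  simp only [e, ← mul_sum]
  rw [h.sum_fiber (fun m => φ m * conj (ν m)) hk, avg, h.card_K]
  simp only [fun u : U => hν.mul _ (h.UH u.2) _ (h.KH hk), map_mul, ← mul_assoc, ← sum_mul]
  have := hν.mul_conj (h.KH hk)
  have l0 : (l : ℂ) ≠ 0 := Nat.cast_ne_zero.2 fun e => NeZero.ne (2 * l) (by omega)
  have u0 := card_ne_zero U
  field_simp
  linear_combination (-∑ u : U, φ (u * k) * conj (ν u)) * this

theorem inner_eq_zero (hν : Lin t x ν) {φ : G → ℂ} (hφ : IsClassFunction G φ)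
    (h0 : ∀ k ∈ K, k ∉ U → avg U ν φ k = 0) (j : ZMod (2 * l)) :
    classInner φ (bt K κ ν j) = 0 := by
  rw [inner_bt hφ]
  refine mul_eq_zero_of_right _ (mul_left_cancel₀ (card_ne_zero U) ?_)
  have e : ∀ u : U, ∑ m : K, φ m * (conj (ν m) * (1 - ps (-j * κ m))) =
      ∑ m : K, φ (u * m) * conj (ν u) * (conj (ν m) * (1 - ps (-j * κ m))) := fun u => by
    rw [← h.sum_shift (fun m => φ m * (conj (ν m) * (1 - ps (-j * κ m)))) (h.UK u.2)]
    refine sum_congr rfl fun m _ => ?_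
    rw [h.add _ (h.UK u.2) _ m.2, h.kU u.2, zero_add, hν.mul _ (h.UH u.2) _ (h.KH m.2), map_mul]
    ring
  rw [mul_zero, Nat.card_eq_fintype_card, ← nsmul_eq_mul, ← card_univ, ← sum_const,
    sum_congr rfl fun u _ => e u, sum_comm]
  refine sum_eq_zero fun m _ => ?_
  rw [← sum_mul]
  by_cases hm : (m : G) ∈ U
  · simp [h.kU hm]
  · have := h0 m m.2 hm
    rw [avg, mul_eq_zero, inv_eq_zero] at this
    rw [this.resolve_left (card_ne_zero U), zero_mul]

theorem avg_mul (hν : Lin t x ν) (φ : G → ℂ) {u : G} (hu : u ∈ U) (k : G) :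
    avg U ν φ (u * k) = ν u * avg U ν φ k := by
  rw [avg, avg, ← Equiv.sum_comp (Equiv.mulRight (⟨u, hu⟩ : U)) fun v => φ (v * k) * conj (ν v),
    mul_left_comm, mul_sum _ _ (ν u)]
  congr 1
  refine sum_congr rfl fun v _ => ?_
  simp only [Equiv.coe_mulRight, MulMemClass.coe_mul, mul_assoc,
    hν.mul _ (h.UH v.2) _ (h.UH hu), map_mul]
  linear_combination (-φ (v * (u * k)) * conj (ν v)) * hν.mul_conj (h.UH hu)

omit h in
/-- the involutions of `H \ K` -/
noncomputable def II (t : G) (K : Subgroup G) : Finset G :=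
  univ.filter fun u => u ∈ centralizer {t} ∧ u ∉ K ∧ orderOf u = 2

theorem sum_II (j : ZMod (2 * l)) (hj : -j ≠ j) : ∑ u ∈ II t K, ps (j * κ (u * a)) = 0 := by
  have e : ∑ u ∈ II t K, ps (j * κ (x * u * x⁻¹ * a)) = ∑ u ∈ II t K, ps (j * κ (u * a)) := by
    refine sum_bij (fun u _ => x * u * x⁻¹) (fun u hu => ?_) (fun u _ v _ e => by simpa using e)
      (fun u hu => ⟨x⁻¹ * u * x, ?_, by group⟩) fun u _ => rfl
    · obtain ⟨-, u1, u2, u3⟩ := mem_filter.1 hu
      exact mem_filter.2 ⟨mem_univ _, mul_mem (mul_mem h.xH u1) (inv_mem h.xH), fun e => u2 (by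
        simpa [mul_assoc] using mul_mem (mul_mem (inv_mem h.xK) e) h.xK), by rw [Inv.orderOf_conj', u3]⟩
    · obtain ⟨-, u1, u2, u3⟩ := mem_filter.1 hu
      exact mem_filter.2 ⟨mem_univ _, mul_mem (mul_mem (inv_mem h.xH) u1) h.xH, fun e => u2 (by
        simpa [mul_assoc] using mul_mem (mul_mem h.xK e) (inv_mem h.xK)),
        by rw [Inv.orderOf_conj'', u3]⟩
  rw [sum_congr rfl fun u hu => show _ = ps (j + j) * ps (j * κ (u * a)) by
    obtain ⟨-, u1, u2, u3⟩ := mem_filter.1 hu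
    have := h.out u u1 u2
    rw [show x * u * x⁻¹ * a = x * (u * a) * (a⁻¹ * x⁻¹ * a) by group, h.ainv,
      show a * x⁻¹ * a = a * x⁻¹ * a⁻¹ by rw [h.ainv],
      h.add _ (mul_mem h.xK this) _ (h.aconj (inv_mem h.xK)), h.add _ h.xK _ this,
      h.inv _ (inv_mem h.xK), h.kinv h.xK, h.one, ← ps_add]
    congr 1; ring, ← mul_sum] at e
  exact (mul_left_eq_self₀.1 e).resolve_left fun e => hj
    (neg_eq_iff_add_eq_zero.2 (ps_eq_one.1 e))

theorem conj_a {g : G} (hg : g ∈ centralizer {t}) : ps ((l : ZMod (2 * l)) * κ (g * a * g⁻¹ * a)) = 1 := by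
  have key : ∀ k ∈ K, ps ((l : ZMod (2 * l)) * κ (k * a * k⁻¹ * a)) = 1 := fun k hk => by
    rw [show k * a * k⁻¹ * a = k * (a * k⁻¹ * a⁻¹) by rw [h.ainv]; group,
      h.add _ hk _ (h.aconj (inv_mem hk)), h.inv _ (inv_mem hk), h.kinv hk, neg_neg, ps_l_two]
  rcases h.cases hg with e | ⟨k, hk, rfl⟩
  · exact key g e
  · rw [show k * a * a * (k * a)⁻¹ = k * a * k⁻¹ by group]; exact key k hk

theorem conj_b {g : G} (hg : g ∈ centralizer {t}) :
    ps ((l : ZMod (2 * l)) * κ (g * (x * a) * g⁻¹ * a)) = -1 := by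
  have key : ∀ k ∈ K, ps ((l : ZMod (2 * l)) * κ (k * (x * a) * k⁻¹ * a)) = -1 := fun k hk => by
    rw [show k * (x * a) * k⁻¹ * a = k * x * (a * k⁻¹ * a⁻¹) by rw [h.ainv]; group,
      h.add _ (mul_mem hk h.xK) _ (h.aconj (inv_mem hk)), h.add _ hk _ h.xK,
      h.inv _ (inv_mem hk), h.kinv hk, neg_neg, h.one, add_right_comm, mul_add, ps_add, ps_l_two,
      mul_one, ps_l, one_mul]
  rcases h.cases hg with e | ⟨k, hk, rfl⟩
  · exact key g e
  · rw [show k * a * (x * a) * (k * a)⁻¹ = k * x⁻¹ * (x * a) * (k * x⁻¹)⁻¹ by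
      rw [show k * a * (x * a) * (k * a)⁻¹ = k * x⁻¹ * (x * a * (x * a)) * a⁻¹ * k⁻¹ by group,
        show k * x⁻¹ * (x * a) * (k * x⁻¹)⁻¹ = k * a * x * k⁻¹ by group, h.b2,
        show k * a * x * k⁻¹ = k * x⁻¹ * (x * a * (x * a)) * a⁻¹ * k⁻¹ by group, h.b2]]
    exact key _ (mul_mem hk (inv_mem h.xK))

theorem II_sum (f : G → ℂ) : ∑ u ∈ II t K, f u =
    ∑ u ∈ univ.filter fun u => ∃ g ∈ centralizer {t}, g * a * g⁻¹ = u, f u +
      ∑ u ∈ univ.filter fun u => ∃ g ∈ centralizer {t}, g * (x * a) * g⁻¹ = u, f u := by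
  rw [← sum_union]
  · congr 1
    ext u
    simp only [II, mem_filter, mem_univ, true_and, mem_union]
    refine ⟨fun ⟨u1, u2, u3⟩ => ?_, ?_⟩
    · obtain ⟨g, hg, e | e⟩ := h.cnj u u1 u2 u3
      exacts [Or.inl ⟨g, hg, e⟩, Or.inr ⟨g, hg, e⟩]
    have key : ∀ s ∈ centralizer {t}, s ∉ K → s * s = 1 → ∀ g ∈ centralizer {t},
        g * s * g⁻¹ ∈ centralizer {t} ∧ g * s * g⁻¹ ∉ K ∧ orderOf (g * s * g⁻¹) = 2 :=
      fun s s1 s2 s3 g hg => by
        have o : orderOf (g * s * g⁻¹) = 2 := by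
          rw [Inv.orderOf_conj']; exact ord2_iff.2 ⟨s3, fun e => s2 (e ▸ one_mem K)⟩
        refine ⟨mul_mem (mul_mem hg s1) (inv_mem hg), fun e => s2 ?_, o⟩
        have := h.uniq e o
        rw [mul_inv_eq_iff_eq_mul, ← mem_centralizer_singleton_iff.1 hg] at this
        exact mul_left_cancel this ▸ h.tK
    rintro (⟨g, hg, rfl⟩ | ⟨g, hg, rfl⟩)
    exacts [key a h.aH h.aK h.a2 g hg, key _ h.bH h.bK h.b2 g hg]
  · rw [disjoint_filter]
    rintro u - ⟨g, hg, rfl⟩ ⟨g', hg', e⟩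
    have := h.conj_b hg'
    rw [e, h.conj_a hg] at this
    norm_num at this

theorem card_II : ((II t K).card : ℂ) = kk t a + kk t (x * a) := by
  have := h.II_sum fun _ => 1
  simp only [sum_const, nsmul_eq_mul, mul_one] at this
  rw [this, card_conj_eq _ h.aH, card_conj_eq _ h.bH, kk, kk]

theorem sum_II_l : ∑ u ∈ II t K, ps ((l : ZMod (2 * l)) * κ (u * a)) = kk t a - kk t (x * a) := by
  rw [h.II_sum, sum_congr rfl fun u hu => show _ = (1 : ℂ) by
    obtain ⟨g, hg, rfl⟩ := (mem_filter.1 hu).2; exact h.conj_a hg,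
    sum_congr rfl fun u hu => show ps ((l : ZMod (2 * l)) * κ (u * a)) = (-1 : ℂ) by
    obtain ⟨g, hg, rfl⟩ := (mem_filter.1 hu).2; exact h.conj_b hg]
  simp only [sum_const, nsmul_eq_mul, mul_one]
  rw [card_conj_eq _ h.aH, card_conj_eq _ h.bH, kk, kk]; ring

theorem bt_pair (hν : Lin t x ν) (j : ZMod (2 * l)) :
    (Nat.card K : ℂ) * classInner (bt K κ ν j) (pairFun t) = (II t K).card ^ 2 -
      (∑ u ∈ II t K, ps (j * κ (u * a))) * ∑ u ∈ II t K, ps (-j * κ (u * a)) := by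
  rw [bt, classInner_indFun_left K _ (isClassFunction_pairFun t), card_mul_classInner]
  simp only [conj_pairFun]
  rw [← sum_extendByZero_mul, sum_mul_pairFun]
  have e : ∀ u v, classInd t u * (classInd t v * extendByZero K (fun h => th κ ν j h) (u * v)) =
      if u ∈ II t K then if v ∈ II t K then
        1 - ps (j * κ (u * a)) * ps (-j * κ (v * a)) else 0 else 0 := fun u v => by
    rw [← ite_and]
    split_ifs with hc
    · obtain ⟨⟨-, u1, u2, u3⟩, -, v1, v2, v3⟩ := hc.imp mem_filter.1 mem_filter.1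
      have hu := h.out u u1 u2
      have hv := h.out v v1 v2
      have e : u * v = u * a * (v * a)⁻¹ := by rw [mul_inv_rev, inv_of_ord2 v3]; group
      rw [extendByZero_of_mem K _ (e ▸ mul_mem hu (inv_mem hv))]
      simp only [classInd, h.cls u u3, h.cls v v3, if_true, one_mul, th]
      rw [hν.mul _ u1 _ v1, hν.inv _ u1 (sq_of_ord2 u3), hν.inv _ v1 (sq_of_ord2 v3), e,
        h.add _ hu _ (inv_mem hv), h.kinv hv, mul_add, ps_add]
      simp
    · by_contra hne
      obtain ⟨h1, h2⟩ := mul_ne_zero_iff.1 hne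
      obtain ⟨h2, h3⟩ := mul_ne_zero_iff.1 h2
      have ou : orderOf u = 2 := by
        rw [← h.ord]; exact (orderOf_isConj (by by_contra e; exact h1 (if_neg e))).symm
      have ov : orderOf v = 2 := by
        rw [← h.ord]; exact (orderOf_isConj (by by_contra e; exact h2 (if_neg e))).symm
      have hK : u * v ∈ K := by by_contra e; exact h3 (extendByZero_of_not_mem K _ e)
      rw [extendByZero_of_mem K _ hK] at h3
      have hU : u * v ∉ U := fun e => h3 (h.th_U ν j e)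
      have uH : u ∈ centralizer {t} := h.ti hK hU
        (by rw [inverts_left (sq_of_ord2 ou) (sq_of_ord2 ov)]; exact inv_mem hK)
      have vH : v ∈ centralizer {t} := by simpa using mul_mem (inv_mem uH) (h.KH hK)
      have uK : u ∉ K := fun e => hU (by
        rw [h.uniq e ou, h.uniq (by simpa using mul_mem (inv_mem e) hK) ov, sq_of_ord2 h.ord]
        exact one_mem _)
      have vK : v ∉ K := fun e => uK (by simpa using mul_mem hK (inv_mem e))
      exact hc ⟨mem_filter.2 ⟨mem_univ _, uH, uK, ou⟩, mem_filter.2 ⟨mem_univ _, vH, vK, ov⟩⟩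
  simp only [mul_sum, e]
  simp only [sum_ite_irrel, sum_const_zero, sum_ite_mem, univ_inter, sum_sub_distrib, sum_const,
    nsmul_eq_mul, mul_one, sum_mul]
  rw [sum_comm, sq]

theorem theta (hν : Lin t x ν) {j : ZMod (2 * l)} (hj : j ≠ 0) :
    (Nat.card G : ℂ) * classInner (bt K κ ν j) (pairFun t) =
      (centralizer ({t} : Set G)).index * if j = l then (8 * kk t a * kk t (x * a) : ℂ) else
        2 * (kk t a + kk t (x * a)) ^ 2 := by
  have e := h.bt_pair hν j
  have e5 : (Nat.card G : ℂ) = 2 * Nat.card K * (centralizer ({t} : Set G)).index := by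
    exact_mod_cast h.card_G
  rw [h.card_II] at e
  split_ifs with hl
  · rw [hl, neg_l, h.sum_II_l] at e
    rw [e5, hl]
    linear_combination 2 * ((centralizer ({t} : Set G)).index : ℂ) * e
  · rw [h.sum_II j fun e => (neg_eq_self.1 e).elim hj hl] at e
    rw [e5]
    linear_combination 2 * ((centralizer ({t} : Set G)).index : ℂ) * e

end CS

end Cfsg.Agent.GW
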