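import Cfsg.Agent.GW.Ch1

/-! Groups with dihedral Sylow 2-subgroups: separation of blocks and the four characters. -/

set_option autoImplicit false
set_option linter.unusedVariables false
set_option linter.unusedSectionVars false

namespace Cfsg.Agent.GW

open Cfsg.Agent.PLoc Cfsg.Agent.Inv Cfsg.Agent.Char Cfsg.Agent.Dih Cfsg.Agent.Blk Subgroup Finset
open MonoidAlgebra (single)
open scoped ComplexConjugate Classical

variable {M : Ideal AlgInt} [hp : PMod 2 M]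

theorem two_mul_mem_LP {z : ℂ} (hz : z ∈ LR M) : z + z ∈ LP M := by
  rw [← two_mul]; exact LP_mul_right (by exact_mod_cast p_mem_LP (p := 2) (M := M)) hz

theorem sum_mem_LP_invol {X : Type*} (s : Finset X) (σ : X → X) (f : X → ℂ)
    (h1 : ∀ x ∈ s, σ x ∈ s) (h2 : ∀ x ∈ s, σ (σ x) = x) (h3 : ∀ x ∈ s, f x ∉ LP M → σ x ≠ x)
    (h4 : ∀ x ∈ s, f (σ x) = f x) (h5 : ∀ x ∈ s, f x ∈ LR M) : ∑ x ∈ s, f x ∈ LP M := by
  rw [← QuotientAddGroup.eq_zero_iff, ← QuotientAddGroup.mk'_apply, map_sum]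
  refine sum_involution (fun x _ => σ x) (fun x hx => ?_) (fun x hx e => h3 x hx fun e' => e ?_)
    h1 h2
  · rw [← map_add, h4 x hx]
    exact (QuotientAddGroup.eq_zero_iff _).2 (two_mul_mem_LP (h5 x hx))
  · exact (QuotientAddGroup.eq_zero_iff _).2 e'

theorem eq_of_idem {x y : ℂ} (hx : x * x = x) (hy : y * y = y) (h : x - y ∈ LP M) : x = y := by
  have hx' : x = 0 ∨ x = 1 := by
    rcases mul_eq_zero.1 (show x * (x - 1) = 0 by linear_combination hx) with e | e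
    exacts [Or.inl e, Or.inr (sub_eq_zero.1 e)]
  have hy' : y = 0 ∨ y = 1 := by
    rcases mul_eq_zero.1 (show y * (y - 1) = 0 by linear_combination hy) with e | e
    exacts [Or.inl e, Or.inr (sub_eq_zero.1 e)]
  rcases hx' with rfl | rfl <;> rcases hy' with rfl | rfl
  · rfl
  · exact absurd (by simpa using neg_mem h) (one_notMem_LP (M := M))
  · exact absurd (by simpa using h) (one_notMem_LP (M := M))
  · rfl

variable {G : Type*} [Group G] [Fintype G]

theorem sep {t : G} (ht : orderOf t = 2) {e : GA (centralizer ({t} : Set G))}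
    (he : e ∈ ZR M (centralizer ({t} : Set G))) (he2 : e * e = e)
    (hs : ∀ ξ ξ' χ, Ind M (centralizer ({t} : Set G)).subtype ξ χ →
      Ind M (centralizer ({t} : Set G)).subtype ξ' χ → om ξ e - om ξ' e ∈ LP M)
    (χ : IrrCharacter G) :
    (∀ h : centralizer ({t} : Set G), (∀ z, IsPPart 2 (h : G) z → centralizer {z} ≤ centralizer {t}) →
      ev (fun k : centralizer ({t} : Set G) => (χ : G → ℂ) k) (e * single h 1) = (χ : G → ℂ) h) ∨
    (∀ h : centralizer ({t} : Set G), (∀ z, IsPPart 2 (h : G) z → centralizer {z} ≤ centralizer {t}) →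
      ev (fun k : centralizer ({t} : Set G) => (χ : G → ℂ) k) (e * single h 1) = 0) := by
  have : Fact (Nat.Prime 2) := ⟨Nat.prime_two⟩
  have id : ∀ ξ : IrrCharacter (centralizer ({t} : Set G)), om ξ e * om ξ e = om ξ e := fun ξ => by
    rw [← om_mul ξ he.2, he2]
  have key : ∀ h : centralizer ({t} : Set G),
      (∀ z, IsPPart 2 (h : G) z → centralizer {z} ≤ centralizer {t}) → ∀ c : ℂ,
      (∀ ξ, Ind M (centralizer ({t} : Set G)).subtype ξ χ → om ξ e = c) →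
      ev (fun k : centralizer ({t} : Set G) => (χ : G → ℂ) k) (e * single h 1) =
        c * (χ : G → ℂ) h := fun h hh c hc => by
    rw [← one_mul ((χ : G → ℂ) h),
      ← ev_single (fun k : centralizer ({t} : Set G) => (χ : G → ℂ) k) h 1,
      ev_eq_sum_blocks (M := M), ev_eq_sum_blocks (M := M) _ (single h 1), mul_sum]
    refine sum_congr rfl fun b hb => ?_
    have hb := mem_blocks.1 hb
    obtain ⟨ξ, hξ⟩ := blk_nonempty hb
    have e1 : fS b * e = om ξ e • fS b := by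
      refine cen_ext (mul_mem (fS_mem_ZA b) he.2) (Subalgebra.smul_mem _ (fS_mem_ZA b) _)
        fun ψ => ?_
      rw [om_mul ψ (fS_mem_ZA b), om_smul]
      by_cases hψ : ψ ∈ b
      · rw [eq_of_idem (id ψ) (id ξ) (om_sub_mem_of_blk hb hψ hξ he), mul_comm]
      · simp [om_fS_of_notMem hψ]
    rw [← mul_assoc, e1, smul_mul_assoc, map_smul, smul_eq_mul]
    obtain ⟨χ₀, h0⟩ := exists_ind_cent (M := M) (p := 2) ⟨1, ht⟩ ξ
    by_cases hs : SameBlock M (χ₀ : G → ℂ) χ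
    · rw [hc ξ (h0.right hs)]
    · have := second_main (p := 2) (subtype_injective _) hb hξ h0 hs h
        (by rw [range_subtype]; exact hh)
      simp only [coe_subtype] at this
      rw [this, mul_zero, mul_zero]
  by_cases hA : ∃ ξ, Ind M (centralizer ({t} : Set G)).subtype ξ χ ∧ om ξ e ≠ 0
  · obtain ⟨ξ₀, h0, h1⟩ := hA
    refine Or.inl fun h hh => ?_
    rw [key h hh 1 fun ξ hξ => (eq_of_idem (id _) (id _) (hs ξ ξ₀ χ hξ h0)).trans
      (mul_left_eq_self₀.1 (id ξ₀) |>.resolve_right h1), one_mul]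
  · push Not at hA
    exact Or.inr fun h hh => by rw [key h hh 0 hA, zero_mul]

/-- a conjugating element -/
noncomputable def gam (t u : G) : G := if h : IsConj t u then (isConj_iff.1 h).choose else 1

/-- The transported function. -/
noncomputable def FF (t : G) (E : G → ℂ) (u z : G) : ℂ := E ((gam t u)⁻¹ * z * gam t u)

/-- The relative trace. -/
noncomputable def Tr (t : G) (E : G → ℂ) (z : G) : ℂ :=
  ∑ u ∈ univ.filter (IsConj t), FF t E u z

section
variable {t : G} {E : G → ℂ} (hE : ∀ h ∈ centralizer ({t} : Set G), ∀ z, E (h * z * h⁻¹) = E z)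
include hE

theorem FF_eq {g u : G} (hg : g * t * g⁻¹ = u) (z : G) : FF t E u z = E (g⁻¹ * z * g) := by
  have hc : IsConj t u := isConj_iff.2 ⟨g, hg⟩
  have e : gam t u * t * (gam t u)⁻¹ = u := by
    rw [gam, dif_pos hc]; exact (isConj_iff.1 hc).choose_spec
  rw [FF, ← hE (g⁻¹ * gam t u) (mem_centralizer_singleton_iff.2 (by
    rw [mul_assoc, mul_inv_eq_iff_eq_mul.1 e, ← hg]; group))]
  congr 1; group

theorem FF_conj {u : G} (hu : IsConj t u) (g z : G) :
    FF t E (g * u * g⁻¹) (g * z * g⁻¹) = FF t E u z := by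
  obtain ⟨w, rfl⟩ := isConj_iff.1 hu
  rw [FF_eq hE rfl, FF_eq hE (g := g * w) (by group)]
  congr 1; group

theorem isClass_Tr : IsClassFunction G (Tr t E) := fun z g => by
  symm
  refine sum_bij (fun u _ => g * u * g⁻¹) (fun u hu => ?_) (fun u _ v _ e => by simpa using e)
    (fun u hu => ⟨g⁻¹ * u * g, ?_, by group⟩) fun u hu => (FF_conj hE (mem_filter.1 hu).2 g z).symm
  · exact mem_filter.2 ⟨mem_univ _, (mem_filter.1 hu).2.trans (Inv.isConj_conj g u)⟩
  · exact mem_filter.2 ⟨mem_univ _, (mem_filter.1 hu).2.trans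
      (by simpa using Inv.isConj_conj g⁻¹ u)⟩

theorem Tr_mem_ZR (hR : ∀ z, E z ∈ LR M) : ofFn (Tr t E) ∈ ZR M G :=
  ofFn_mem_ZR (isClass_Tr hE) fun z => Subring.sum_mem _ fun u _ => hR _

end

/-- The coefficients of the idempotent `e_ν`. -/
noncomputable def EE (U : Subgroup G) (ν : G → ℂ) (z : G) : ℂ :=
  if z ∈ U then (Nat.card U : ℂ)⁻¹ * conj (ν z) else 0

/-- restriction of a function to the group algebra of `C(t)` -/
noncomputable def eH (t : G) (E : G → ℂ) : GA (centralizer ({t} : Set G)) := ofFn fun h => E h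

theorem sum_H_ite {H U : Subgroup G} (hU : U ≤ H) (f : G → ℂ) :
    ∑ g : H, (if (g : G) ∈ U then f g else 0) = ∑ u : U, f u := by
  rw [← sum_filter]
  symm
  exact sum_bij (fun (u : U) _ => (⟨u, hU u.2⟩ : H)) (fun u _ => by simp)
    (fun u _ v _ e => Subtype.ext (congrArg (fun y : H => (y : G)) e))
    (fun m hm => ⟨⟨m, (mem_filter.1 hm).2⟩, mem_univ _, rfl⟩) fun u _ => rfl

theorem ev_eH {t : G} {U : Subgroup G} (hU : U ≤ centralizer {t}) (ν φ : G → ℂ)
    (k : centralizer ({t} : Set G)) :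
    ev (fun h : centralizer ({t} : Set G) => φ h) (eH t (EE U ν) * single k 1) = avg U ν φ k := by
  rw [ev_mul_single, avg, mul_sum,
    ← sum_H_ite hU fun u => (Nat.card U : ℂ)⁻¹ * (φ (u * k) * conj (ν u))]
  refine sum_congr rfl fun g _ => ?_
  simp only [eH, coeff_ofFn, EE, MulMemClass.coe_mul]
  split_ifs <;> ring

section
variable {t x : G} {ν ν' : G → ℂ} {U : Subgroup G}

theorem EE_conj (hν : Lin t x ν) (hU : U ≤ centralizer {t})
    (hn : ∀ h ∈ centralizer ({t} : Set G), ∀ u ∈ U, h * u * h⁻¹ ∈ U) :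
    ∀ h ∈ centralizer ({t} : Set G), ∀ z, EE U ν (h * z * h⁻¹) = EE U ν z := fun h hh z => by
  by_cases hz : z ∈ U
  · rw [EE, EE, if_pos hz, if_pos (hn h hh z hz), hν.cj hh (hU hz)]
  · rw [EE, EE, if_neg hz, if_neg fun e => hz (by simpa [mul_assoc] using hn _ (inv_mem hh) _ e)]

theorem EE_mem (hν : Lin t x ν) (hU : U ≤ centralizer {t}) (ho : Odd (Nat.card U)) (z : G) :
    EE U ν z ∈ LR M := by
  rw [EE]; split_ifs with hz
  · exact mul_mem (natCast_inv_mem_LR (p := 2) ho.not_two_dvd_nat)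
      (LR_of_isIntegral (hν.isIntegral (hU hz)))
  · exact zero_mem _

theorem eH_mem {E : G → ℂ} (hE : ∀ h ∈ centralizer ({t} : Set G), ∀ z, E (h * z * h⁻¹) = E z)
    (hR : ∀ z, E z ∈ LR M) : eH t E ∈ ZR M (centralizer ({t} : Set G)) :=
  ofFn_mem_ZR (fun z g => hE g g.2 z) fun z => hR z

theorem coeff_EE_mul (hU : U ≤ centralizer {t}) (ν E : G → ℂ) (z : centralizer ({t} : Set G)) :
    (eH t (EE U ν) * eH t E).coeff z =
      (Nat.card U : ℂ)⁻¹ * ∑ u : U, conj (ν u) * E ((u : G)⁻¹ * z) := by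
  rw [coeff_mul_sum, mul_sum,
    ← sum_H_ite hU fun u => (Nat.card U : ℂ)⁻¹ * (conj (ν u) * E (u⁻¹ * z))]
  refine sum_congr rfl fun g _ => ?_
  simp only [eH, coeff_ofFn, EE, MulMemClass.coe_mul, InvMemClass.coe_inv]
  split_ifs <;> ring

theorem EE_mul_EE (hν : Lin t x ν) {U' : Subgroup G} (hU' : U' ≤ U) (hU : U ≤ centralizer {t})
    (h : ∀ u ∈ U', ν' u = ν u) : eH t (EE U' ν') * eH t (EE U ν) = eH t (EE U ν) := by
  refine ga_ext fun z => ?_
  rw [coeff_EE_mul (hU'.trans hU)]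
  have e : ∀ u : U', conj (ν' u) * EE U ν ((u : G)⁻¹ * z) = EE U ν z := fun u => by
    by_cases hz : (z : G) ∈ U
    · rw [EE, EE, if_pos hz, if_pos (mul_mem (inv_mem (hU' u.2)) hz), h u u.2,
        hν.mul _ (inv_mem (hU (hU' u.2))) _ z.2, map_mul, ← hν.conj_eq (hU (hU' u.2)),
        Complex.conj_conj]
      linear_combination (Nat.card U : ℂ)⁻¹ * conj (ν z) * hν.mul_conj (hU (hU' u.2))
    · rw [EE, EE, if_neg hz, if_neg fun e => hz (by simpa using mul_mem (hU' u.2) e), mul_zero]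
  simp only [e, sum_const, card_univ, ← Nat.card_eq_fintype_card, nsmul_eq_mul]
  rw [inv_mul_cancel_left₀ (card_ne_zero U')]; rfl

theorem EE_mul_EE_ne (hν : Lin t x ν) (hν' : Lin t x ν') (hU : U ≤ centralizer {t}) {u : G}
    (hu : u ∈ U) (h : ν u ≠ ν' u) : eH t (EE U ν') * eH t (EE U ν) = 0 := by
  refine ga_ext fun z => ?_
  rw [coeff_EE_mul hU]
  have e : ∑ v : U, conj (ν' (u * v)) * EE U ν ((u * v)⁻¹ * z) = _ :=
    Equiv.sum_comp (Equiv.mulLeft (⟨u, hu⟩ : U)) fun v => conj (ν' v) * EE U ν ((v : G)⁻¹ * z)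
  rw [sum_congr rfl fun (v : U) _ => show conj (ν' (u * v)) * EE U ν ((u * v)⁻¹ * z) =
      (conj (ν' u) * ν u) * (conj (ν' v) * EE U ν ((v : G)⁻¹ * z)) by
    rw [mul_inv_rev]
    by_cases hz : (z : G) ∈ U
    · rw [EE, EE, if_pos (mul_mem (inv_mem v.2) hz),
        if_pos (mul_mem (mul_mem (inv_mem v.2) (inv_mem hu)) hz), hν'.mul _ (hU hu) _ (hU v.2),
        hν.mul _ (hU (mul_mem (inv_mem v.2) (inv_mem hu))) _ z.2,
        hν.mul _ (hU (inv_mem v.2)) _ (hU (inv_mem hu)), hν.mul _ (hU (inv_mem v.2)) _ z.2,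
        ← hν.conj_eq (hU hu)]
      simp only [map_mul, Complex.conj_conj]; ring
    · rw [EE, EE, if_neg fun e => hz (by
        rw [show (z : G) = u * v * ((v : G)⁻¹ * u⁻¹ * z) by group]; exact mul_mem (mul_mem hu v.2) e),
        if_neg fun e => hz (by simpa using mul_mem v.2 e)]
      simp, ← mul_sum] at e
  rw [(mul_left_eq_self₀.1 e).resolve_left fun e => h ?_, mul_zero]; · rfl
  linear_combination ν' u * e - ν u * hν'.mul_conj (hU hu)

end

theorem sq4 {ι : Type*} [Fintype ι] {m : ι → ℤ} (h : ∑ i, m i * m i = 4) {d : ι → ℂ}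
    (hd : ∀ i, d i ≠ 0) (h0 : ∑ i, m i * d i = 0) (i : ι) : m i = 0 ∨ m i = 1 ∨ m i = -1 := by
  rw [← add_sum_erase _ _ (mem_univ i)] at h h0
  have e := sum_nonneg fun j (_ : j ∈ univ.erase i) => mul_self_nonneg (m j)
  by_contra hc
  have : 4 ≤ m i * m i := by
    rcases (show m i ≤ -2 ∨ 2 ≤ m i by omega) with e | e <;> nlinarith
  have e2 := (sum_eq_zero_iff_of_nonneg fun j (_ : j ∈ univ.erase i) => mul_self_nonneg (m j)).1
    (by omega)
  rw [sum_eq_zero fun j hj => by rw [mul_self_eq_zero.1 (e2 j hj)]; simp, add_zero] at h0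
  exact hc (Or.inl (by exact_mod_cast (mul_eq_zero.1 h0).resolve_right (hd i)))

theorem card_supp {ι : Type*} [Fintype ι] {m : ι → ℤ} (h : ∀ i, m i = 0 ∨ m i = 1 ∨ m i = -1) :
    ((univ.filter fun i => m i ≠ 0).card : ℤ) = ∑ i, m i * m i := by
  rw [card_filter]; push_cast
  exact sum_congr rfl fun i _ => by rcases h i with e | e | e <;> simp [e]

theorem exists_pair {ι : Type*} [DecidableEq ι] {s : Finset ι} (h : s.card = 2) (o : ι) :
    ∃ a b, a ≠ b ∧ s = {a, b} ∧ (o ∈ s → a = o) := by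
  obtain ⟨a, b, hab, rfl⟩ := card_eq_two.1 h
  by_cases e : b = o
  · exact ⟨b, a, hab.symm, pair_comm _ _, fun _ => e⟩
  · exact ⟨a, b, hab, rfl, fun ho => by simpa [Ne.symm e, eq_comm] using ho⟩

theorem dirr_int (χ : IrrCharacter G) {m : ℤ} (hm : m = 1 ∨ m = -1) :
    IsDirr ((m : ℂ) • (χ : G → ℂ)) := χ.2.isDirr.smul (by exact_mod_cast hm)

theorem inner_int (χ ψ : IrrCharacter G) (m n : ℤ) (h : χ ≠ ψ) :
    classInner ((m : ℂ) • (χ : G → ℂ)) ((n : ℂ) • (ψ : G → ℂ)) = 0 := by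
  rw [classInner_smul_left, classInner_smul_right, irr_classInner, if_neg h]; simp

namespace CS

variable {t a x : G} {U K : Subgroup G} {l : ℕ} [NeZero (2 * l)] {κ : G → ZMod (2 * l)}
  (h : CS t a x U K l κ) {ν : G → ℂ}
include h

theorem hC {k : G} (hk : k ∈ K) (hU : k ∉ U) (z : G) (hz : IsPPart 2 k z) :
    centralizer {z} ≤ centralizer ({t} : Set G) := by
  have zK := ppart_mem Nat.prime_two hz hk
  obtain ⟨n, hn⟩ := h.pow_t zK fun e => by
    obtain ⟨j, hj⟩ := ppart_order hz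
    have o := (h.odd _ (h.UH e)).1 e
    rcases j with _ | j
    · exact ppart_ne_one Nat.prime_two hz (even_iff_two_dvd.1 (Nat.not_odd_iff_even.1
        fun e => hU ((h.odd _ (h.KH hk)).2 e))) (orderOf_eq_one_iff.1 hj)
    · rw [hj] at o; exact o.not_two_dvd_nat (dvd_pow_self 2 j.succ_ne_zero)
  intro g hg
  rw [mem_centralizer_singleton_iff, ← hn]
  exact ((show Commute g z from mem_centralizer_singleton_iff.1 hg).pow_right n).eq

theorem mem_II {u : G} : u ∈ II t K ↔ u ∈ centralizer {t} ∧ u ∉ K ∧ orderOf u = 2 := by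
  simp [II]

theorem II_mul {u : G} (hu : u ∈ II t K) : u * t ∈ II t K := by
  obtain ⟨u1, u2, u3⟩ := h.mem_II.1 hu
  have hK : u * t ∉ K := fun e => u2 (by simpa using mul_mem e (inv_mem h.tK))
  refine h.mem_II.2 ⟨mul_mem u1 h.tH, hK, ord2_iff.2 ⟨?_, fun e => hK (e ▸ one_mem K)⟩⟩
  rw [show u * t * (u * t) = u * (t * u) * t by group, ← mem_centralizer_singleton_iff.1 u1,
    show u * (u * t) * t = (u * u) * (t * t) by group, sq_of_ord2 u3, sq_of_ord2 h.ord, one_mul]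

theorem II_conj {u g : G} (hu : u ∈ II t K) (hg : g ∈ centralizer {t}) : g * u * g⁻¹ ∈ II t K := by
  obtain ⟨u1, u2, u3⟩ := h.mem_II.1 hu
  have o : orderOf (g * u * g⁻¹) = 2 := by rw [Inv.orderOf_conj', u3]
  refine h.mem_II.2 ⟨mul_mem (mul_mem hg u1) (inv_mem hg), fun e => u2 ?_, o⟩
  have := h.uniq e o
  rw [mul_inv_eq_iff_eq_mul, ← mem_centralizer_singleton_iff.1 hg] at this
  exact mul_left_cancel this ▸ h.tK

theorem Tr_mod {E : G → ℂ} (hE : ∀ h ∈ centralizer ({t} : Set G), ∀ z, E (h * z * h⁻¹) = E z)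
    (hR : ∀ z, E z ∈ LR M) {z : G} (hz : z ∈ centralizer {t}) :
    Tr t E z - (E z + ∑ u ∈ II t K, FF t E u z) ∈ LP M := by
  rw [Tr, ← sum_filter_add_sum_filter_not _ (· ∈ centralizer ({t} : Set G))]
  have e : (univ.filter (IsConj t)).filter (· ∈ centralizer ({t} : Set G)) = insert t (II t K) := by
    ext u
    simp only [mem_filter, mem_univ, true_and, mem_insert, h.mem_II]
    refine ⟨fun ⟨u1, u2⟩ => ?_, ?_⟩
    · have o := (Inv.orderOf_isConj u1).symm.trans h.ord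
      by_cases e : u ∈ K
      exacts [Or.inl (h.uniq e o), Or.inr ⟨u2, e, o⟩]
    · rintro (rfl | ⟨u1, u2, u3⟩)
      exacts [⟨IsConj.refl _, h.tH⟩, ⟨h.cls u u3, u1⟩]
  rw [e, sum_insert fun e => (h.mem_II.1 e).2.1 h.tK, FF_eq hE (g := 1) (by simp)]
  simp only [inv_one, one_mul, mul_one, add_sub_cancel_left]
  refine sum_mem_LP_invol _ (fun u => t * u * t⁻¹) _ (fun u hu => ?_) (fun u hu => ?_)
    (fun u hu _ e => ?_) (fun u hu => ?_) fun u _ => hR _
  · simp only [mem_filter, mem_univ, true_and] at hu ⊢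
    exact ⟨hu.1.trans (Inv.isConj_conj _ _), fun e => hu.2 (by
      simpa [mul_assoc] using mul_mem (mul_mem (inv_mem h.tH) e) h.tH)⟩
  · rw [show t * (t * u * t⁻¹) * t⁻¹ = t * t * u * (t * t)⁻¹ by group, sq_of_ord2 h.ord]; simp
  · exact (mem_filter.1 hu).2 (mem_centralizer_singleton_iff.2 (mul_inv_eq_iff_eq_mul.1 e).symm)
  · rw [← FF_conj hE (mem_filter.1 (mem_filter.1 hu).1).2 t z,
      ← mem_centralizer_singleton_iff.1 hz, mul_inv_cancel_right]

theorem Tr_mod' {E : G → ℂ} (hE : ∀ h ∈ centralizer ({t} : Set G), ∀ z, E (h * z * h⁻¹) = E z)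
    (hR : ∀ z, E z ∈ LR M)
    (hf : ∀ u ∈ II t K, ∀ z ∈ centralizer ({t} : Set G), FF t E (u * t) z = FF t E u z)
    {ξ : IrrCharacter (centralizer ({t} : Set G))} {χ : IrrCharacter G}
    (hi : Ind M (centralizer ({t} : Set G)).subtype ξ χ) :
    om ξ (eH t E) - om χ (ofFn (Tr t E)) ∈ LP M := by
  refine LP_trans (LP_symm (om_congr_PG ξ (pull_mem_ZA _ (Tr_mem_ZR (M := M) hE hR).2)
    (eH_mem (M := M) hE hR).2 fun z => ?_)) (hi _ (Tr_mem_ZR hE hR))
  have := add_mem (h.Tr_mod hE hR z.2) (sum_mem_LP_invol (II t K) (· * t) (fun u => FF t E u z)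
    (fun u hu => h.II_mul hu) (fun u _ => by rw [mul_assoc, sq_of_ord2 h.ord, mul_one])
    (fun u _ _ e => ne_one_of_ord2 h.ord (by simpa using e)) (fun u hu => hf u hu z z.2)
    fun u _ => hR _)
  convert this using 1
  simp [pull, eH]; ring

theorem FF_EE (hν : Lin t x ν) {g u z : G} (hg : g * t * g⁻¹ = u) (hz : z ∈ centralizer {t}) :
    FF t (EE U ν) u z = if z ∈ U ∧ z * u = u * z then
      (Nat.card U : ℂ)⁻¹ * conj (ν (g⁻¹ * z * g)) else 0 := by
  rw [FF_eq (EE_conj hν h.UH fun _ hh _ => h.conjU hh) hg, EE]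
  have e : g⁻¹ * z * g ∈ centralizer {t} ↔ z * u = u * z := by
    rw [mem_centralizer_singleton_iff, ← hg]
    refine ⟨fun e => ?_, fun e => ?_⟩
    · calc _ = g * (g⁻¹ * z * g * t) * g⁻¹ := by group
        _ = _ := by rw [e]; group
    · calc _ = g⁻¹ * (z * (g * t * g⁻¹)) * g := by group
        _ = _ := by rw [e]; group
  refine if_congr ⟨fun hU => ⟨?_, e.1 (h.UH hU)⟩, fun ⟨h1, h2⟩ => ?_⟩ rfl rfl
  · rw [h.odd _ hz, ← Inv.orderOf_conj'' g]; exact (h.odd _ (h.UH hU)).1 hU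
  · rw [h.odd _ (e.2 h2), Inv.orderOf_conj'' g]; exact (h.odd _ hz).1 h1

omit h in
/-- The separation property. -/
def Sp (U K : Subgroup G) (ν : G → ℂ) : Prop := ∀ χ : IrrCharacter G,
  (∀ k ∈ K, k ∉ U → avg U ν χ k = (χ : G → ℂ) k) ∨ ∀ k ∈ K, k ∉ U → avg U ν χ k = 0

omit hp in
theorem sp_of_fused (hν : Lin t x ν) (hf : ∀ u ∈ II t K, ∃ g, g * t * g⁻¹ = u ∧
    ∀ z ∈ U, z * u = u * z → ν (g⁻¹ * z * g) = ν z) : Sp U K ν := fun χ => by
  obtain ⟨M, hM⟩ := exists_isPModular 2 Nat.prime_two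
  have : PMod 2 M := ⟨hM⟩
  have hE := EE_conj hν h.UH fun _ hh _ => h.conjU hh
  have hR := EE_mem (M := M) hν h.UH h.oddU
  have key : ∀ u ∈ II t K, ∀ z ∈ centralizer ({t} : Set G), FF t (EE U ν) u z =
      if z ∈ U ∧ z * u = u * z then (Nat.card U : ℂ)⁻¹ * conj (ν z) else 0 := fun u hu z hz => by
    obtain ⟨g, hg, e⟩ := hf u hu
    rw [h.FF_EE hν hg hz]
    split_ifs with hc
    · rw [e z hc.1 hc.2]
    · rfl
  have := sep (M := M) h.ord (eH_mem hE hR) (EE_mul_EE hν le_rfl h.UH fun _ _ => rfl)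
    (fun ξ ξ' χ h1 h2 => by
      have hf : ∀ u ∈ II t K, ∀ z ∈ centralizer ({t} : Set G),
          FF t (EE U ν) (u * t) z = FF t (EE U ν) u z := fun u hu z hz => by
        rw [key u hu z hz, key _ (h.II_mul hu) z hz]
        refine if_congr (and_congr_right fun _ => ?_) rfl rfl
        rw [mul_assoc u, ← mem_centralizer_singleton_iff.1 hz, ← mul_assoc, ← mul_assoc,
          mul_left_inj]
      exact LP_trans (h.Tr_mod' hE hR hf h1) (LP_symm (h.Tr_mod' hE hR hf h2))) χ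
  refine this.imp (fun e k hk hU => ?_) fun e k hk hU => ?_
  · rw [← e ⟨k, h.KH hk⟩ (h.hC hk hU), ev_eH h.UH]
  · rw [← e ⟨k, h.KH hk⟩ (h.hC hk hU), ev_eH h.UH]

omit hp in
theorem exists_mult (hν : Lin t x ν) : ∃ m : ZMod (2 * l) → IrrCharacter G → ℤ,
    (∀ j χ, classInner (bt K κ ν j) χ.1 = m j χ) ∧ (∀ j χ, classInner χ.1 (bt K κ ν j) = m j χ) ∧
    (∀ j, bt K κ ν j = ∑ χ, (m j χ : ℂ) • (χ : G → ℂ)) ∧
    (∀ χ, m l χ = 0 ∨ m l χ = 1 ∨ m l χ = -1) ∧ (univ.filter fun χ => m l χ ≠ 0).card = 4 ∧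
    ∀ i j, i ≠ 0 → j ≠ 0 → ∑ χ, m i χ * m j χ =
      2 + (if i = j then 1 else 0) + if -i = j then 1 else 0 := by
  choose m hm hs using fun j => (h.isGen_bt hν j).exists_mult
  have ip : ∀ i j, i ≠ 0 → j ≠ 0 → ∑ χ, m i χ * m j χ =
      2 + (if i = j then 1 else 0) + if -i = j then 1 else 0 := fun i j hi hj => by
    have := h.bt_bt hν hi hj
    rw [hs i, hs j, classInner_sum_irr_sum_irr] at this
    simp only [map_intCast] at this
    apply Int.cast_injective (α := ℂ)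
    push_cast
    exact this
  have l4 : ∑ χ, m l χ * m l χ = 4 := by rw [ip _ _ l_ne_zero l_ne_zero, neg_l]; simp
  have s1 := sq4 l4 (fun χ : IrrCharacter G => χ.2.one_ne_zero) (by
    have := congrFun (hs l) 1
    rw [h.bt_one] at this
    simpa using this.symm)
  exact ⟨m, hm, fun j χ => by rw [χ.2.isGen.classInner_comm (h.isGen_bt hν j), hm], hs, s1,
    by exact_mod_cast (card_supp s1).trans l4, ip⟩

local notation "ℓ" => ((l : ℕ) : ZMod (2 * l))

omit hp in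
theorem four (hν : Lin t x ν) (hS : Sp U K ν) (o : IrrCharacter G) :
    ∃ c₁ c₂ c₃ c₄ : G → ℂ, IsDirr c₁ ∧ IsDirr c₂ ∧ IsDirr c₃ ∧ IsDirr c₄ ∧
      bt K κ ν l = c₁ + c₂ + c₃ + c₄ ∧ classInner c₁ c₂ = 0 ∧ classInner c₁ c₃ = 0 ∧
      classInner c₁ c₄ = 0 ∧ ((∀ j, j ≠ 0 → classInner o.1 (bt K κ ν j) = 1) → c₁ = o) ∧
      (∀ k ∈ K, k ∉ U → c₁ k = ν k ∧ c₂ k = ν k ∧
        c₃ k = -ps (ℓ * κ k) * ν k ∧ c₄ k = -ps (ℓ * κ k) * ν k) ∧
      (l ≠ 1 → classInner (bt K κ ν 1) c₁ = 1 ∧ classInner (bt K κ ν 1) c₂ = 1) := by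
  obtain ⟨M, hM⟩ := exists_isPModular 2 Nat.prime_two
  have : PMod 2 M := ⟨hM⟩
  obtain ⟨m, hm, hm', hs, s1, c4, ip⟩ := h.exists_mult hν
  have m0 : ∀ χ, m 0 χ = 0 := fun χ => by
    have := hm 0 χ
    rw [h.bt_zero] at this
    simp only [classInner_def, Pi.zero_apply, zero_mul, sum_const_zero, mul_zero] at this
    exact_mod_cast this.symm
  have mn : ∀ j χ, m (-j) χ = m j χ := fun j χ => by
    have := hm (-j) χ
    rw [h.bt_neg hν, hm] at this
    exact_mod_cast this.symm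
  have val : ∀ χ, m ℓ χ ≠ 0 → ∀ k ∈ K, k ∉ U →
      χ.1 k = -ν k * ∑ j, m j χ * ps (j * κ k) := fun χ hχ k hk hU => by
    rw [← (hS χ).resolve_right (fun e => hχ (by
      exact_mod_cast (hm' l χ).symm.trans (h.inner_eq_zero hν χ.2.isClassFunction e l))) k hk hU,
      h.fourier hν χ.2.isClassFunction hk hU]
    simp only [hm']
  have s2 : ∀ j, j ≠ 0 → j ≠ ℓ → ∀ χ, m ℓ χ ≠ 0 → m j χ = 0 ∨ m j χ = m ℓ χ :=
    fun j j0 jl χ hχ => by
      have e : ∑ χ, m j χ * (m j χ - m ℓ χ) = 1 := by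
        simp only [mul_sub, sum_sub_distrib]
        rw [ip j j j0 j0, ip j ℓ j0 l_ne_zero, if_pos rfl, if_neg jl,
          if_neg fun e => (neg_eq_self.1 e).elim j0 jl,
          if_neg fun e => jl (by rw [← neg_neg j, e, neg_l])]
        norm_num
      have := single_le_sum (f := fun χ => m j χ * (m j χ - m ℓ χ)) (fun ψ _ => by
        rcases s1 ψ with e | e | e <;> simp only [e] <;>
          rcases (show m j ψ ≤ -1 ∨ m j ψ = 0 ∨ 1 ≤ m j ψ by omega) with e | e | e <;> nlinarith)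
        (mem_univ χ)
      rw [e] at this
      by_contra hc
      rcases (s1 χ).resolve_left hχ with e | e <;> simp only [e] at this hc <;>
        rcases (show m j χ ≤ -2 ∨ m j χ = -1 ∨ m j χ = 1 ∨ 2 ≤ m j χ by omega) with
          e | e | e | e <;> first | omega | nlinarith
  have νt : ν t = 1 := hν.inv _ h.tH (sq_of_ord2 h.ord)
  have pn : ∀ j : ZMod (2 * l), ps (-j * ℓ) = ps (j * ℓ) := fun j => by
    rw [neg_mul, ← mul_neg, neg_l]
  have pc : ∀ j : ZMod (2 * l), ps (j * ℓ) = 1 ∨ ps (j * ℓ) = -1 := fun j => by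
    rw [mul_comm j]; exact ps_l_cases j
  have odd : ∀ χ, m ℓ χ ≠ 0 → χ.1 t ∉ LP M := fun χ hχ e => by
    rw [val χ hχ t h.tK h.tU, νt, h.kt, ← add_sum_erase _ _ (mem_univ ℓ),
      neg_one_mul, neg_mem_iff] at e
    have := sub_mem e (sum_mem_LP_invol (univ.erase ℓ) (fun j => -j)
      (fun j => m j χ * ps (j * ℓ)) (fun j hj => by
        simp only [mem_erase, mem_univ, and_true] at hj ⊢
        exact fun e => hj (by rw [← neg_neg j, e, neg_l])) (fun j _ => neg_neg j)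
      (fun j hj h0 e => (neg_eq_self.1 e).elim (fun e => h0 (by simp [e, m0]))
        (ne_of_mem_erase hj)) (fun j _ => by rw [mn, pn]) fun j _ => mul_mem (intCast_mem _ _)
        (by rcases pc j with e | e <;> simp [e]))
    rw [add_sub_cancel_right] at this
    apply one_notMem_LP (M := M)
    rcases (s1 χ).resolve_left hχ with e | e <;> rcases pc ℓ with e' | e' <;>
      simpa [e, e'] using this
  have s3 : ∀ i j, i ≠ 0 → i ≠ ℓ → j ≠ 0 → j ≠ ℓ → ps (i * ℓ) = -1 → ps (j * ℓ) = 1 →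
      ∀ χ, m ℓ χ ≠ 0 → m i χ = m j χ := fun i j i0 il j0 jl pi pj χ hχ => by
    have n1 : i ≠ j := fun e => by rw [e, pj] at pi; norm_num at pi
    have n2 : -i ≠ j := fun e => by rw [← pn, e, pj] at pi; norm_num at pi
    have n3 : -j ≠ i := fun e => n2 (by rw [← e, neg_neg])
    obtain ⟨μ, μ', hμ, hμ', -, e⟩ := ((h.isGen_bt hν i).sub
      (h.isGen_bt hν j)).exists_sub_of_norm_two (by
        rw [classInner_sub_left, classInner_sub_right, classInner_sub_right, h.bt_bt hν i0 i0,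
          h.bt_bt hν i0 j0, h.bt_bt hν j0 i0, h.bt_bt hν j0 j0]
        simp only [n1, n1.symm, n2, n3, neg_eq_self, i0, il, j0, jl, if_true, if_false, or_self]
        norm_num) (by simp [h.bt_one])
    have e1 := congrFun e 1
    have e2 := congrFun e t
    simp only [Pi.sub_apply, h.bt_one, h.bt_apply hν _ h.tK h.tU, νt, h.kt, pn, pi, pj] at e1 e2
    have e3 : (Nat.card G : ℂ) * classInner (μ - μ') (pairFun t) = 0 := by
      rw [← e, classInner_sub_left, mul_sub, h.theta hν i0, h.theta hν j0, if_neg il, if_neg jl,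
        sub_self]
    rw [classInner_sub_left, mul_sub, card_mul_inner_pairFun t hμ.isDirr,
      card_mul_inner_pairFun t hμ'.isDirr, ← mul_sub, mul_eq_zero, sub_eq_zero,
      show μ' 1 = μ 1 by linear_combination e1, div_left_inj' hμ.one_ne_zero] at e3
    have e4 := e3.resolve_left (pow_ne_zero 2 (Nat.cast_ne_zero.2 (index_pos' _).ne'))
    have e5 : μ t = 1 + 1 := by linear_combination (1 / 8 : ℂ) * e4 + (μ t + μ' t - 4) / 8 * e2
    have e6 : μ' t = -1 + -1 := by linear_combination e5 + e2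
    by_contra hc
    have e7 : classInner (μ - μ') χ ≠ 0 := by
      rw [← e, classInner_sub_left, hm, hm, sub_ne_zero]; exact_mod_cast hc
    rw [classInner_sub_left] at e7
    by_cases q : classInner μ χ = 0
    · have := hμ'.eq_of_classInner_ne_zero χ.2 fun e => e7 (by rw [q, e, sub_self])
      exact odd χ hχ (by rw [← this, e6]; exact two_mul_mem_LP (neg_mem (one_mem _)))
    · have := hμ.eq_of_classInner_ne_zero χ.2 q
      exact odd χ hχ (by rw [← this, e5]; exact two_mul_mem_LP (one_mem _))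
  set s := univ.filter fun χ => m ℓ χ ≠ 0 with hs'
  have ms : ∀ {χ}, χ ∈ s ↔ m ℓ χ ≠ 0 := by simp [hs']
  have l0 : l ≠ 0 := fun e => NeZero.ne (2 * l) (by omega)
  have one0 : (1 : ZMod (2 * l)) ≠ 0 := fun e => l_ne_zero (l := l) (by rw [← mul_one ℓ, e, mul_zero])
  have onel : l ≠ 1 → (1 : ZMod (2 * l)) ≠ ℓ := fun hl e => hl (by
    have := congrArg ZMod.val e
    rw [ZMod.val_natCast, Nat.mod_eq_of_lt (by omega), ← Nat.cast_one, ZMod.val_natCast,
      Nat.mod_eq_of_lt (by omega)] at this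
    omega)
  obtain ⟨s₁, hs1, c2, ho, hp⟩ : ∃ s₁ ⊆ s, s₁.card = 2 ∧ ((∀ j, j ≠ 0 → m j o = 1) → o ∈ s₁) ∧
      ∀ χ ∈ s, ∀ j, j ≠ 0 → j ≠ ℓ → m ℓ χ * m j χ = if χ ∈ s₁ then 1 else 0 := by
    by_cases hl : l = 1
    · obtain ⟨s₁, e1, e2, e3⟩ := exists_subsuperset_card_eq (s := s.filter (· = o)) (t := s)
        (n := 2) (filter_subset _ _) ((card_le_one.2 fun a ha b hb =>
          (mem_filter.1 ha).2.trans (mem_filter.1 hb).2.symm).trans one_le_two) (by omega)
      refine ⟨s₁, e2, e3, fun e => e1 (mem_filter.2 ⟨ms.2 (by rw [e _ l_ne_zero]; simp), rfl⟩),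
        fun χ _ j j0 jl => ?_⟩
      subst hl
      exact absurd ((by decide : ∀ j : ZMod 2, j ≠ 0 → j = 1) j j0) (by simpa using jl)
    have p1 : ps (1 * ℓ) = -1 := by rw [one_mul, ps_l]
    have cst : ∀ χ ∈ s, ∀ j, j ≠ 0 → j ≠ ℓ → m j χ = m 1 χ := fun χ hχ j j0 jl => by
      rcases pc j with e | e
      · exact (s3 1 j one0 (onel hl) j0 jl p1 e χ (ms.1 hχ)).symm
      by_cases h2 : l = 2
      · subst h2
        rcases (by decide : ∀ j : ZMod 4, j ≠ 0 → j ≠ 2 → j = 1 ∨ j = -1) j j0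
          (by simpa using jl) with rfl | rfl
        exacts [rfl, mn _ _]
      have v2 : ((2 : ℕ) : ZMod (2 * l)).val = 2 := by
        rw [ZMod.val_natCast, Nat.mod_eq_of_lt (by omega)]
      have t0 : ((2 : ℕ) : ZMod (2 * l)) ≠ 0 := fun e => by
        rw [e, ZMod.val_zero] at v2; omega
      have tl : ((2 : ℕ) : ZMod (2 * l)) ≠ ℓ := fun e => by
        rw [e, ZMod.val_natCast, Nat.mod_eq_of_lt (by omega)] at v2; exact h2 v2
      have p2 : ps (((2 : ℕ) : ZMod (2 * l)) * ℓ) = 1 := by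
        rw [Nat.cast_two, two_mul ℓ, l_add_l, ps_zero]
      rw [s3 j _ j0 jl t0 tl e p2 χ (ms.1 hχ), s3 1 _ one0 (onel hl) t0 tl p1 p2 χ (ms.1 hχ)]
    have pp : ∀ χ, m ℓ χ * m 1 χ = if χ ∈ s.filter (m 1 · ≠ 0) then 1 else 0 := fun χ => by
      by_cases hχ : χ ∈ s
      · rcases s2 1 one0 (onel hl) χ (ms.1 hχ) with e | e
        · simp [e]
        · rw [if_pos (mem_filter.2 ⟨hχ, e ▸ ms.1 hχ⟩), e]
          rcases (s1 χ).resolve_left (ms.1 hχ) with e | e <;> simp [e]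
      · rw [if_neg fun e => hχ (mem_filter.1 e).1, not_not.1 (mt ms.2 hχ), zero_mul]
    refine ⟨s.filter (m 1 · ≠ 0), filter_subset _ _, ?_, fun e => mem_filter.2
      ⟨ms.2 (by rw [e _ l_ne_zero]; simp), by rw [e _ one0]; simp⟩,
      fun χ hχ j j0 jl => by rw [cst χ hχ j j0 jl, pp]⟩
    have := ip ℓ 1 l_ne_zero one0
    rw [neg_l, if_neg (onel hl).symm] at this
    simp only [pp, sum_boole, filter_mem_eq_inter, univ_inter, add_zero] at this
    exact_mod_cast this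
  have v : ∀ χ ∈ s, ∀ k ∈ K, k ∉ U → ((m ℓ χ : ℂ) • χ.1) k =
      if χ ∈ s₁ then ν k else -ps (ℓ * κ k) * ν k := fun χ hχ k hk hU => by
    have e0 := sum_ps (κ k)
    rw [if_neg fun e => hU ((h.ker k hk).1 e), ← add_sum_erase _ _ (mem_univ 0),
      ← add_sum_erase _ _ (mem_erase.2 ⟨l_ne_zero, mem_univ _⟩), zero_mul, ps_zero] at e0
    rw [Pi.smul_apply, smul_eq_mul, val χ (ms.1 hχ) k hk hU, mul_left_comm, mul_sum,
      ← add_sum_erase _ _ (mem_univ 0), ← add_sum_erase _ _ (mem_erase.2 ⟨l_ne_zero, mem_univ _⟩),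
      sum_congr rfl fun j hj => show _ = (if χ ∈ s₁ then 1 else 0) * ps (j * κ k) by
        rw [← mul_assoc, ← Int.cast_mul, hp χ hχ j (ne_of_mem_erase (mem_of_mem_erase hj))
          (ne_of_mem_erase hj)]; push_cast; rfl, ← mul_sum, m0]
    have : (m ℓ χ : ℂ) * m ℓ χ = 1 := by
      rcases (s1 χ).resolve_left (ms.1 hχ) with e | e <;> simp [e]
    split_ifs
    · linear_combination (-ν k) * e0 - ν k * ps (ℓ * κ k) * this
    · linear_combination - ν k * ps (ℓ * κ k) * this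
  obtain ⟨χ₁, χ₂, n12, e1, ho'⟩ := exists_pair c2 o
  obtain ⟨χ₃, χ₄, n34, e2⟩ := card_eq_two.1 (show (s \ s₁).card = 2 by
    rw [card_sdiff_of_subset hs1]; omega)
  have q1 : χ₁ ∈ s₁ := by simp [e1]
  have q2 : χ₂ ∈ s₁ := by simp [e1]
  have q3 : χ₃ ∈ s ∧ χ₃ ∉ s₁ := mem_sdiff.1 (by simp [e2])
  have q4 : χ₄ ∈ s ∧ χ₄ ∉ s₁ := mem_sdiff.1 (by simp [e2])
  have d : ∀ χ ∈ s, IsDirr ((m ℓ χ : ℂ) • χ.1) := fun χ hχ =>
    dirr_int χ ((s1 χ).resolve_left (ms.1 hχ))
  refine ⟨_, _, _, _, d _ (hs1 q1), d _ (hs1 q2), d _ q3.1, d _ q4.1, ?_, inner_int _ _ _ _ n12,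
    inner_int _ _ _ _ fun e => q3.2 (e ▸ q1), inner_int _ _ _ _ fun e => q4.2 (e ▸ q1),
    fun e => ?_, fun k hk hU => ?_, fun hl => ?_⟩
  · rw [hs, ← sum_subset (subset_univ s) fun χ _ hχ => by rw [not_not.1 (mt ms.2 hχ)]; simp,
      ← sum_sdiff hs1, e2, e1, sum_pair n12, sum_pair n34]
    abel
  · have e' : ∀ j, j ≠ 0 → m j o = 1 := fun j hj => by exact_mod_cast (hm' j o).symm.trans (e j hj)
    rw [ho' (ho e'), e' _ l_ne_zero]; simp
  · rw [v _ (hs1 q1) k hk hU, v _ (hs1 q2) k hk hU, v _ q3.1 k hk hU, v _ q4.1 k hk hU,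
      if_pos q1, if_pos q2, if_neg q3.2, if_neg q4.2]
    exact ⟨rfl, rfl, rfl, rfl⟩
  · have : ∀ χ ∈ s₁, classInner (bt K κ ν 1) ((m ℓ χ : ℂ) • χ.1) = 1 := fun χ hχ => by
      rw [classInner_smul_right, hm, map_intCast, ← Int.cast_mul, hp χ (hs1 hχ) 1 one0 (onel hl),
        if_pos hχ, Int.cast_one]
    exact ⟨this _ q1, this _ q2⟩

end CS

end Cfsg.Agent.GW
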