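import Cfsg.Agent.GW.Base

/-! Groups with dihedral Sylow 2-subgroups: the order formulas. -/

set_option autoImplicit false
set_option linter.unusedVariables false
set_option linter.unusedSectionVars false

namespace Cfsg.Agent.GW

open Cfsg Cfsg.Agent.BG Cfsg.Agent.Dih Cfsg.Agent.Char Cfsg.Agent.Blk Subgroup Finset
open Cfsg.Agent.Inv (ord2_iff sq_of_ord2 ne_one_of_ord2 inv_of_ord2 orderOf_conj' orderOf_conj''
  orderOf_isConj)
open scoped ComplexConjugate Classical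

variable {G : Type*} [Group G] [Fintype G]

theorem exists_sum_eq {c : G → ℂ} (hc : IsGeneralizedCharacter G c) (P : Subgroup G) :
    ∃ m : ℤ, ∑ s : P, c s = #P * m := by
  obtain ⟨m, hm⟩ := (hc.restrict P).classInner_int isGen_one
  rw [classInner_one_right, inv_mul_eq_iff_eq_mul₀ (card_ne_zero P)] at hm
  exact ⟨m, hm⟩

theorem card_dvd_sub {c : G → ℂ} (hc : IsGeneralizedCharacter G c) {P : Subgroup G} {n ε : ℤ}
    (h1 : c 1 = n) (h : ∀ s ∈ P, s ≠ 1 → c s = ε) : (#P : ℤ) ∣ n - ε := by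
  obtain ⟨m, hm⟩ := exists_sum_eq hc P
  have e : ∀ s : P, c s = ε + if s = 1 then ((n : ℂ) - ε) else 0 := fun s => by
    split_ifs with hs
    · simp [hs, h1]
    · rw [h s s.2 (by simpa using hs), add_zero]
  simp only [e, sum_add_distrib, sum_ite_eq', mem_univ, if_true, sum_const, card_univ,
    ← Nat.card_eq_fintype_card, nsmul_eq_mul] at hm
  exact ⟨m - ε, by exact_mod_cast (by linear_combination hm : (n : ℂ) - ε = #P * (m - ε))⟩

theorem const_of_norm [IsSimpleGroup G] (hG : ¬ ∀ a b : G, a * b = b * a) {c : G → ℂ}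
    (hc : IsDirr c) {u : G} (hu : u ≠ 1) (h : ‖c u‖ = ‖c 1‖) (g : G) : c g = c 1 := by
  obtain ⟨ε, μ, hε, hμ, rfl⟩ := hc.exists_sign
  have h' : ‖μ u‖ = ‖μ 1‖ := by rcases hε with rfl | rfl <;> simpa using h
  rcases hμ.isClassFunction.charKer_normal.eq_bot_or_eq_top with e | e
  · have hz : u ∈ center G := mem_center_iff.2 fun x => by
      have := hμ.isCharacter.mem_charKer.2 (hμ.isCharacter.commutator_of_norm_eq h' x)
      rw [e, Subgroup.mem_bot, mul_inv_eq_one, mul_inv_eq_iff_eq_mul] at this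
      exact this.symm
    rcases (inferInstance : (center G).Normal).eq_bot_or_eq_top with e | e
    · exact absurd (e ▸ hz) (by simpa using hu)
    · exact absurd (fun a b => mem_center_iff.1 (e ▸ mem_top b) a) hG
  · simp [hμ.isCharacter.mem_charKer.1 (e ▸ mem_top g)]

theorem const_of_one [IsSimpleGroup G] (hG : ¬ ∀ a b : G, a * b = b * a) {c : G → ℂ}
    (hc : IsDirr c) (h : c 1 = 1 ∨ c 1 = -1) (g : G) : c g = c 1 := by
  obtain ⟨u, hu⟩ := exists_ne (1 : G)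
  refine const_of_norm hG hc hu ?_ g
  obtain ⟨ε, μ, hε, hμ, rfl⟩ := hc.exists_sign
  obtain ⟨n, -, hn⟩ := hμ.exists_nat
  have : μ 1 = 1 := by
    have : (n : ℂ) = 1 ∨ (n : ℂ) = -1 := by
      rcases hε with rfl | rfl <;> rcases h with h | h <;> simp [hn, neg_eq_iff_eq_neg] at h <;>
        simp [h]
    rw [hn]; exact this.resolve_right (by norm_cast)
  obtain ⟨l, rfl⟩ := hμ.isCharacter.exists_hom this
  simp [norm_hom]

theorem klein_zero {c : G → ℂ} (hc : IsDirr c) {t s u : G} (ht : t * t = 1) (hs : s * s = 1)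
    (h1 : s * t = t * s) (h2 : u * t = t * u) (h3 : u * s = s * u)
    (h : c 1 + c t + c s + c (t * s) = 0) : c u + c (t * u) + c (s * u) + c (t * s * u) = 0 := by
  obtain ⟨ε, μ, hε, hμ, rfl⟩ := hc.exists_sign
  have e0 : ε ≠ 0 := by rcases hε with rfl | rfl <;> norm_num
  simp only [Pi.smul_apply, smul_eq_mul, ← mul_add, mul_eq_zero, e0, false_or] at h ⊢
  have hW : Abel (VV t s ⊔ zpowers u) := ((abel_zpowers _).sup (abel_zpowers _) (by
    rw [C_zpowers, zpowers_le]; exact mem_C1.2 h1.symm)).sup (abel_zpowers _) (by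
    rw [C_zpowers, VV_le]; exact ⟨mem_C1.2 h2.symm, mem_C1.2 h3.symm⟩)
  obtain ⟨n, l, -, hl⟩ := (hμ.isCharacter.restrict (VV t s ⊔ zpowers u)).exists_sum_hom_of_comm
    fun a b => Subtype.ext (mem_C_comm hW a.2 b.2)
  let t' : ↥(VV t s ⊔ zpowers u) := ⟨t, mem_sup_left (l_mem_VV _ _)⟩
  let s' : ↥(VV t s ⊔ zpowers u) := ⟨s, mem_sup_left (r_mem_VV _ _)⟩
  let u' : ↥(VV t s ⊔ zpowers u) := ⟨u, mem_sup_right (mem_zpowers _)⟩
  have pm : ∀ i (w : ↥(VV t s ⊔ zpowers u)), (w : G) * w = 1 → (l i w : ℂ) = 1 ∨ (l i w : ℂ) = -1 :=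
    fun i w hw => by
      rw [← mul_self_eq_one_iff, ← Units.val_mul, ← map_mul, show w * w = 1 from Subtype.ext hw]
      simp
  have e1 := hl 1
  have e2 := hl t'
  have e3 := hl s'
  have e4 := hl (t' * s')
  simp only [t', s', MulMemClass.coe_mul, OneMemClass.coe_one] at e1 e2 e3 e4
  rw [e1, e2, e3, e4, ← sum_add_distrib, ← sum_add_distrib, ← sum_add_distrib] at h
  have z := (sum_eq_zero_iff_of_nonneg (s := univ) (f := fun i : Fin n =>
    ((l i 1 : ℂ) + l i t' + l i s' + l i (t' * s')).re) fun i _ => by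
      rcases pm i t' ht with a | a <;> rcases pm i s' hs with b | b <;> simp [a, b] <;>
        norm_num).1 (by rw [← Complex.re_sum, h]; rfl)
  have f1 := hl u'
  have f2 := hl (t' * u')
  have f3 := hl (s' * u')
  have f4 := hl (t' * s' * u')
  simp only [t', s', u', MulMemClass.coe_mul] at f1 f2 f3 f4
  rw [f1, f2, f3, f4, ← sum_add_distrib, ← sum_add_distrib, ← sum_add_distrib]
  refine sum_eq_zero fun i _ => ?_
  have := z i (mem_univ i)
  change (l i u' : ℂ) + l i (t' * u') + l i (s' * u') + l i (t' * s' * u') = 0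
  rcases pm i t' ht with a | a <;> rcases pm i s' hs with b | b <;> simp [a, b] at this ⊢
  norm_num at this

theorem sum_lt {x y z w : ℤ} (h : x + y + z + w = 0) (hx : 5 ≤ |x|) (hy : 5 ≤ |y|) (hz : 5 ≤ |z|)
    (hw : 5 ≤ |w|) : (x : ℚ)⁻¹ + (y : ℚ)⁻¹ + (z : ℚ)⁻¹ + (w : ℚ)⁻¹ < 3 / 5 := by
  have k : ∀ x : ℤ, 5 ≤ |x| → (x : ℚ)⁻¹ ≤ 1 / 5 ∧ (x < 0 → (x : ℚ)⁻¹ < 0) := fun x hx => by
    refine ⟨?_, fun h => inv_lt_zero.2 (by exact_mod_cast h)⟩
    rcases le_abs.1 hx with e | e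
    · rw [one_div]; exact inv_anti₀ (by norm_num) (by exact_mod_cast e)
    · exact (inv_nonpos.2 (by exact_mod_cast (by omega : x ≤ 0))).trans (by norm_num)
  obtain ⟨a1, a2⟩ := k x hx
  obtain ⟨b1, b2⟩ := k y hy
  obtain ⟨c1, c2⟩ := k z hz
  obtain ⟨d1, d2⟩ := k w hw
  rcases (show x < 0 ∨ y < 0 ∨ z < 0 ∨ w < 0 by
    rcases le_abs.1 hx with e | e <;> omega) with e | e | e | e
  · linarith [a2 e]
  · linarith [b2 e]
  · linarith [c2 e]
  · linarith [d2 e]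

theorem sum_gt {y z w : ℤ} (h : 1 + y + z + w = 0) (hy : 5 ≤ |y|) (hz : 5 ≤ |z|)
    (hw : 5 ≤ |w|) : 3 / 5 < 1 + (y : ℚ)⁻¹ + (z : ℚ)⁻¹ + (w : ℚ)⁻¹ := by
  have k : ∀ x : ℤ, 5 ≤ |x| → -(1 / 5) ≤ (x : ℚ)⁻¹ ∧ (0 < x → 0 < (x : ℚ)⁻¹) := fun x hx => by
    refine ⟨?_, fun h => inv_pos.2 (by exact_mod_cast h)⟩
    rcases le_abs.1 hx with e | e
    · exact le_trans (by norm_num) (inv_nonneg.2 (by exact_mod_cast (by omega : 0 ≤ x)))
    · rw [neg_le, ← inv_neg, one_div]; exact inv_anti₀ (by norm_num) (by exact_mod_cast e)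
  obtain ⟨b1, b2⟩ := k y hy
  obtain ⟨c1, c2⟩ := k z hz
  obtain ⟨d1, d2⟩ := k w hw
  rcases (show 0 < y ∨ 0 < z ∨ 0 < w by
    rcases le_abs.1 hy with e | e <;> rcases le_abs.1 hz with e | e <;>
      rcases le_abs.1 hw with e | e <;> omega) with e | e | e
  · linarith [b2 e]
  · linarith [c2 e]
  · linarith [d2 e]

namespace CS

variable {t a x : G} {U K : Subgroup G} {l : ℕ} [NeZero (2 * l)] {κ : G → ZMod (2 * l)}
  (h : CS t a x U K l κ) {ν : G → ℂ}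
include h

omit h in
/-- `ν` is fused -/
def Fus (t : G) (U K : Subgroup G) (ν : G → ℂ) : Prop :=
  ∀ u ∈ II t K, ∃ g, g * t * g⁻¹ = u ∧ ∀ z ∈ U, z * u = u * z → ν (g⁻¹ * z * g) = ν z

theorem fus_one : Fus t U K fun _ => 1 := fun u hu =>
  (isConj_iff.1 (h.cls u (h.mem_II.1 hu).2.2)).imp fun g hg => ⟨hg, fun _ _ _ => rfl⟩

theorem a_II : a ∈ II t K := h.mem_II.2 ⟨h.aH, h.aK, ord2_iff.2 ⟨h.a2, fun e => h.aK (e ▸ one_mem K)⟩⟩

theorem k_one (h1 : l = 1) {k : G} (hk : k ∈ K) (hU : k ∉ U) : κ k = 1 := by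
  subst h1
  exact (by decide : ∀ j : ZMod 2, j ≠ 0 → j = 1) (κ k) fun e => hU ((h.ker k hk).1 e)

theorem mem_U_conj {g u z : G} (hg : g * t * g⁻¹ = u) (hz : z ∈ U) (hc : z * u = u * z) :
    g⁻¹ * z * g ∈ U := by
  rw [h.odd, orderOf_conj'' g]
  · exact (h.odd _ (h.UH hz)).1 hz
  · rw [mem_C1]
    calc _ = g⁻¹ * (z * (g * t * g⁻¹)) * g := by group
      _ = _ := by rw [hg, hc, ← hg]; group

theorem deg [IsSimpleGroup G] (hG : ¬ ∀ a b : G, a * b = b * a) (hν : Lin t x ν)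
    (hf : Fus t U K ν) {c : G → ℂ} (hc : IsDirr c) {ε : ℤ} (hε : ε = 1 ∨ ε = -1)
    (hv : ∀ k ∈ K, k ∉ U → κ k = l → c k = ε * ν k) (hn : ¬ ∀ g, c g = c 1) {n : ℤ} (h1 : c 1 = n) :
    3 ≤ |n| ∧ ((∃ u ∈ U, u ≠ 1 ∧ u * a = a * u) → 5 ≤ |n|) := by
  have νt : ν t = 1 := hν.inv _ h.tH (sq_of_ord2 h.ord)
  have v1 : ∀ z ∈ U, c (t * z) = ε * ν z := fun z hz => by
    rw [hv _ (mul_mem h.tK (h.UK hz)) (fun e => h.tU (by simpa using mul_mem e (inv_mem hz)))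
      (by rw [h.add _ h.tK _ (h.UK hz), h.kt, h.kU hz, add_zero]), hν.mul _ h.tH _ (h.UH hz), νt,
      one_mul]
  have v2 : ∀ s ∈ II t K, ∀ z ∈ U, z * s = s * z → c (s * z) = ε * ν z := fun s hs z hz e => by
    obtain ⟨g, hg, e2⟩ := hf s hs
    rw [← e2 z hz e, ← v1 _ (h.mem_U_conj hg hz e), ← hc.isClassFunction (t * _) g, ← hg]
    congr 1; group
  have at' : a * t = t * a := mem_C1.1 h.aH
  have ta : t * a ∈ II t K := at' ▸ h.II_mul h.a_II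
  have ct : c t = ε := by simpa [hν.one] using v1 1 (one_mem _)
  have ca : c a = ε := by simpa [hν.one] using v2 a h.a_II 1 (one_mem _) (by simp)
  have cta : c (t * a) = ε := by simpa [hν.one] using v2 _ ta 1 (one_mem _) (by simp)
  have d := card_dvd_sub hc.isGen (P := VV t a) (ε := ε) h1 fun s hs s1 => by
    rcases (mem_VV (sq_of_ord2 h.ord) h.a2 at').1 hs with e | e | e | e
    exacts [absurd e s1, e ▸ ct, e ▸ ca, e ▸ cta]
  have c4 : #(VV t a) = 4 := by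
    rw [Inv.card_sup_zpowers (fun y hy => by
      rcases (mem_zp2 (sq_of_ord2 h.ord)).1 hy with rfl | rfl
      · simp
      · rw [at', mul_inv_cancel_right]; exact mem_zpowers _) (h.a2 ▸ one_mem _)
      fun e => h.aK (zpowers_le.2 h.tK e), Nat.card_zpowers, h.ord]
  rw [c4] at d
  have n1 : n ≠ 1 ∧ n ≠ -1 := ⟨fun e => hn (const_of_one hG hc (Or.inl (by simp [h1, e]))),
    fun e => hn (const_of_one hG hc (Or.inr (by simp [h1, e])))⟩
  refine ⟨by rw [le_abs]; omega, fun ⟨u, hu, u1, hua⟩ => ?_⟩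
  by_contra hlt
  have e3 : n = -3 * ε := by rw [not_le, abs_lt] at hlt; omega
  have hut := mem_C1.1 (h.UH hu)
  have := klein_zero hc (sq_of_ord2 h.ord) h.a2 at' hut hua (by
    rw [h1, ct, ca, cta, e3]; push_cast; ring)
  rw [v1 u hu, v2 a h.a_II u hu hua, v2 _ ta u hu (by
    rw [← mul_assoc, hut, mul_assoc, hua, mul_assoc])] at this
  refine hn (const_of_norm hG hc u1 ?_)
  have e4 : ‖ν u‖ = 1 := by
    have := congrArg norm (hν.mul_conj (h.UH hu))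
    rw [norm_mul, Complex.norm_conj, norm_one] at this
    nlinarith [norm_nonneg (ν u)]
  rw [show c u = -3 * ε * ν u by linear_combination this, h1, e3, norm_mul, e4]
  simp

theorem theta4 (hν : Lin t x ν) {c₁ c₂ c₃ c₄ : G → ℂ} (d₁ : IsDirr c₁) (d₂ : IsDirr c₂)
    (d₃ : IsDirr c₃) (d₄ : IsDirr c₄) (e : bt K κ ν l = c₁ + c₂ + c₃ + c₄)
    (v : ∀ k ∈ K, k ∉ U → c₁ k = ν k ∧ c₂ k = ν k ∧
      c₃ k = -ps ((l : ZMod (2 * l)) * κ k) * ν k ∧ c₄ k = -ps ((l : ZMod (2 * l)) * κ k) * ν k)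
    {n₁ n₂ n₃ n₄ : ℤ} (e₁ : c₁ 1 = n₁) (e₂ : c₂ 1 = n₂) (e₃ : c₃ 1 = n₃) (e₄ : c₄ 1 = n₄) :
    n₁ + n₂ + n₃ + n₄ = 0 ∧ ((C1[t]).index : ℚ) * ((n₁ : ℚ)⁻¹ + (n₂ : ℚ)⁻¹ + (n₃ : ℚ)⁻¹ + (n₄ : ℚ)⁻¹) =
      8 * kk t a * kk t (x * a) := by
  have νt : ν t = 1 := hν.inv _ h.tH (sq_of_ord2 h.ord)
  obtain ⟨v1, v2, v3, v4⟩ := v t h.tK h.tU
  have T := h.theta hν l_ne_zero
  rw [if_pos rfl, e, classInner_add_left, classInner_add_left, classInner_add_left, mul_add,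
    mul_add, mul_add, card_mul_inner_pairFun t d₁, card_mul_inner_pairFun t d₂,
    card_mul_inner_pairFun t d₃, card_mul_inner_pairFun t d₄, v1, v2, v3, v4, νt, e₁, e₂, e₃,
    e₄, mul_one, neg_sq, sq (ps _), mul_self_eq_one_iff.2 (ps_l_cases _)] at T
  have z := congrFun e 1
  simp only [h.bt_one, Pi.add_apply, e₁, e₂, e₃, e₄] at z
  refine ⟨by exact_mod_cast z.symm, Rat.cast_injective (α := ℂ) ?_⟩
  push_cast
  apply mul_left_cancel₀ (Nat.cast_ne_zero.2 (PLoc.index_pos' C1[t]).ne' : ((C1[t]).index : ℂ) ≠ 0)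
  rw [← T]; ring

theorem ch0 {S : Subgroup G} (hS : S ≤ C1[t]) (hx : x ∈ S) (ha : a ∈ S) (hU : U ⊓ S = ⊥)
    (hc : #S = 4 * l) (ho : ∀ s ∈ S, s ∉ K → orderOf s = 2) (hl : l = 1 ∨ Even l) :
    ∃ n₂ n₃ n₄ : ℤ, 1 + n₂ + n₃ + n₄ = 0 ∧ ((C1[t]).index : ℚ) *
      (1 + (n₂ : ℚ)⁻¹ + (n₃ : ℚ)⁻¹ + (n₄ : ℚ)⁻¹) = 8 * kk t a * kk t (x * a) ∧
      (4 * l : ℤ) ∣ n₂ - 1 ∧ (4 * l : ℤ) ∣ n₃ - (if l = 1 then 1 else 2 * l - 1 : ℤ) ∧
      (4 * l : ℤ) ∣ n₄ - (if l = 1 then 1 else 2 * l - 1 : ℤ) ∧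
      (l ≠ 1 → ((C1[t]).index : ℤ) * (n₂ - 1) ^ 2 =
        2 * (kk t a + kk t (x * a)) ^ 2 * (n₂ * (n₂ + 1))) ∧
      (IsSimpleGroup G → (¬ ∀ a b : G, a * b = b * a) → (3 ≤ |n₂| ∧ 3 ≤ |n₃| ∧ 3 ≤ |n₄|) ∧
        ((∃ u ∈ U, u ≠ 1 ∧ u * a = a * u) → 5 ≤ |n₂| ∧ 5 ≤ |n₃| ∧ 5 ≤ |n₄|)) := by
  have hν := lin_one t x
  obtain ⟨c₁, c₂, c₃, c₄, d₁, d₂, d₃, d₄, e, o2, o3, o4, ho1, v, hb⟩ :=
    h.four hν (h.sp_of_fused hν h.fus_one) (irrOne G)
  obtain rfl := ho1 fun j hj => h.one_bt hj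
  obtain ⟨n₂, e₂⟩ := d₂.isGen.exists_int
  obtain ⟨n₃, e₃⟩ := d₃.isGen.exists_int
  obtain ⟨n₄, e₄⟩ := d₄.isGen.exists_int
  obtain ⟨z, T⟩ := h.theta4 hν d₁ d₂ d₃ d₄ e v (n₁ := 1) (by simp) e₂ e₃ e₄
  simp only [mul_one] at v
  have nU : ∀ s ∈ S, s ≠ 1 → s ∉ U := fun s hs s1 e => s1 (Subgroup.mem_bot.1 (hU ▸ ⟨e, hs⟩))
  have vo : ∀ {c : G → ℂ}, IsDirr c → ∀ s ∈ S, s ∉ K → c s = c t := fun hc s hs hK =>
    (hc.isClassFunction.of_isConj (h.cls s (ho s hs hK))).symm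
  have g2 : (4 * l : ℤ) ∣ n₂ - 1 := by
    exact_mod_cast hc ▸ card_dvd_sub d₂.isGen (ε := 1) e₂ fun s hs s1 => by
      by_cases hK : s ∈ K
      · simp [(v s hK (nU s hs s1)).2.1]
      · simp [vo d₂ s hs hK, (v t h.tK h.tU).2.1]
  have g3 : ∀ {c : G → ℂ} {n : ℤ}, IsDirr c → c 1 = n →
      (∀ k ∈ K, k ∉ U → c k = -ps ((l : ZMod (2 * l)) * κ k)) →
      (4 * l : ℤ) ∣ n - (if l = 1 then 1 else 2 * l - 1 : ℤ) := fun {c n} d e v => by
    split_ifs with h1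
    · have : ∀ k ∈ K, k ∉ U → c k = (1 : ℤ) := fun k hk hU => by
        rw [v k hk hU, h.k_one h1 hk hU, mul_one, ps_l]; simp
      exact_mod_cast hc ▸ card_dvd_sub d.isGen (ε := 1) e fun s hs s1 => by
        by_cases hK : s ∈ K
        · exact this s hK (nU s hs s1)
        · rw [vo d s hs hK, this t h.tK h.tU]
    obtain ⟨m, hm⟩ := exists_sum_eq d.isGen S
    have ct : c t = -1 := by
      obtain ⟨r, hr⟩ := hl.resolve_left h1
      have e := ps_l_two (l := l) r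
      rw [← Nat.cast_add, ← hr] at e
      rw [v t h.tK h.tU, h.kt, e]
    have f : ∀ s : S, c s = (if s = 1 then (n : ℂ) + 1 else 0) -
        (if (s : G) ∈ K then ps ((l : ZMod (2 * l)) * κ s) else 0) -
        if (s : G) ∈ K then 0 else 1 := fun s => by
      by_cases s1 : s = 1
      · simp [s1, e, h.k1]
      by_cases hK : (s : G) ∈ K
      · simp [s1, hK, v s hK (nU s s.2 (by simpa using s1))]
      · simp [s1, hK, vo d s s.2 hK, ct]
    have z1 : ∑ s : S, (if (s : G) ∈ K then ps ((l : ZMod (2 * l)) * κ s) else 0) = 0 := by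
      have : ∑ s : S, (if x * s ∈ K then ps ((l : ZMod (2 * l)) * κ (x * s)) else 0) = _ :=
        Equiv.sum_comp (Equiv.mulLeft (⟨x, hx⟩ : S)) fun s => if (s : G) ∈ K then ps ((l : ZMod (2 * l)) * κ s) else 0
      have e2 : ∀ s : S, (if x * s ∈ K then ps ((l : ZMod (2 * l)) * κ (x * s)) else 0) =
          -(if (s : G) ∈ K then ps ((l : ZMod (2 * l)) * κ s) else 0) := fun s => by
        simp only [K.mul_mem_cancel_left h.xK]
        split_ifs with hK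
        · rw [h.add _ h.xK _ hK, h.one, mul_add, ps_add, mul_one, ps_l, neg_one_mul]
        · simp
      simp only [e2, sum_neg_distrib] at this
      linear_combination (-1 / 2 : ℂ) * this
    have z2 : ∑ s : S, (if (s : G) ∈ K then 0 else 1 : ℂ) = 2 * l := by
      have : ∑ s : S, (if s * a ∈ K then (0 : ℂ) else 1) = _ :=
        Equiv.sum_comp (Equiv.mulRight (⟨a, ha⟩ : S)) fun s => if (s : G) ∈ K then (0 : ℂ) else 1
      have e2 : ∀ s : S, (if s * a ∈ K then (0 : ℂ) else 1) =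
          1 - (if (s : G) ∈ K then (0 : ℂ) else 1) := fun s => by
        by_cases hK : (s : G) ∈ K
        · rw [if_pos hK, if_neg fun e => h.aK ((K.mul_mem_cancel_left hK).1 e), sub_zero]
        · rw [if_neg hK, if_pos (h.out _ (hS s.2) hK), sub_self]
      simp only [e2, sum_sub_distrib, sum_const, card_univ, ← Nat.card_eq_fintype_card, hc, nsmul_eq_mul] at this
      push_cast at this
      linear_combination (-1 / 2 : ℂ) * this
    simp only [f, sum_sub_distrib, z1, z2, sum_ite_eq', mem_univ, if_true, hc] at hm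
    exact ⟨m, Int.cast_injective (α := ℂ) (by push_cast at hm ⊢; linear_combination hm)⟩
  refine ⟨n₂, n₃, n₄, z, by simpa using T, g2, g3 d₃ e₃ fun k hk hU => (v k hk hU).2.2.1,
    g3 d₄ e₄ fun k hk hU => (v k hk hU).2.2.2, fun h1 => ?_, fun _ hG => ?_⟩
  · obtain ⟨b1, b2⟩ := hb h1
    have l0 : l ≠ 0 := fun e => NeZero.ne (2 * l) (by omega)
    have one0 : (1 : ZMod (2 * l)) ≠ 0 := fun e => l_ne_zero (l := l) (by
      rw [← mul_one (l : ZMod (2 * l)), e, mul_zero])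
    have onel : (1 : ZMod (2 * l)) ≠ l := fun e => h1 (by
      have := congrArg ZMod.val e
      rw [ZMod.val_natCast, Nat.mod_eq_of_lt (by omega), ← Nat.cast_one, ZMod.val_natCast,
        Nat.mod_eq_of_lt (by omega)] at this
      omega)
    have gb := h.isGen_bt hν 1
    have d : IsDirr (bt K κ (fun _ => 1) 1 - (irrOne G).1 - c₂) :=
      ((gb.sub d₁.isGen).sub d₂.isGen).isDirr (by
        simp only [classInner_sub_left, classInner_sub_right, h.bt_bt hν one0 one0, b1, b2, o2,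
          d₁.isGen.classInner_comm gb, d₂.isGen.classInner_comm gb, d₁.classInner_self,
          d₂.classInner_self, classInner_eq_zero_comm.1 o2, neg_eq_self, one0, onel, or_self,
          if_true, if_false]
        norm_num)
    have T := h.theta hν one0
    rw [if_neg onel, show bt K κ (fun _ => 1) 1 = (irrOne G).1 + c₂ +
      (bt K κ (fun _ => 1) 1 - (irrOne G).1 - c₂) by abel, classInner_add_left,
      classInner_add_left, mul_add, mul_add, card_mul_inner_pairFun t d₁,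
      card_mul_inner_pairFun t d₂, card_mul_inner_pairFun t d] at T
    have n0 := d₂.one_ne_zero
    have n1 := d.one_ne_zero
    simp only [Pi.sub_apply, h.bt_one, h.bt_apply hν _ h.tK h.tU, h.kt, neg_mul, neg_l, one_mul,
      ps_l, irrOne_coe, (v t h.tK h.tU).2.1, e₂] at T n0 n1
    apply Int.cast_injective (α := ℂ)
    push_cast
    apply mul_left_cancel₀ (Nat.cast_ne_zero.2 (PLoc.index_pos' C1[t]).ne' :
      ((C1[t]).index : ℂ) ≠ 0)
    rw [mul_assoc 2, ← mul_assoc 2, ← mul_assoc _ (2 * _), ← T]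
    field_simp
    ring
  · have nc : ∀ {c : G → ℂ}, IsDirr c → classInner (irrOne G).1 c = 0 → ¬ ∀ g, c g = c 1 :=
      fun {c} d o e => by
        rw [show c = c 1 • (irrOne G).1 from funext fun g => by simp [e g],
          classInner_smul_right, d₁.classInner_self, mul_one, map_eq_zero] at o
        exact d.one_ne_zero o
    obtain ⟨ε, hε, hε'⟩ : ∃ ε : ℤ, (ε = 1 ∨ ε = -1) ∧ -ps ((l : ZMod (2 * l)) * (l : ZMod (2 * l))) = ε := by
      rcases ps_l_cases (l : ZMod (2 * l)) with e | e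
      exacts [⟨-1, Or.inr rfl, by simp [e]⟩, ⟨1, Or.inl rfl, by simp [e]⟩]
    have a2 := h.deg hG hν h.fus_one d₂ (Or.inl rfl) (fun k hk hU _ => by
      simp [(v k hk hU).2.1]) (nc d₂ o2) e₂
    have a3 := h.deg hG hν h.fus_one d₃ hε (fun k hk hU e => by
      simp [(v k hk hU).2.2.1, e, hε']) (nc d₃ o3) e₃
    have a4 := h.deg hG hν h.fus_one d₄ hε (fun k hk hU e => by
      simp [(v k hk hU).2.2.2, e, hε']) (nc d₄ o4) e₄
    exact ⟨⟨a2.1, a3.1, a4.1⟩, fun e => ⟨a2.2 e, a3.2 e, a4.2 e⟩⟩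

theorem ch1 [IsSimpleGroup G] (hG : ¬ ∀ a b : G, a * b = b * a) (hν : Lin t x ν)
    (hf : Fus t U K ν) {u : G} (hu : u ∈ U) (hua : u * a = a * u) (hνu : ν u ≠ 1) :
    ∃ n₁ n₂ n₃ n₄ : ℤ, n₁ + n₂ + n₃ + n₄ = 0 ∧ ((C1[t]).index : ℚ) *
      ((n₁ : ℚ)⁻¹ + (n₂ : ℚ)⁻¹ + (n₃ : ℚ)⁻¹ + (n₄ : ℚ)⁻¹) = 8 * kk t a * kk t (x * a) ∧
      5 ≤ |n₁| ∧ 5 ≤ |n₂| ∧ 5 ≤ |n₃| ∧ 5 ≤ |n₄| := by
  obtain ⟨c₁, c₂, c₃, c₄, d₁, d₂, d₃, d₄, e, -, -, -, -, v, -⟩ :=
    h.four hν (h.sp_of_fused hν hf) (irrOne G)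
  obtain ⟨n₁, e₁⟩ := d₁.isGen.exists_int
  obtain ⟨n₂, e₂⟩ := d₂.isGen.exists_int
  obtain ⟨n₃, e₃⟩ := d₃.isGen.exists_int
  obtain ⟨n₄, e₄⟩ := d₄.isGen.exists_int
  obtain ⟨z, T⟩ := h.theta4 hν d₁ d₂ d₃ d₄ e v e₁ e₂ e₃ e₄
  have νt : ν t = 1 := hν.inv _ h.tH (sq_of_ord2 h.ord)
  have key : ∀ {c : G → ℂ} {n ε : ℤ}, IsDirr c → (ε = 1 ∨ ε = -1) → c 1 = n →
      (∀ k ∈ K, k ∉ U → κ k = l → c k = ε * ν k) → 5 ≤ |n| := fun {c n ε} d hε e v =>
    (h.deg hG hν hf d hε v (fun hc => by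
      have e1 := v _ (mul_mem h.tK (h.UK hu)) (fun e => h.tU (by simpa using mul_mem e (inv_mem hu)))
        (by rw [h.add _ h.tK _ (h.UK hu), h.kt, h.kU hu, add_zero])
      rw [hc, ← hc t, v t h.tK h.tU h.kt, hν.mul _ h.tH _ (h.UH hu), νt] at e1
      rcases hε with rfl | rfl <;> simp at e1 <;> exact hνu e1.symm) e).2
      ⟨u, hu, fun e => hνu (e ▸ hν.one), hua⟩
  obtain ⟨ε, hε, hε'⟩ : ∃ ε : ℤ, (ε = 1 ∨ ε = -1) ∧ -ps ((l : ZMod (2 * l)) * (l : ZMod (2 * l))) = ε := by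
    rcases ps_l_cases (l : ZMod (2 * l)) with e | e
    exacts [⟨-1, Or.inr rfl, by simp [e]⟩, ⟨1, Or.inl rfl, by simp [e]⟩]
  exact ⟨n₁, n₂, n₃, n₄, z, T, key d₁ (Or.inl rfl) e₁ fun k hk hU _ => by simp [(v k hk hU).1],
    key d₂ (Or.inl rfl) e₂ fun k hk hU _ => by simp [(v k hk hU).2.1],
    key d₃ hε e₃ fun k hk hU e => by rw [(v k hk hU).2.2.1, e, hε'],
    key d₄ hε e₄ fun k hk hU e => by rw [(v k hk hU).2.2.2, e, hε']⟩

end CS

end Cfsg.Agent.GW
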