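import Cfsg.Agent.GW.Ch3

/-! Groups with dihedral Sylow 2-subgroups: the non-fused case for a Sylow four-group. -/

set_option autoImplicit false
set_option linter.unusedVariables false
set_option linter.unusedSectionVars false

namespace Cfsg.Agent.GW

open Cfsg Cfsg.Agent.BG Cfsg.Agent.Dih Cfsg.Agent.Char Cfsg.Agent.Blk Subgroup Finset
open Cfsg.Agent.Inv (ord2_iff sq_of_ord2 ne_one_of_ord2 inv_of_ord2 orderOf_conj' orderOf_conj''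
  orderOf_isConj)
open MonoidAlgebra (single)
open scoped ComplexConjugate Classical

theorem hadamard {b c d : Fin 4 → ℤ} (hb : ∀ i, b i = 1 ∨ b i = -1) (hc : ∀ i, c i = 1 ∨ c i = -1)
    (h1 : ∑ i, b i = 0) (h2 : ∑ i, c i = 0) (h3 : ∑ i, b i * c i = 0) (h4 : ∑ i, d i = 0)
    (h5 : ∑ i, b i * d i = 0) (h6 : ∑ i, c i * d i = 0) : ∃ e, ∀ i, d i = b i * c i * e := by
  refine ⟨b 0 * c 0 * d 0, ?_⟩
  simp only [Fin.sum_univ_four, Fin.forall_fin_succ, IsEmpty.forall_iff, and_true,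
    Fin.succ_zero_eq_one, Fin.succ_one_eq_two, Fin.reduceSucc] at *
  obtain ⟨b0, b1, b2, b3⟩ := hb
  obtain ⟨c0, c1, c2, c3⟩ := hc
  rcases b0 with b0 | b0 <;> rcases b1 with b1 | b1 <;> rcases b2 with b2 | b2 <;>
    rcases b3 with b3 | b3 <;> simp only [b0, b1, b2, b3] at * <;> first | omega |
    (rcases c0 with c0 | c0 <;> rcases c1 with c1 | c1 <;> rcases c2 with c2 | c2 <;>
    rcases c3 with c3 | c3 <;> simp only [c0, c1, c2, c3] at * <;> omega)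

variable {G : Type*} [Group G] [Fintype G]

theorem sum_sub_eq (B : Subgroup G) (f : G → ℂ) :
    ∑ z : B, f z = ∑ g, if g ∈ B then f g else 0 := by
  rw [← sum_filter]; exact (sum_subtype _ (by simp) f).symm

theorem sum_ext2 {B : Subgroup G} {s : G} (hs : s * s = 1) (hB : s ∉ B) (hc : B ≤ C1[s])
    (f : G → ℂ) : ∑ w : ↥(B ⊔ zpowers s), f w = ∑ z : B, f z + ∑ z : B, f (s * z) := by
  have e : ∀ {d}, d ∈ B ⊔ zpowers s ↔ d ∈ B ∨ s⁻¹ * d ∈ B := fun {d} => by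
    rw [Inv.mem_sup_zpowers_iff (fun a ha => by
      rwa [← mem_C1.1 (hc ha), mul_inv_cancel_right]) (hs ▸ one_mem _)]
    refine or_congr_right ⟨fun h => ?_, fun h => ?_⟩
    · have := mem_C1.1 (hc h)
      rwa [show s⁻¹ * d = s⁻¹ * (d * s⁻¹ * s) by group, this, inv_mul_cancel_left]
    · have := mem_C1.1 (hc h)
      rwa [show d * s⁻¹ = s * (s⁻¹ * d) * s⁻¹ by group, ← this, mul_inv_cancel_right]
  rw [sum_sub_eq, sum_sub_eq, sum_sub_eq B fun z => f (s * z),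
    ← Equiv.sum_comp (Equiv.mulLeft s⁻¹) fun g => if g ∈ B then f (s * g) else 0, ← sum_add_distrib]
  refine sum_congr rfl fun g _ => ?_
  simp only [e, Equiv.coe_mulLeft, mul_inv_cancel_left]
  by_cases h1 : g ∈ B
  · simp [h1, show s⁻¹ * g ∉ B from fun h2 => hB (by simpa using mul_mem h1 (inv_mem h2))]
  · simp [h1]

section
variable {t x : G} {ν ν' : G → ℂ} {W : Subgroup G}

theorem Lin.sum_self (hν : Lin t x ν) (hW : W ≤ C1[t]) : ∑ w : W, ν w * conj (ν w) = #W := by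
  simp [fun w : W => hν.mul_conj (hW w.2)]

theorem Lin.sum_ne (hν : Lin t x ν) (hν' : Lin t x ν') (hW : W ≤ C1[t]) {u : G} (hu : u ∈ W)
    (h : ν u ≠ ν' u) : ∑ w : W, ν w * conj (ν' w) = 0 := by
  have e : ∑ w : W, ν (u * w) * conj (ν' (u * w)) = _ :=
    Equiv.sum_comp (Equiv.mulLeft (⟨u, hu⟩ : W)) fun w => ν w * conj (ν' w)
  simp only [fun w : W => hν.mul _ (hW hu) _ (hW w.2), fun w : W => hν'.mul _ (hW hu) _ (hW w.2),
    map_mul] at e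
  rw [sum_congr rfl fun w _ => mul_mul_mul_comm _ _ _ _, ← mul_sum] at e
  refine (mul_left_eq_self₀.1 e).resolve_left fun e => h ?_
  linear_combination ν' u * e - ν u * hν'.mul_conj (hW hu)

end

theorem eq_one_of_inv {K₀ : Subgroup G} (ho : Odd #K₀) {s k : G} (hk : k ∈ K₀)
    (h1 : s * k * s⁻¹ = k⁻¹) (h2 : k * s = s * k) : k = 1 := by
  rw [← h2, mul_inv_cancel_right, eq_inv_iff_mul_eq_one, ← sq] at h1
  exact orderOf_eq_one_iff.1 ((Nat.coprime_two_right.2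
    (ho.of_dvd_nat (orderOf_dvd hk))).eq_one_of_dvd (orderOf_dvd_of_pow_eq_one h1))

namespace CS

variable {t a : G} {U K K₀ : Subgroup G} {κ : G → ZMod (2 * 1)} (h : CS t a t U K 1 κ)
  (hK : K₀ ≤ U) (hn : C1[t] ≤ N[K₀]) (hinv : ∀ k ∈ K₀, a * k * a⁻¹ = k⁻¹)
  (hU : ∀ z ∈ U, ∃ k ∈ K₀, k⁻¹ * z ∈ C1[a])
include h hK hn hinv hU

theorem H_prod {g : G} (hg : g ∈ C1[t]) : ∃ k ∈ K₀, k⁻¹ * g ∈ C1[a] := by
  have key : ∀ g ∈ K, ∃ k ∈ K₀, k⁻¹ * g ∈ C1[a] := fun g hg => by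
    by_cases e : g ∈ U
    · exact hU g e
    obtain ⟨k, hk, e⟩ := hU (g * t) ((h.ker _ (mul_mem hg h.tK)).1 (by
      rw [h.add _ hg _ h.tK, h.k_one rfl hg e, h.one]; rfl))
    exact ⟨k, hk, by simpa [mul_assoc] using mul_mem e (inv_mem (C1_symm h.aH))⟩
  rcases h.cases hg with e | ⟨m, hm, rfl⟩
  · exact key g e
  · obtain ⟨k, hk, e⟩ := key m hm
    exact ⟨k, hk, by rw [← mul_assoc]; exact mul_mem e (mem_C1_self a)⟩

theorem II_prop {u : G} (hu : u ∈ II t K) : (∀ k ∈ K₀, u * k * u⁻¹ = k⁻¹) ∧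
    ∀ g ∈ C1[t], ∃ k ∈ K₀, k⁻¹ * g ∈ C1[u] := by
  have key : ∀ s ∈ C1[t], (∀ k ∈ K₀, s * k * s⁻¹ = k⁻¹) ∧ (∀ g ∈ C1[t], ∃ k ∈ K₀, k⁻¹ * g ∈ C1[s]) →
      ∀ w ∈ C1[t], (∀ k ∈ K₀, w * s * w⁻¹ * k * (w * s * w⁻¹)⁻¹ = k⁻¹) ∧
        ∀ g ∈ C1[t], ∃ k ∈ K₀, k⁻¹ * g ∈ C1[w * s * w⁻¹] := fun s hs ⟨h1, h2⟩ w hw => by
    refine ⟨fun k hk => ?_, fun g hg => ?_⟩
    · have := h1 _ (conj_mem' (hn hw) hk)
      calc _ = w * (s * (w⁻¹ * k * w) * s⁻¹) * w⁻¹ := by group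
        _ = _ := by rw [this]; group
    · obtain ⟨k, hk, e⟩ := h2 _ (mul_mem (mul_mem (inv_mem hw) hg) hw)
      refine ⟨_, conj_mem (hn hw) hk, ?_⟩
      rw [← cj_C1, mem_cj]; convert e using 1; group
  obtain ⟨u1, u2, u3⟩ := h.mem_II.1 hu
  obtain ⟨w, hw, rfl | rfl⟩ := h.cnj u u1 u2 u3
  · exact key a h.aH ⟨hinv, fun g hg => h.H_prod hK hn hinv hU hg⟩ w hw
  · refine key _ h.bH ⟨fun k hk => ?_, fun g hg => ?_⟩ w hw
    · rw [show t * a * k * (t * a)⁻¹ = t * (a * k * a⁻¹) * t⁻¹ by group, hinv k hk,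
        ← mem_C1.1 (h.UH (hK (inv_mem hk))), mul_inv_cancel_right]
    · obtain ⟨k, hk, e⟩ := h.H_prod hK hn hinv hU hg
      refine ⟨k, hk, mem_C1.2 ?_⟩
      rw [← mul_assoc, mem_C1.1 (mul_mem (inv_mem (h.UH (hK hk))) hg), mul_assoc t,
        mem_C1.1 e, mul_assoc t]

theorem sum_class {s : G} (hs : s ∈ II t K) (f : G → ℂ) :
    ∑ u ∈ univ.filter fun u => ∃ g ∈ C1[t], g * s * g⁻¹ = u, f u = ∑ k : K₀, f (k * s * k⁻¹) := by
  obtain ⟨h1, h2⟩ := h.II_prop hK hn hinv hU hs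
  symm
  refine sum_bij (fun (k : K₀) _ => (k * s * k⁻¹ : G)) (fun k _ => ?_) (fun k _ m _ e => ?_)
    (fun u hu => ?_) fun _ _ => rfl
  · exact mem_filter.2 ⟨mem_univ _, k, h.UH (hK k.2), rfl⟩
  · have hk := mul_mem (inv_mem m.2) k.2
    have := eq_one_of_inv (h.oddU.of_dvd_nat (cardS hK)) hk (h1 _ hk) (by
      simp only [InvMemClass.coe_inv] at e
      rw [mul_assoc, mul_inv_eq_iff_eq_mul.1 e]; group)
    exact Subtype.ext (inv_mul_eq_one.1 this).symm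
  · obtain ⟨g, hg, rfl⟩ := (mem_filter.1 hu).2
    obtain ⟨k, hk, e⟩ := h2 g hg
    refine ⟨⟨k, hk⟩, mem_univ _, ?_⟩
    calc k * s * k⁻¹ = k * (s * (k⁻¹ * g)) * g⁻¹ := by group
      _ = _ := by rw [← mem_C1.1 e]; group

theorem kk_K₀ {s : G} (hs : s ∈ II t K) : kk t s = #K₀ := by
  have := h.sum_class hK hn hinv hU hs fun _ => 1
  simp only [sum_const, nsmul_eq_mul, mul_one, card_univ, ← Nat.card_eq_fintype_card] at this
  rw [card_conj_eq _ (h.mem_II.1 hs).1] at this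
  exact_mod_cast this

theorem sum_FF {ν : G → ℂ} (hν : Lin t t ν) (h1 : ∀ k ∈ K₀, ν k = 1) {u : G} (hu : u ∈ II t K)
    {z : G} (hz : z ∈ C1[t]) : ∑ k : K₀, (if (k : G)⁻¹ * z ∈ U ∧ (k : G)⁻¹ * z * u = u * (k⁻¹ * z)
      then (Nat.card U : ℂ)⁻¹ * conj (ν ((k : G)⁻¹ * z)) else 0) = EE U ν z := by
  obtain ⟨i1, i2⟩ := h.II_prop hK hn hinv hU hu
  obtain ⟨k, hk, e⟩ := i2 z hz
  rw [sum_eq_single ⟨k, hk⟩ (fun m _ hm => if_neg fun e' => hm ?_) (by simp), EE]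
  · simp only [U.mul_mem_cancel_left (inv_mem (hK hk)), InvMemClass.coe_inv, mem_C1.1 e, and_true]
    rw [hν.mul _ (inv_mem (h.UH (hK hk))) _ hz, h1 _ (inv_mem hk), one_mul]
  · have hm := mul_mem (inv_mem hk) m.2
    have := eq_one_of_inv (h.oddU.of_dvd_nat (cardS hK)) hm (i1 _ hm) (mem_C1.1 (by
      convert mul_mem e (inv_mem (mem_C1.2 e'.2)) using 1; group))
    exact Subtype.ext (inv_mul_eq_one.1 this).symm

set_option maxHeartbeats 4000000 in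
theorem ch2 (hC : ∀ y ∈ K₀, y ≠ 1 → C1[y] ≤ C1[t]) {g : G} (g1 : g * t * g⁻¹ = a)
    (g2 : g * a * g⁻¹ = t * a) {ν₁ ν₂ ν₃ : G → ℂ} (l₁ : Lin t t ν₁) (l₂ : Lin t t ν₂)
    (l₃ : Lin t t ν₃) (k₁ : ∀ k ∈ K₀, ν₁ k = 1) (k₂ : ∀ k ∈ K₀, ν₂ k = 1)
    (k₃ : ∀ k ∈ K₀, ν₃ k = 1) (r₂ : ∀ z ∈ U ⊓ C1[a], ν₂ z = ν₁ (g⁻¹ * z * g))
    (r₃ : ∀ z ∈ U ⊓ C1[a], ν₃ z = ν₂ (g⁻¹ * z * g)) {z₀ : G} (hz₀ : z₀ ∈ U ⊓ C1[a])
    (hne : ν₁ z₀ ≠ ν₂ z₀) : #K₀ ∣ (C1[t]).index := by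
  obtain ⟨M, hM⟩ := exists_isPModular 2 Nat.prime_two
  have : PMod 2 M := ⟨hM⟩
  set B := U ⊓ C1[a] with hB
  have BH : B ≤ C1[t] := inf_le_left.trans h.UH
  have at' : a * t = t * a := mem_C1.1 h.aH
  have ta : t * a ∈ II t K := at' ▸ h.II_mul h.a_II
  have g3 : g * (t * a) * g⁻¹ = t := by
    rw [show g * (t * a) * g⁻¹ = g * t * g⁻¹ * (g * a * g⁻¹) by group, g1, g2, ← at', ← mul_assoc,
      h.a2, one_mul]
  have Bta : ∀ z ∈ B, z * (t * a) = t * a * z := fun z hz => by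
    rw [← mul_assoc, mem_C1.1 (BH hz), mul_assoc, mem_C1.1 hz.2, mul_assoc]
  have cB : ∀ z ∈ B, g⁻¹ * z * g ∈ B := fun z hz => ⟨h.mem_U_conj g1 hz.1 (mem_C1.1 hz.2),
    mem_C1.2 (by
      calc _ = g⁻¹ * (z * (g * a * g⁻¹)) * g := by group
        _ = _ := by rw [g2, Bta z hz, ← g2]; group)⟩
  have g4 : g * g * t * (g * g)⁻¹ = t * a := by rw [← g2, ← g1]; group
  have r₁ : ∀ z ∈ B, ν₁ z = ν₃ (g⁻¹ * z * g) := fun z hz => by
    rw [r₃ _ (cB z hz), r₂ _ (cB _ (cB z hz)), ← l₁.cj (h := (g * g * g)⁻¹) (inv_mem (mem_C1.2 (by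
      rw [← mul_inv_eq_iff_eq_mul]
      calc _ = g * (g * g * t * (g * g)⁻¹) * g⁻¹ := by group
        _ = _ := by rw [g4, g3]))) (BH hz)]
    simp [mul_assoc]
  have cB' : ∀ z ∈ B, g * z * g⁻¹ ∈ B := fun z hz =>
    conj_mem' (g := g⁻¹) (mem_N_of fun z hz => by simpa using cB z hz) hz |> (by simpa using ·)
  have n12 := hne
  have n23 : ν₂ (g * z₀ * g⁻¹) ≠ ν₃ (g * z₀ * g⁻¹) := by
    rw [r₃ _ (cB' _ hz₀), r₂ _ (cB' _ hz₀)]; simpa [mul_assoc] using hne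
  have n31 : ν₃ (g * (g * z₀ * g⁻¹) * g⁻¹) ≠ ν₁ (g * (g * z₀ * g⁻¹) * g⁻¹) := by
    rw [r₁ _ (cB' _ (cB' _ hz₀)), r₃ _ (cB' _ (cB' _ hz₀))]; simpa [mul_assoc] using n23
  have m23 := cB' _ hz₀
  have m31 := cB' _ m23
  have cU : ∀ h ∈ C1[t], ∀ u ∈ U, h * u * h⁻¹ ∈ U := fun _ hh _ => h.conjU hh
  have K₀H := hK.trans h.UH
  have hE₁ := EE_conj l₁ h.UH cU
  have hR₁ := EE_mem (M := M) l₁ h.UH h.oddU
  have hEK := EE_conj (lin_one t t) K₀H fun _ hh _ => conj_mem (hn hh)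
  have hRK := EE_mem (M := M) (lin_one t t) K₀H (h.oddU.of_dvd_nat (cardS hK))
  have z₁ := eH_mem hE₁ hR₁
  have z₂ := eH_mem (EE_conj l₂ h.UH cU) (EE_mem (M := M) l₂ h.UH h.oddU)
  have z₃ := eH_mem (EE_conj l₃ h.UH cU) (EE_mem (M := M) l₃ h.UH h.oddU)
  have zK := eH_mem hEK hRK
  have fK : ∀ u ∈ II t K, ∀ z ∈ C1[t], FF t (EE K₀ fun _ => 1) u z =
      if z = 1 then (#K₀ : ℂ)⁻¹ else 0 := fun u hu z hz => by
    obtain ⟨w, hw⟩ := isConj_iff.1 (h.cls u (h.mem_II.1 hu).2.2)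
    rw [FF_eq hEK hw, EE, map_one, mul_one]
    refine if_congr ⟨fun e => ?_, fun e => by simp [e]⟩ rfl rfl
    by_contra z1
    have e2 : w⁻¹ * t * w ∈ C1[w⁻¹ * z * w] := mem_C1.2 (by
      calc _ = w⁻¹ * (t * z) * w := by group
        _ = _ := by rw [← mem_C1.1 hz]; group)
    have e3 := hC _ e (fun e => z1 (by simpa [mul_assoc, inv_mul_eq_iff_eq_mul] using e)) e2
    have o : orderOf (w⁻¹ * t * w) = 2 := by rw [orderOf_conj'', h.ord]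
    by_cases e4 : w⁻¹ * t * w ∈ K
    · have := h.uniq e4 o
      rw [mul_assoc, inv_mul_eq_iff_eq_mul] at this
      rw [← this, mul_inv_cancel_right] at hw
      exact (h.mem_II.1 hu).2.1 (hw ▸ h.tK)
    · have := eq_one_of_inv (h.oddU.of_dvd_nat (cardS hK)) e
        ((h.II_prop hK hn hinv hU (h.mem_II.2 ⟨e3, e4, o⟩)).1 _ e) (mem_C1.1 e2).symm
      exact z1 (by simpa [mul_assoc, inv_mul_eq_iff_eq_mul] using this)
  let D : G → ℂ := fun z => ∑ u ∈ II t K, FF t (EE U ν₁) u z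
  have eD : eH t (EE K₀ fun _ => 1) * eH t D = eH t (EE U ν₂) + eH t (EE U ν₃) := by
    refine ga_ext fun z => ?_
    have f : ∀ {s w : G} {ν : G → ℂ}, Lin t t ν → s ∈ II t K → w * t * w⁻¹ = s →
        (∀ z ∈ U, z * s = s * z → ν z = ν₁ (w⁻¹ * z * w)) → ∀ k : K₀, ∀ y ∈ C1[t],
        FF t (EE U ν₁) (k * s * k⁻¹) y = if y ∈ U ∧ y * (k * s * k⁻¹) = k * s * k⁻¹ * y then
          (Nat.card U : ℂ)⁻¹ * conj (ν y) else 0 := fun {s w ν} hν hs hw r k y hy => by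
      rw [h.FF_EE l₁ (g := k * w) (by rw [← hw]; simp [mul_assoc]) hy]
      split_ifs with hc
      · rw [← hν.cj (inv_mem (K₀H k.2)) hy, r _ (cU _ (inv_mem (K₀H k.2)) _ hc.1) (by
          calc _ = (k : G)⁻¹ * (y * (k * s * k⁻¹)) * k := by simp [mul_assoc]
            _ = _ := by rw [hc.2]; simp [mul_assoc])]
        simp [mul_assoc]
      · rfl
    have yH : ∀ k : K₀, (k : G)⁻¹ * z ∈ C1[t] := fun k => mul_mem (inv_mem (K₀H k.2)) z.2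
    rw [coeff_EE_mul K₀H]
    simp only [D, map_one, one_mul, h.II_sum, h.sum_class hK hn hinv hU h.a_II,
      h.sum_class hK hn hinv hU ta, sum_add_distrib,
      fun k m : K₀ => f l₂ h.a_II g1 (fun z hz e => r₂ z ⟨hz, mem_C1.2 e⟩) k _ (yH m),
      fun k m : K₀ => f l₃ ta g4 (fun z hz e => by
        have hz' : z ∈ B := ⟨hz, mem_C1.2 (by
          rwa [← mul_assoc, mem_C1.1 (h.UH hz), mul_assoc, mul_assoc, mul_right_inj] at e)⟩
        rw [r₃ z hz', r₂ _ (cB z hz')]; congr 1; group) k _ (yH m)]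
    rw [sum_comm, sum_comm (f := fun m k : K₀ => ite (_ ∧ _ * (k * (t * a) * _) = _) _ _)]
    have f2 := fun k : K₀ => h.sum_FF hK hn hinv hU l₂ k₂ (h.II_conj h.a_II (K₀H k.2)) z.2
    have f3 := fun k : K₀ => h.sum_FF hK hn hinv hU l₃ k₃ (h.II_conj ta (K₀H k.2)) z.2
    simp only [InvMemClass.coe_inv] at f2 f3 ⊢
    simp only [f2, f3, sum_const, card_univ, ← Nat.card_eq_fintype_card, nsmul_eq_mul, ← mul_add]
    rw [inv_mul_cancel_left₀ (card_ne_zero K₀)]; rfl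
  have zD : eH t D ∈ ZR M C1[t] := eH_mem (fun w hw z => by
    refine (sum_bij (fun u _ => w * u * w⁻¹) (fun u hu => h.II_conj hu hw)
      (fun u _ v _ e => by simpa using e) (fun u hu => ⟨w⁻¹ * u * w, by
        simpa using h.II_conj hu (inv_mem hw), by group⟩) fun u hu =>
          (FF_conj hE₁ (h.cls u (h.mem_II.1 hu).2.2) w z).symm).symm)
    fun z => Subring.sum_mem _ fun u _ => hR₁ _
  have key : ∀ ξ χ, Ind M (C1[t]).subtype ξ χ →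
      om ξ (eH t (EE U ν₁) + eH t (EE U ν₂) + eH t (EE U ν₃)) -
        om χ (ofFn (Tr t (EE K₀ fun _ => 1)) * ofFn (Tr t (EE U ν₁))) ∈ LP M := fun ξ χ hi => by
    have a1 := h.Tr_mod' hEK hRK (fun u hu z hz => by
      rw [fK u hu z hz, fK _ (h.II_mul hu) z hz]) hi
    have a2 : om ξ (eH t (EE U ν₁) + eH t D) - om χ (ofFn (Tr t (EE U ν₁))) ∈ LP M :=
      LP_trans (LP_symm (om_congr_PG ξ (pull_mem_ZA (C1[t]).subtype (Tr_mem_ZR (M := M) hE₁ hR₁).2)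
        (add_mem z₁ zD).2 fun z => by simpa [pull, eH, D] using h.Tr_mod hE₁ hR₁ z.2)) (hi _ (Tr_mem_ZR hE₁ hR₁))
    rw [add_assoc, ← eD, ← EE_mul_EE l₁ hK h.UH (ν' := fun _ => 1) fun u hu => (k₁ u hu).symm,
      ← mul_add, om_mul _ zK.2, om_mul _ (Tr_mem_ZR (M := M) hEK hRK).2]
    convert add_mem (LP_mul_right a1 (om_mem_LR ξ (add_mem z₁ zD)))
      (LP_mul_left (om_mem_LR χ (Tr_mem_ZR hEK hRK)) a2) using 1
    ring
  have S := sep (M := M) h.ord (add_mem (add_mem z₁ z₂) z₃) (by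
    simp only [mul_add, add_mul, EE_mul_EE l₁ le_rfl h.UH fun _ _ => rfl,
      EE_mul_EE l₂ le_rfl h.UH fun _ _ => rfl, EE_mul_EE l₃ le_rfl h.UH fun _ _ => rfl,
      EE_mul_EE_ne l₁ l₂ h.UH hz₀.1 n12, EE_mul_EE_ne l₂ l₁ h.UH hz₀.1 n12.symm,
      EE_mul_EE_ne l₂ l₃ h.UH m23.1 n23, EE_mul_EE_ne l₃ l₂ h.UH m23.1 n23.symm,
      EE_mul_EE_ne l₃ l₁ h.UH m31.1 n31, EE_mul_EE_ne l₁ l₃ h.UH m31.1 n31.symm, add_zero,
      zero_add]) fun ξ ξ' χ h1 h2 => LP_trans (key _ _ h1) (LP_symm (key _ _ h2))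
  obtain ⟨m₁, hm₁, hm₁', hs₁, s₁, c₁, ip₁⟩ := h.exists_mult l₁
  obtain ⟨m₂, hm₂, hm₂', hs₂, s₂, c₂, ip₂⟩ := h.exists_mult l₂
  obtain ⟨m₃, hm₃, hm₃', hs₃, s₃, c₃, ip₃⟩ := h.exists_mult l₃
  simp only [Nat.cast_one] at s₁ s₂ s₃ c₁ c₂ c₃
  have av : ∀ {ν : G → ℂ}, Lin t t ν → ∀ (χ : IrrCharacter G), ∀ u ∈ U,
      avg U ν χ (u * t) = ν u * classInner χ.1 (bt K κ ν 1) := fun {ν} hν χ u hu => by
    rw [h.avg_mul hν _ hu, h.fourier hν χ.2.isClassFunction h.tK h.tU,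
      hν.inv _ h.tH (sq_of_ord2 h.ord), h.one, show (univ : Finset (ZMod (2 * 1))) = {0, 1} by
        decide, sum_pair (by decide), h.bt_zero, one_mul, show ps (1 : ZMod (2 * 1)) = -1 by
        simpa using ps_l (l := 1)]
    simp [classInner_def]
  have ut : ∀ u ∈ U, u * t ∈ K ∧ u * t ∉ U := fun u hu => ⟨mul_mem (h.UK hu) h.tK,
    fun e => h.tU ((U.mul_mem_cancel_left hu).1 e)⟩
  have S' : ∀ χ : IrrCharacter G, (∀ u ∈ U, χ.1 (u * t) =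
      ν₁ u * m₁ 1 χ + ν₂ u * m₂ 1 χ + ν₃ u * m₃ 1 χ) ∨ (m₁ 1 χ = 0 ∧ m₂ 1 χ = 0 ∧ m₃ 1 χ = 0) :=
    fun χ => by
      have e : ∀ u (hu : u ∈ U), ev (fun k : C1[t] => χ.1 k) ((eH t (EE U ν₁) + eH t (EE U ν₂) +
          eH t (EE U ν₃)) * single ⟨u * t, h.KH (ut u hu).1⟩ 1) =
          ν₁ u * m₁ 1 χ + ν₂ u * m₂ 1 χ + ν₃ u * m₃ 1 χ := fun u hu => by
        rw [add_mul, add_mul, map_add, map_add, ev_eH h.UH, ev_eH h.UH, ev_eH h.UH, av l₁ χ u hu,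
          av l₂ χ u hu, av l₃ χ u hu, hm₁', hm₂', hm₃']
      refine (S χ).imp (fun e' u hu => ?_) fun e' => ?_
      · rw [← e u hu, e' _ (h.hC (ut u hu).1 (ut u hu).2)]
      have e2 : ∀ ν : G → ℂ, (∑ u : U, ν₁ u * conj (ν u)) * m₁ 1 χ +
          (∑ u : U, ν₂ u * conj (ν u)) * m₂ 1 χ + (∑ u : U, ν₃ u * conj (ν u)) * m₃ 1 χ = 0 :=
        fun ν => by
          simp only [sum_mul, ← sum_add_distrib]
          refine sum_eq_zero fun u _ => ?_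
          linear_combination conj (ν u) * ((e u u.2).symm.trans
            (e' _ (h.hC (ut u u.2).1 (ut u u.2).2)))
      have a1 := e2 ν₁
      have a2 := e2 ν₂
      have a3 := e2 ν₃
      rw [l₁.sum_self h.UH, l₂.sum_ne l₁ h.UH hz₀.1 n12.symm, l₃.sum_ne l₁ h.UH m31.1 n31] at a1
      rw [l₂.sum_self h.UH, l₁.sum_ne l₂ h.UH hz₀.1 n12, l₃.sum_ne l₂ h.UH m23.1 n23.symm] at a2
      rw [l₃.sum_self h.UH, l₁.sum_ne l₃ h.UH m31.1 n31.symm, l₂.sum_ne l₃ h.UH m23.1 n23] at a3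
      simpa [card_ne] using And.intro a1 (And.intro a2 a3)
  have par : ∀ χ : IrrCharacter G, (m₁ 1 χ ≠ 0 ↔ m₂ 1 χ ≠ 0) ∧ (m₁ 1 χ ≠ 0 ↔ m₃ 1 χ ≠ 0) :=
    fun χ => by
      rcases S' χ with e | e
      swap; · simp [e]
      have p : ∀ s ∈ C1[t], orderOf s = 2 → B ≤ C1[s] → ∀ n : ℤ,
          ∑ z : B, χ.1 (s * z) * conj (ν₁ z) = #B * n →
          ∃ r : ℤ, ∑ z : B, χ.1 z * conj (ν₁ z) = #B * (2 * r - n) := fun s hs o hc n e => by
        have sB : s ∉ B := fun e => h.not_memU o e.1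
        have hW : B ⊔ zpowers s ≤ C1[t] := sup_le BH (zpowers_le.2 hs)
        obtain ⟨r, hr⟩ := (χ.2.isGen.restrict (B ⊔ zpowers s)).classInner_int (l₁.irr _ hW).isGen
        rw [classInner_def, inv_mul_eq_iff_eq_mul₀ (card_ne_zero _),
          sum_ext2 (sq_of_ord2 o) sB hc fun w => χ.1 w * conj (ν₁ w),
          Inv.card_sup_zpowers (fun a ha => by rwa [← mem_C1.1 (hc ha), mul_inv_cancel_right])
            (sq_of_ord2 o ▸ one_mem _) sB] at hr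
        simp only [fun z : B => l₁.mul _ hs _ (BH z.2), l₁.inv _ hs (sq_of_ord2 o), one_mul, e] at hr
        exact ⟨r, by push_cast at hr; linear_combination hr⟩
      have q : ∀ (p₁ p₂ p₃ : ℂ) (f : B → ℂ), (∀ z : B, f z = ν₁ z * p₁ + ν₂ z * p₂ + ν₃ z * p₃) →
          ∑ z : B, f z * conj (ν₁ z) = #B * p₁ := fun p₁ p₂ p₃ f hf => by
        have : ∑ z : B, f z * conj (ν₁ z) = (∑ z : B, ν₁ z * conj (ν₁ z)) * p₁ +
            (∑ z : B, ν₂ z * conj (ν₁ z)) * p₂ + (∑ z : B, ν₃ z * conj (ν₁ z)) * p₃ := by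
          simp only [hf, sum_mul, ← sum_add_distrib]
          exact sum_congr rfl fun z _ => by ring
        rw [this, l₁.sum_self BH, l₂.sum_ne l₁ BH hz₀ n12.symm, l₃.sum_ne l₁ BH m31 n31]; ring
      have v : ∀ {w s : G}, w * t * w⁻¹ = s → ∀ z, χ.1 (s * z) = χ.1 (w⁻¹ * z * w * t) :=
        fun {w s} hw z => by
          rw [← χ.2.isClassFunction (_ * t) w, ← hw, χ.2.isClassFunction.mul_comm]
          congr 1; group
      obtain ⟨r1, e1⟩ := p t h.tH h.ord BH _ (q _ _ _ _ fun z => by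
        rw [← mem_C1.1 (BH z.2), e _ z.2.1])
      obtain ⟨r2, e2⟩ := p a h.aH (h.mem_II.1 h.a_II).2.2 inf_le_right (m₃ 1 χ)
        (q _ (m₁ 1 χ) (m₂ 1 χ) _ fun z => by
          rw [v g1, e _ (cB _ z.2).1, ← r₂ _ z.2, ← r₃ _ z.2, ← r₁ _ z.2]; ring)
      obtain ⟨r3, e3⟩ := p _ (h.mem_II.1 ta).1 (h.mem_II.1 ta).2.2
        (fun z hz => mem_C1.2 (Bta z hz)) (m₂ 1 χ) (q _ (m₃ 1 χ) (m₁ 1 χ) _ fun z => by
          rw [v g4, show (g * g)⁻¹ * z * (g * g) = g⁻¹ * (g⁻¹ * z * g) * g by group,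
            e _ (cB _ (cB _ z.2)).1, ← r₂ _ (cB _ z.2), ← r₃ _ (cB _ z.2), ← r₁ _ (cB _ z.2),
            ← r₂ _ z.2, ← r₃ _ z.2, ← r₁ _ z.2]; ring)
      have f2 := mul_left_cancel₀ (card_ne_zero B) (e1.symm.trans e2)
      have f3 := mul_left_cancel₀ (card_ne_zero B) (e1.symm.trans e3)
      norm_cast at f2 f3
      have := s₁ χ; have := s₂ χ; have := s₃ χ
      omega
  set s := univ.filter fun χ => m₁ 1 χ ≠ 0
  let E : Fin 4 ≃ s := (equivFinOfCardEq c₁).symm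
  have sm : ∀ f : IrrCharacter G → ℂ, (∀ χ, m₁ 1 χ = 0 → f χ = 0) → ∑ χ, f χ = ∑ i, f (E i) :=
    fun f hf => by
      rw [E.sum_comp fun χ => f χ, sum_coe_sort s f]
      exact (sum_subset (subset_univ s) fun χ _ hχ => hf χ (by simpa [s] using hχ)).symm
  have e1 : ∀ i, m₁ 1 (E i) ≠ 0 := fun i => (mem_filter.1 (E i).2).2
  have t₁ := fun i => (s₁ _).resolve_left (e1 i)
  have t₂ := fun i => (s₂ _).resolve_left ((par _).1.1 (e1 i))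
  have t₃ := fun i => (s₃ _).resolve_left ((par _).2.1 (e1 i))
  have z2 : ∀ χ, m₁ 1 χ = 0 → m₂ 1 χ = 0 := fun χ e => not_not.1 fun e' => (par χ).1.2 e' e
  have z3 : ∀ χ, m₁ 1 χ = 0 → m₃ 1 χ = 0 := fun χ e => not_not.1 fun e' => (par χ).2.2 e' e
  choose d hd using fun i => (E i).1.2.isGen.exists_int
  have sq : ∀ i, m₁ 1 (E i) * m₁ 1 (E i) = 1 := fun i => mul_self_eq_one_iff.2 (t₁ i)
  have ort : ∀ {ν ν' : G → ℂ} {m m' : IrrCharacter G → ℤ}, classInner (bt K κ ν 1) (bt K κ ν' 1) = 0 →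
      bt K κ ν 1 = ∑ χ, (m χ : ℂ) • χ.1 → bt K κ ν' 1 = ∑ χ, (m' χ : ℂ) • χ.1 →
      (∀ χ, m₁ 1 χ = 0 → m χ = 0) → ∑ i, m (E i) * m' (E i) = 0 := fun e a b z => by
    rw [a, b, classInner_sum_irr_sum_irr, sm _ fun χ e => by simp [z χ e]] at e
    simp only [map_intCast] at e
    exact_mod_cast e
  have dg : ∀ {ν : G → ℂ} {m : IrrCharacter G → ℤ}, bt K κ ν 1 = ∑ χ, (m χ : ℂ) • χ.1 →
      (∀ χ, m₁ 1 χ = 0 → m χ = 0) → ∑ i, m (E i) * d i = 0 := fun {ν m} a z => by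
    have := congrFun a 1
    rw [h.bt_one, Finset.sum_apply, sm _ fun χ e => by simp [z χ e]] at this
    simp only [Pi.smul_apply, hd, smul_eq_mul] at this
    exact_mod_cast this.symm
  obtain ⟨e, he⟩ := hadamard (b := fun i => m₁ 1 (E i) * m₂ 1 (E i))
    (c := fun i => m₁ 1 (E i) * m₃ 1 (E i)) (d := fun i => m₁ 1 (E i) * d i)
    (fun i => by rcases t₁ i with a | a <;> rcases t₂ i with b | b <;> simp [a, b])
    (fun i => by rcases t₁ i with a | a <;> rcases t₃ i with b | b <;> simp [a, b])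
    (ort (h.bt_bt_ne l₁ l₂ hz₀.1 n12 1 1) (hs₁ 1) (hs₂ 1) fun _ e => e)
    (ort (h.bt_bt_ne l₁ l₃ m31.1 n31.symm 1 1) (hs₁ 1) (hs₃ 1) fun _ e => e)
    (by simpa only [mul_mul_mul_comm (m₁ 1 _) _ (m₁ 1 _), sq, one_mul] using
      ort (h.bt_bt_ne l₂ l₃ m23.1 n23 1 1) (hs₂ 1) (hs₃ 1) z2) (dg (hs₁ 1) fun _ e => e)
    (by simpa only [mul_mul_mul_comm (m₁ 1 _) _ (m₁ 1 _), sq, one_mul] using dg (hs₂ 1) z2)
    (by simpa only [mul_mul_mul_comm (m₁ 1 _) _ (m₁ 1 _), sq, one_mul] using dg (hs₃ 1) z3)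
  have d0 : ∀ i, (d i : ℂ) ≠ 0 := fun i => hd i ▸ (E i).1.2.one_ne_zero
  have e0 : (e : ℂ) ≠ 0 := fun e0 => by
    have := he 0
    rw [Int.cast_eq_zero.1 e0, mul_zero, mul_eq_zero] at this
    exact this.elim (e1 0) fun e => d0 0 (by simp [e])
  have T := h.theta l₁ (j := 1) (by decide)
  rw [if_pos Nat.cast_one.symm, h.kk_K₀ hK hn hinv hU h.a_II, h.kk_K₀ hK hn hinv hU ta, hs₁,
    classInner_sum_left, mul_sum, sm _ fun χ e => by simp [e, classInner_smul_left]] at T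
  have T2 : ∀ i, (Nat.card G : ℂ) * classInner ((m₁ 1 (E i) : ℂ) • (E i).1.1) (pairFun t) =
      ((C1[t]).index : ℂ) ^ 2 / e * ((2 + 3 * (m₂ 1 (E i) * m₃ 1 (E i)) +
        2 * (m₁ 1 (E i) * m₃ 1 (E i)) + 2 * (m₁ 1 (E i) * m₂ 1 (E i)) : ℤ) : ℂ) := fun i => by
    have v := (S' (E i)).resolve_right (fun e => e1 i e.1) 1 (one_mem U)
    rw [one_mul, l₁.one, l₂.one, l₃.one] at v
    have hd' : d i = m₁ 1 (E i) * m₂ 1 (E i) * m₃ 1 (E i) * e := by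
      have := he i
      rcases t₁ i with a | a <;> simp only [a] at this ⊢ <;> linarith
    rw [classInner_smul_left, mul_left_comm, card_mul_inner_pairFun t (E i).1.2.isDirr, v, hd, hd']
    rcases t₁ i with a | a <;> rcases t₂ i with b | b <;> rcases t₃ i with c | c <;>
      simp only [a, b, c] <;> push_cast <;> field_simp <;> ring
  simp only [T2, ← mul_sum, ← Int.cast_sum, sum_add_distrib,
    ort (h.bt_bt_ne l₁ l₂ hz₀.1 n12 1 1) (hs₁ 1) (hs₂ 1) fun _ e => e,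
    ort (h.bt_bt_ne l₁ l₃ m31.1 n31.symm 1 1) (hs₁ 1) (hs₃ 1) fun _ e => e,
    ort (h.bt_bt_ne l₂ l₃ m23.1 n23 1 1) (hs₂ 1) (hs₃ 1) z2] at T
  have N0 : ((C1[t]).index : ℂ) ≠ 0 := Nat.cast_ne_zero.2 (PLoc.index_pos' C1[t]).ne'
  rw [← Int.natCast_dvd_natCast]
  refine ⟨#K₀ * e, Int.cast_injective (α := ℂ) ?_⟩
  simp only [sum_const, card_univ, Fintype.card_fin, nsmul_eq_mul] at T
  push_cast at T ⊢
  field_simp at T
  linear_combination T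

end CS

end Cfsg.Agent.GW
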