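import Cfsg.Agent.GW.Num2

/-! Involutions acting on groups of odd order. -/

set_option autoImplicit false
set_option linter.unusedVariables false
set_option linter.unusedSectionVars false

namespace Cfsg.Agent.GW

open Cfsg Cfsg.Agent.BG Cfsg.Agent.Dih Subgroup PHom
open Cfsg.Agent.Inv (ord2_iff sq_of_ord2 ne_one_of_ord2 inv_of_ord2 orderOf_conj' orderOf_conj''
  orderOf_isConj)
open scoped commutatorElement

universe u

variable {G : Type u} [Group G] [Finite G] {A B D K U W X Z : Subgroup G} {t s g : G}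

/-- `t` inverts `A` -/
def Iv (t : G) (A : Subgroup G) : Prop := ∀ x ∈ A, t * x * t⁻¹ = x⁻¹

theorem cop2 (ht : orderOf t = 2) (h : PiG {2}ᶜ A) : (#(zpowers t)).Coprime #A := (pig2 ht).coprime h

theorem exists_sq {z : G} (h : Odd (orderOf z)) : ∃ y ∈ zpowers z, y * y = z := by
  obtain ⟨k, hk⟩ := h
  exact ⟨z ^ (k + 1), pow_mem (mem_zpowers z) _, by
    rw [← pow_add, show k + 1 + (k + 1) = orderOf z + 1 by omega, pow_succ, pow_orderOf_eq_one,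
      one_mul]⟩

theorem PiG.odd (h : PiG {2}ᶜ A) (hg : g ∈ A) : Odd (orderOf g) := odd_iff.1 (h.elt hg)

theorem one_of_inv (ho : Odd (orderOf g)) (h : t * g * t⁻¹ = g⁻¹) (h2 : g ∈ C1[t]) : g = 1 := by
  rw [← mem_C1.1 h2, mul_inv_cancel_right, eq_inv_iff_mul_eq_one, ← pow_two] at h
  exact orderOf_eq_one_iff.1 ((Nat.coprime_two_right.2 ho).eq_one_of_dvd (orderOf_dvd_of_pow_eq_one h))

namespace Iv

theorem of_le (h : Iv t A) (hB : B ≤ A) : Iv t B := fun x hx => h x (hB hx)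
theorem norm (h : Iv t A) : t ∈ N[A] := mem_N_of fun x hx => h x hx ▸ inv_mem hx
theorem abel (h : Iv t A) : Abel A := le_C_iff.2 fun x hx y hy => by
  have := h _ (mul_mem hx hy)
  rw [show t * (x * y) * t⁻¹ = t * x * t⁻¹ * (t * y * t⁻¹) by group, h x hx, h y hy,
    ← mul_inv_rev] at this
  exact (inv_injective this).symm
theorem cj (h : Iv t A) (g : G) : Iv (g * t * g⁻¹) (cj g A) := fun x hx => by
  obtain ⟨y, hy, rfl⟩ := exists_of_mem_cj hx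
  rw [show g * t * g⁻¹ * (g * y * g⁻¹) * (g * t * g⁻¹)⁻¹ = g * (t * y * t⁻¹) * g⁻¹ by group, h y hy]
  group
theorem conj (h : Iv t A) (hg : g ∈ N[A]) : Iv (g * t * g⁻¹) A := by
  have := h.cj g; rwa [cj_of_mem_N hg] at this
theorem mul_cent (h : Iv t A) (h' : Iv s A) : t * s⁻¹ ∈ C[A] := mem_C.2 fun x hx => by
  have := (h _ (conj_mem' h'.norm hx)).trans (h' _ (conj_mem' h'.norm hx)).symm
  rw [← mul_left_inj s, ← mul_left_inj t⁻¹]
  convert this.symm using 1 <;> group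
theorem cent_mul (h : Iv t A) (h' : s ∈ C[A]) : Iv (s * t) A := fun x hx => by
  rw [show s * t * x * (s * t)⁻¹ = s * (t * x * t⁻¹) * s⁻¹ by group, h x hx,
    ← mem_C.1 h' _ (inv_mem hx), mul_inv_cancel_right]
theorem comm_cent (h : Iv t A) (ht : orderOf t = 2) (hX : X ≤ N[A]) : ⁅X, zpowers t⁆ ≤ C[A] :=
  comm_le_iff.2 fun x hx y hy => by
    rcases (mem_zp2 (sq_of_ord2 ht)).1 hy with rfl | rfl
    · simp
    · exact (h.conj (hX hx)).mul_cent h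
theorem inf_bot (h : Iv t A) (ho : PiG {2}ᶜ A) : A ⊓ C1[t] = ⊥ :=
  eq_bot_iff.2 fun x hx => one_of_inv (PiG.odd ho hx.1) (h x hx.1) hx.2
theorem im {Y : Type*} [Group Y] {φ : PHom G Y} (h : Iv t A) (ht : t ∈ φ.dom) :
    Iv (φ.app t) (φ.im A) := fun x hx => by
  obtain ⟨y, hy, hy', rfl⟩ := mem_im.1 hx
  rw [← app_conj ht hy', h y hy, app_inv hy']
theorem sup (h : Iv t A) (h' : Iv t B) (hc : A ≤ C[B]) : Iv t (A ⊔ B) := fun x hx => by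
  obtain ⟨y, hy, z, hz, rfl⟩ := (mem_sup_r (cents_norm hc)).1 hx
  rw [show t * (y * z) * t⁻¹ = t * y * t⁻¹ * (t * z * t⁻¹) by group, h y hy, h' z hz,
    ← mul_inv_rev, mem_C_comm hc hy hz]

end Iv

theorem mem_comm_of_inv (ho : Odd (orderOf g)) (hg : g ∈ A) (h : t * g * t⁻¹ = g⁻¹) :
    g ∈ ⁅A, zpowers t⁆ := by
  obtain ⟨y, ⟨k, rfl⟩, e⟩ := exists_sq ho
  have := comm_mem (zpow_mem hg k) (mem_zpowers t)
  rwa [show g ^ k * t * (g ^ k)⁻¹ * t⁻¹ = g ^ k * (t * g * t⁻¹) ^ (-k) by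
    rw [conj_zpow]; group, h, inv_zpow', neg_neg, e] at this

theorem Iv.le_comm (h : Iv t A) (ho : PiG {2}ᶜ A) : A ≤ ⁅A, zpowers t⁆ :=
  fun x hx => mem_comm_of_inv (PiG.odd ho hx) hx (h x hx)

theorem iv_of_fpf (ht : orderOf t = 2) (ho : PiG {2}ᶜ A) (hn : t ∈ N[A]) (h : A ⊓ C1[t] = ⊥) :
    Iv t A := by
  let f : A → A := fun x => ⟨x⁻¹ * (t * x * t⁻¹), mul_mem (inv_mem x.2) (conj_mem hn x.2)⟩
  have : Function.Injective f := fun x y e => by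
    have e : (x : G)⁻¹ * (t * x * t⁻¹) = (y : G)⁻¹ * (t * y * t⁻¹) := congrArg Subtype.val e
    have : (y : G) * (x : G)⁻¹ ∈ A ⊓ C1[t] := mem_inf.2 ⟨mul_mem y.2 (inv_mem x.2), mem_C1.2 (by
      calc (y : G) * (x : G)⁻¹ * t = y * ((x : G)⁻¹ * (t * x * t⁻¹)) * t * (x : G)⁻¹ := by group
        _ = _ := by rw [e]; group)⟩
    rw [h, mem_bot, mul_inv_eq_one] at this
    exact Subtype.ext this.symm
  intro x hx
  obtain ⟨y, e⟩ := Finite.surjective_of_injective this ⟨x, hx⟩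
  obtain rfl : (y : G)⁻¹ * (t * y * t⁻¹) = x := congrArg Subtype.val e
  simp [mul_assoc, inv_of_ord2 ht, ← mul_assoc t t, sq_of_ord2 ht]

theorem iv_comm (ht : orderOf t = 2) (ho : PiG {2}ᶜ A) (hn : t ∈ N[A]) (h : Abel ⁅A, zpowers t⁆) :
    Iv t ⁅A, zpowers t⁆ := by
  have hn' := zpowers_le.2 hn
  have o := ho.of_le (commL hn')
  refine iv_of_fpf ht o (comm_normr _ _ (mem_zpowers t)) ?_
  have := cop_abel_C_comm h (comm_normr _ _) (cop2 ht o)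
  rwa [cop_comm_comm hn' (cop2 ht ho) (Or.inl (pig2 ht).sol), C_zpowers] at this

theorem prod2 (ht : orderOf t = 2) (ho : PiG {2}ᶜ A) (hn : t ∈ N[A]) :
    IsProd ⁅A, zpowers t⁆ (A ⊓ C1[t]) A :=
  C_zpowers t ▸ cop_cent_prod (zpowers_le.2 hn) (cop2 ht ho) (Or.inl (pig2 ht).sol)

theorem comm2 (ht : orderOf t = 2) (ho : PiG {2}ᶜ A) (hn : t ∈ N[A]) :
    ⁅⁅A, zpowers t⁆, zpowers t⁆ = ⁅A, zpowers t⁆ :=
  cop_comm_comm (zpowers_le.2 hn) (cop2 ht ho) (Or.inl (pig2 ht).sol)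

theorem cent2 (ht : orderOf t = 2) (ho : PiG {2}ᶜ A) (h : ⁅A, zpowers t⁆ ≤ B) (hB : PiG {2}ᶜ B)
    (h2 : B ≤ C1[t]) : A ≤ C1[t] :=
  C_zpowers t ▸ cop_stable (cop2 ht hB) h (C_zpowers t ▸ h2)

theorem comm_zp_bot : ⁅A, zpowers t⁆ = ⊥ ↔ A ≤ C1[t] := by rw [comm_eq_bot, C_zpowers]

theorem ord_app {Y : Type*} [Group Y] {φ : PHom G Y} (ht : orderOf t = 2) (hd : t ∈ φ.dom)
    (ho : PiG {2}ᶜ φ.ker) : orderOf (φ.app t) = 2 :=
  ord2_iff.2 ⟨by rw [← app_mul hd hd, sq_of_ord2 ht, app_one], fun e =>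
    ne_one_of_ord2 ht ((pie2 ht).eq_one (ho.elt (mem_ker.2 ⟨hd, e⟩)))⟩

theorem im_C2 {Y : Type*} [Group Y] {φ : PHom G Y} (ht : orderOf t = 2) (hd : t ∈ φ.dom)
    (ho : PiG {2}ᶜ φ.ker) (hA : A ≤ φ.dom) (hK : φ.ker ≤ A) :
    φ.im (A ⊓ C1[t]) = φ.im A ⊓ C1[φ.app t] := by
  have := im_IC' (zpowers_le.2 hd) hA hK (cop2 ht ho) (Or.inl (pig2 ht).sol)
  rwa [im_zpowers hd, C_zpowers, C_zpowers] at this

theorem exists_W (hK : Nil K) (hD : D ≤ N[K]) (hc : (#D).Coprime #K) (h : ¬ D ≤ C[K]) :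
    ∃ N₁, K ⊓ C[D] ≤ N₁ ∧ N₁ ≤ K ∧ N₁ ≤ N[K ⊓ C[D]] ∧ Z[N₁ ÷ (K ⊓ C[D])] ≠ ⊥ ∧
      (N₁ ÷ (K ⊓ C[D])) ⊓ C[D ÷ (K ⊓ C[D])] = ⊥ ∧
      ∀ X, X ≤ N[K] → X ≤ N[D] → X ≤ N[K ⊓ C[D]] ∧ X ≤ N[N₁] := by
  set C := K ⊓ C[D]
  have lt := hK.lt_norm (K := C) (lt_of_le_of_ne inf_le_left fun e =>
    h (cent_symm (e.ge.trans inf_le_right)))
  have n : ∀ X, X ≤ N[K] → X ≤ N[D] → X ≤ N[C] := fun X a b => normI a (normC b)
  refine ⟨_, lt.le, inf_le_left, inf_le_right, ((hK.of_le inf_le_left).im _).Z_ne_bot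
    fun e => lt.not_ge ((quo_bot_iff inf_le_right).1 e), ?_,
    fun X a b => ⟨n X a b, normI a (normN (n X a b))⟩⟩
  rw [← im_IC' (φ := quo C) (H := K ⊓ N[C]) (n D hD (normG D)) inf_le_right (by rw [quo_ker]; exact lt.le)
    (by rw [quo_ker]; exact coprimeS hc le_rfl inf_le_left)
    (Or.inr (by rw [quo_ker]; exact (hK.of_le inf_le_left).sol)),
    quo_bot_iff (inf_le_left.trans inf_le_right)]
  exact inf_le_inf_right _ inf_le_left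

theorem lemW (ht : orderOf t = 2) (hK : Nil K) (ho : PiG {2}ᶜ K) (hD : D ≤ N[K]) (tK : t ∈ N[K])
    (tD : t ∈ N[D]) (hc : (#D).Coprime #K) (e : D ≤ ⁅D, zpowers t⁆) (h : K ⊓ C1[t] ≤ C[D]) :
    D ≤ C[K] := by
  by_contra hn
  obtain ⟨N₁, n1, n2, n3, n4, n5, n6⟩ := exists_W hK hD hc hn
  set C := K ⊓ C[D]
  obtain ⟨t1, t2⟩ := n6 _ (zpowers_le.2 tK) (zpowers_le.2 tD)
  obtain ⟨d1, d2⟩ := n6 _ hD (normG D)
  have oC : PiG {2}ᶜ (quo C).ker := by rw [quo_ker]; exact ho.of_le inf_le_left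
  have td : t ∈ (quo C).dom := t1 (mem_zpowers t)
  have o := ord_app ht td oC
  have := (iv_of_fpf o ((ho.of_le n2).im _) (app_mem_N (t2 (mem_zpowers t)) td) (by
    rw [← im_C2 ht td oC n3 (by rwa [quo_ker]), quo_bot_iff (inf_le_left.trans n3)]
    exact le_inf (inf_le_left.trans n2) ((inf_le_inf_right _ n2).trans h))).comm_cent o (im_norm d2)
  rw [← im_zpowers td, ← im_comm d1 t1] at this
  exact n4 (eq_bot_iff.2 (n5 ▸ le_inf inf_le_left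
    (inf_le_left.trans (cent_symm ((im_mono e).trans this)))))

theorem wop_core (ht : orderOf t = 2) (hW : Abel W) (ho : PiG {2}ᶜ W) (h1 : W ≠ ⊥) (hD : D ≤ N[W])
    (tW : t ∈ N[W]) (iv : Iv t D) (oD : PiG {2}ᶜ D) (h0 : W ⊓ C[D] = ⊥) (zD : Z ≤ N[D])
    (zW : Z ≤ C[W ⊓ C1[t]]) (oZ : PiG {2}ᶜ Z) (e : D ≤ ⁅D, Z⁆) : False := by
  obtain ⟨B, -, ⟨b1, b2⟩, mx⟩ := exists_maximal (P := fun B => B ≤ D ∧ W ⊓ C[B] ≠ ⊥) (A := ⊥)
    ⟨bot_le, by rwa [C_bot, inf_top_eq]⟩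
  have dB : D ≤ N[W ⊓ C[B]] := normI hD (normC (abel_norm iv.abel b1))
  have tB : t ∈ N[W ⊓ C[B]] :=
    zpowers_le.1 (normI (zpowers_le.2 tW) (normC (zpowers_le.2 (iv.of_le b1).norm)))
  obtain ⟨w, ⟨hw, wt⟩, w1⟩ := exists_mem_ne_one (A := W ⊓ C[B] ⊓ C1[t]) fun e => b2 (eq_bot_iff.2
    (h0 ▸ le_inf inf_le_left (cent_symm ((iv.le_comm oD).trans
      ((iv_of_fpf ht (ho.of_le inf_le_left) tB e).comm_cent ht dB)))))
  have key : ∀ d ∈ D, ∀ v ∈ W ⊓ C[B], v ≠ 1 → v * d = d * v → d ∈ B := fun d hd v hv v1 e => by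
    rw [← mx (B ⊔ zpowers d) ⟨sup_le b1 (zpowers_le.2 hd), ne_bot_of_mem (x := v) ⟨hv.1, by
      rw [C_sup, C_zpowers]; exact ⟨hv.2, mem_C1.2 e⟩⟩ v1⟩ le_sup_left]
    exact mem_sup_right (mem_zpowers d)
  have zw : ∀ z ∈ Z, z * w * z⁻¹ = w := fun z hz => by
    rw [← mem_C.1 (zW hz) w ⟨hw.1, wt⟩, mul_inv_cancel_right]
  have zB : ∀ z ∈ Z, ∀ β ∈ B, z * β * z⁻¹ ∈ B := fun z hz β hβ =>
    key _ (conj_mem (zD hz) (b1 hβ)) w hw w1 (by
      calc _ = z * (w * β) * z⁻¹ := by conv_lhs => rw [← zw z hz]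
                                       group
        _ = _ := by rw [← mem_C.1 hw.2 β hβ]; conv_rhs => rw [← zw z hz]
                    group)
  have alt : ∀ z ∈ Z, ∀ d ∈ D, d⁻¹ * (z * d * z⁻¹) ∈ B ∨ z * d * z⁻¹ * d ∈ B := fun z hz d hd => by
    have hd' := conj_mem (zD hz) hd
    have m := conj_mem (dB hd) hw
    have m2 := conj_mem' (dB hd) hw
    have m3 := conj_mem (dB hd') hw
    have m4 := conj_mem' (dB hd') hw
    have u := mem_C.1 (zW hz) (d * w * d⁻¹ * (d⁻¹ * w * d)) ⟨mul_mem m.1 m2.1, mem_C1.2 (by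
      have e1 := iv d hd
      have e2 : t * w * t⁻¹ = w := by rw [← mem_C1.1 wt, mul_inv_cancel_right]
      rw [← mul_left_inj t⁻¹, mul_inv_cancel_right, mem_C_comm hW m.1 m2.1]
      calc _ = (t * d * t⁻¹) * (t * w * t⁻¹) * (t * d * t⁻¹)⁻¹ *
          ((t * d * t⁻¹)⁻¹ * (t * w * t⁻¹) * (t * d * t⁻¹)) := by rw [e1, e2]; group
        _ = _ := by rw [mem_C_comm hW m2.1 m.1]; group)⟩
    have u2 : z * d * z⁻¹ * w * (z * d * z⁻¹)⁻¹ * ((z * d * z⁻¹)⁻¹ * w * (z * d * z⁻¹)) =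
        d * w * d⁻¹ * (d⁻¹ * w * d) := by
      rw [← mul_left_inj z, u]; conv_lhs => rw [← zw z hz]
      group
    have c := mem_C_comm iv.abel hd hd'
    generalize z * d * z⁻¹ = d' at *
    by_cases v : d' * w * d'⁻¹ * (d * w * d⁻¹)⁻¹ = 1
    · refine Or.inl (key _ (mul_mem (inv_mem hd) hd') w hw w1 ?_)
      rw [mul_inv_eq_one] at v
      calc _ = d⁻¹ * (d * w * d⁻¹) * d' := by group
        _ = _ := by rw [← v]; group
    · refine Or.inr (key _ (mul_mem hd' hd) _ (mul_mem m3 (inv_mem m)) v ?_)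
      have e1 : d' * w * d'⁻¹ * (d * w * d⁻¹)⁻¹ = d⁻¹ * w * d * (d'⁻¹ * w * d')⁻¹ := by
        rw [eq_mul_inv_of_mul_eq u2, mul_assoc (d * w * d⁻¹),
          mem_C_comm hW m.1 (mul_mem m2.1 (inv_mem m4.1)), mul_inv_cancel_right]
      conv_rhs => rw [e1]
      calc _ = d' * w * (d'⁻¹ * d) * w⁻¹ * (d⁻¹ * (d' * d)) := by group
        _ = d' * w * (d * d'⁻¹) * w⁻¹ * d' := by
          rw [← c, mem_C_comm iv.abel (inv_mem hd') hd]; group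
        _ = _ := by group
  refine b2 (eq_bot_iff.2 (h0 ▸ inf_le_inf_left _ (centS (e.trans (comm_le_iff.2
    fun d hd z hz => ?_)))))
  obtain ⟨y, hy, rfl⟩ := exists_sq (PiG.odd oZ hz)
  have hy := zpowers_le.2 hz hy
  rcases alt y hy _ (inv_mem hd) with m | m
  · convert mul_mem m (zB y hy _ m) using 1; group
  · convert mul_mem (conj_mem (abel_norm iv.abel b1 hd) (zB y hy _ m)) (inv_mem m) using 1; group

theorem lemWop (ht : orderOf t = 2) (hK : Nil K) (ho : PiG {2}ᶜ K) (hD : D ≤ N[K]) (tK : t ∈ N[K])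
    (iv : Iv t D) (oD : PiG {2}ᶜ D) (hc : (#D).Coprime #K) (zK : Z ≤ N[K]) (zD : Z ≤ N[D])
    (oZ : PiG {2}ᶜ Z) (e : D ≤ ⁅D, Z⁆) (h : ⁅K ⊓ C1[t], Z⁆ ≤ C[D]) : D ≤ C[K] := by
  by_contra hn
  obtain ⟨N₁, n1, n2, n3, n4, n5, n6⟩ := exists_W hK hD hc hn
  set C := K ⊓ C[D]
  obtain ⟨t1, t2⟩ := n6 _ (zpowers_le.2 tK) (zpowers_le.2 iv.norm)
  obtain ⟨d1, d2⟩ := n6 _ hD (normG D)
  obtain ⟨z1, z2⟩ := n6 _ zK zD
  have oC : PiG {2}ᶜ (quo C).ker := by rw [quo_ker]; exact ho.of_le inf_le_left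
  have td : t ∈ (quo C).dom := t1 (mem_zpowers t)
  refine wop_core (ord_app ht td oC) (abel_Z _) (((ho.of_le n2).im _).of_le inf_le_left) n4
    (normZ (im_norm d2)) (zpowers_le.1 (normZ (zpowers_le.2 (app_mem_N (t2 (mem_zpowers t)) td))))
    (iv.im td) (oD.im _) (eq_bot_iff.2 (n5 ▸ inf_le_inf_right _ inf_le_left)) (im_norm zD)
    (cent_symm ((inf_le_inf_right _ inf_le_left).trans ?_)) (oZ.im _)
    ((im_mono e).trans_eq (im_comm d1 z1))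
  rw [← im_C2 ht td oC n3 (by rwa [quo_ker]), quo_cent_iff (inf_le_left.trans n3) z1]
  exact le_inf ((commS (inf_le_left.trans n2) le_rfl).trans (commL zK))
    ((commS (inf_le_inf_right _ n2) le_rfl).trans h)

theorem card_dvd_relIndex (hA : A ≤ U) (h : ∀ x ∈ A, ∀ u ∈ U, u⁻¹ * x * u ∈ B → x = 1) :
    #A ∣ B.relIndex U := by
  have e := MulAction.selfEquivOrbitsQuotientProd (G := A.subgroupOf U) (X := U ⧸ B.subgroupOf U)
    fun q => by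
      induction q using QuotientGroup.induction_on with | _ u => ?_
      refine eq_bot_iff.2 fun x hx => Subtype.ext (Subtype.ext (h _ x.2 u u.2 ?_))
      have e : ((x.1 * u : U) : U ⧸ B.subgroupOf U) = u := hx
      simpa [mem_subgroupOf, mul_assoc] using QuotientGroup.eq.1 e.symm
  rw [relIndex, index, Nat.card_congr e, Nat.card_prod,
    Nat.card_congr (subgroupOfEquivOfLe hA).toEquiv]
  exact Dvd.intro_left _ rfl

theorem one_of_inv_conj {x u : G} (ho : PiG {2}ᶜ U) (hn : t ∈ N[U]) (hx : x ∈ U)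
    (h : t * x * t⁻¹ = x⁻¹) (hu : u ∈ U) (e : u⁻¹ * x * u ∈ C1[t]) : x = 1 := by
  have e1 := mem_C1.1 e
  have m : t * u * t⁻¹ * u⁻¹ ∈ U := mul_mem (conj_mem hn hu) (inv_mem hu)
  have e3 : t * u * t⁻¹ * u⁻¹ * x * (t * u * t⁻¹ * u⁻¹)⁻¹ = x⁻¹ := by
    rw [← h]
    calc _ = t * u * t⁻¹ * (u⁻¹ * x * u * t) * u⁻¹ * t⁻¹ := by group
      _ = _ := by rw [e1]; group
  have e4 : Commute (t * u * t⁻¹ * u⁻¹ * (t * u * t⁻¹ * u⁻¹)) x := by
    generalize t * u * t⁻¹ * u⁻¹ = c at e3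
    have : c * c * x * (c * c)⁻¹ = x := by
      calc _ = c * (c * x * c⁻¹) * c⁻¹ := by group
        _ = c * x⁻¹ * c⁻¹ := by rw [e3]
        _ = (c * x * c⁻¹)⁻¹ := by group
        _ = _ := by rw [e3, inv_inv]
    exact mul_inv_eq_iff_eq_mul.1 this
  exact one_of_inv (PiG.odd ho hx) e3
    (mem_C1.2 (Inv.commute_of_sq_commute_of_odd (PiG.odd ho m) e4).symm)

theorem Iv.card_dvd (h : Iv t A) (hA : A ≤ U) (ho : PiG {2}ᶜ U) (hn : t ∈ N[U]) :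
    #A ∣ (U ⊓ C1[t]).relIndex U :=
  card_dvd_relIndex hA fun x hx u hu e => one_of_inv_conj ho hn (hA hx) (h x hx) hu e.2

theorem Iv.mem_of_prod (h : Iv t A) (ho : PiG {2}ᶜ U) (hn : t ∈ N[U])
    (hp : IsProd A (U ⊓ C1[t]) U) (hg : g ∈ U) (e : t * g * t⁻¹ = g⁻¹) : g ∈ A := by
  obtain ⟨i, hi, c, hc, rfl⟩ := hp.ex g hg
  obtain ⟨j, hj, rfl⟩ := exists_sq (PiG.odd ho (hp.left hi))
  have hj := zpowers_le.2 hi hj
  have := one_of_inv_conj (x := j * c * j⁻¹) ho hn (conj_mem (normG U (hp.left hj)) hc.1) (by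
    calc _ = (t * j * t⁻¹)⁻¹ * (t * (j * j * c) * t⁻¹) * (t * j * t⁻¹)⁻¹ := by group
      _ = _ := by rw [e, h j hj]; group) (hp.left hj) (by simpa [mul_assoc] using hc.2)
  rwa [conj_eq_one_iff.1 this, mul_one]

theorem Iv.relIndex (h : Iv t A) (ho : PiG {2}ᶜ U) (hp : IsProd A (U ⊓ C1[t]) U) :
    (U ⊓ C1[t]).relIndex U = #A := by
  rw [hp.symm.relIndex, ← inf_relIndex_right, eq_bot_iff.2 ((h.inf_bot (ho.of_le hp.left)) ▸
    le_inf inf_le_right (inf_le_left.trans inf_le_right) : _ ⊓ A ≤ ⊥), relIndex_bot_left]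

theorem prod_of_comm_le (ht : orderOf t = 2) (ho : PiG {2}ᶜ U) (hn : t ∈ N[U]) (hA : A ≤ U)
    (h : ⁅U, zpowers t⁆ ≤ A) : IsProd A (U ⊓ C1[t]) U :=
  (prod2 ht ho hn).mono h le_rfl hA inf_le_left

theorem comm_zp_le (ht : orderOf t = 2) (h : ∀ u ∈ U, u * t * u⁻¹ * t⁻¹ ∈ A) :
    ⁅U, zpowers t⁆ ≤ A := comm_le_iff.2 fun x hx y hy => by
  rcases (mem_zp2 (sq_of_ord2 ht)).1 hy with rfl | rfl
  · simp
  · exact h x hx

theorem iv_zpowers (h : t * g * t⁻¹ = g⁻¹) : Iv t (zpowers g) := by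
  rintro _ ⟨k, rfl⟩
  simp only [← conj_zpow, h, inv_zpow]

end Cfsg.Agent.GW
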