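import Cfsg.Agent.GW.LT3

/-! The torus data of `PSL(2, q) ⊴ Y`.

`ψ` lifts the action of `Y` to `SL₂(q)` (`Md`); `Tor v` is the image of the fixed points of `ψ v`. -/

set_option autoImplicit false
set_option linter.unusedVariables false
set_option linter.unusedSectionVars false

namespace Cfsg.Agent.GW

open Matrix Cfsg.Agent.Class Cfsg Cfsg.Agent.BG Cfsg.Agent.Dih Subgroup
open scoped MatrixGroups

theorem geom_lem {r : ℕ} (hr : r.Prime) (o : Odd r) (k : ℤ) : ¬ (r : ℤ) ^ 2 ∣ ∑ i ∈ Finset.range r, k ^ i := fun h => by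
  have := Fact.mk hr
  have h1 : (r : ℤ) ∣ k ^ r - 1 := geom_sum_mul k r ▸ ((dvd_pow_self _ two_ne_zero).trans h).mul_right _
  have h2 : (r : ℤ) ∣ k - 1 := by
    rw [← ZMod.intCast_zmod_eq_zero_iff_dvd] at h1 ⊢
    simpa [ZMod.pow_card] using h1
  obtain ⟨b, hb⟩ := h2
  have h3 := odd_sq_dvd_geom_sum₂_sub (1 : ℤ) b o
  simp only [one_pow, mul_one, show 1 + (r : ℤ) * b = k by linarith] at h3
  have h4 := Int.le_of_dvd (by exact_mod_cast hr.pos) ((dvd_sub_right h).1 h3)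
  have : (2 : ℤ) ≤ r := by exact_mod_cast hr.two_le
  nlinarith

theorem pow_lem {s r : ℕ} (h1 : 3 ≤ s) (h2 : 3 ≤ r) : r * (2 * s) + 1 < s ^ r := by
  have : ∀ n, 2 * (n + 3) + 3 ≤ 3 ^ (n + 2) := fun n => by
    induction n with
    | zero => simp
    | succ n ih => rw [show n + 1 + 2 = n + 2 + 1 by ring, pow_succ]; omega
  obtain ⟨n, rfl⟩ := Nat.exists_eq_add_of_le' h2
  have := (this n).trans (Nat.pow_le_pow_left h1 _)
  rw [show n + 3 = n + 2 + 1 by ring, pow_succ]; nlinarith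

variable {F : Type*} [Field F] [Finite F] {Y : Type*} [Group Y] [Finite Y]
variable {E : Subgroup Y} {φ : SL(2, F) →* Y} {ψ : Y →* MulAut SL(2, F)} {x y v w : Y} {g h : M2 F} {A B : SL(2, F)}

theorem card_fix {σ : RingAut F} {r : ℕ} (h : orderOf σ = r) : ∃ K : Subfield F, (∀ x, σ x = x → x ∈ K) ∧
    Nat.card F = Nat.card K ^ r := by
  classical
  have := Fintype.ofFinite (zpowers σ)
  refine ⟨FixedPoints.subfield (zpowers σ) F, fun x hx g => smul_eq_self_of_mem_zpowers g.2 hx, ?_⟩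
  rw [← h, ← Nat.card_zpowers, Nat.card_eq_fintype_card (α := zpowers σ), ← FixedPoints.finrank_eq_card _ F,
    Module.natCard_eq_pow_finrank (K := FixedPoints.subfield (zpowers σ) F)]

theorem card_tr (h2 : (2 : F) ≠ 0) (t : Tz g) {L : Subgroup SL(2, F)} (hL : L ≤ Cm g) {K : Subfield F}
    (h : ∀ A ∈ L, (mt A).trace ∈ K) : #L ≤ 2 * Nat.card K := by
  classical
  have := Fintype.ofFinite L
  have := Fintype.ofFinite K
  rw [Nat.card_eq_fintype_card, Nat.card_eq_fintype_card]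
  refine Finset.card_le_mul_card_image_of_maps_to (f := fun A : L => (⟨_, h A A.2⟩ : K)) (by simp) 2 fun b _ => ?_
  rcases (Finset.univ.filter fun A : L => (⟨_, h A A.2⟩ : K) = b).eq_empty_or_nonempty with e | ⟨A, hA⟩
  · simp [e]
  refine (Finset.card_le_card (t := {A, A⁻¹}) fun B hB => ?_).trans Finset.card_le_two
  have e : (mt A.1).trace = (mt B.1).trace :=
    congrArg Subtype.val ((Finset.mem_filter.1 hA).2.trans (Finset.mem_filter.1 hB).2.symm)
  obtain ⟨a, b, e1, e2⟩ := t.mem_Cm h2 (hL A.2)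
  obtain ⟨c, d, e3, e4⟩ := t.mem_Cm h2 (hL B.2)
  rw [e2, e4, tr_lin t.tr, tr_lin t.tr] at e
  obtain rfl := mul_left_cancel₀ h2 e
  rcases sq_eq_sq_iff_eq_or_eq_neg.1 (mul_left_cancel₀ t.det (add_left_cancel (e3.trans e1.symm))) with rfl | rfl
  · simp [show B = A from Subtype.ext (mt_inj.1 (e4.trans e2.symm))]
  · simp [show B = A⁻¹ from eq_inv_of_mul_eq_one_left (Subtype.ext (mt_inj.1 (by
      rw [coe_mul, mt_mul, e2, e4]
      simp only [mul_add, add_mul, smul_mul_smul_comm, sq_of_tr t.tr, one_mul, mul_one, coe_one, mt_one]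
      linear_combination (norm := module) e1 • (1 : M2 F))))]

theorem fix_of_lin {x : P1 F} {b c : F} (hc : c ≠ 0) (e : mt A = b • 1 + c • mt B)
    (h : (A : GL (Fin 2) F) • x = x) : (B : GL (Fin 2) F) • x = x := by
  induction x using Projectivization.ind with | h u hu =>
  rw [gl_smul_pmk_iff] at h ⊢
  obtain ⟨e1, e2, e3, e4⟩ := ent e
  simp [mt] at e1 e2 e3 e4
  simp only [SpecialLinearGroup.coe_GL_coe_matrix, e1, e2, e3, e4] at h ⊢
  exact mul_left_cancel₀ hc (by linear_combination h)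

theorem sq_of_fixpt {x : P1 F} (t : (mt A).trace = 0) (h : (A : GL (Fin 2) F) • x = x) : IsSquare (-1 : F) := by
  induction x using Projectivization.ind with | h u hu =>
  rw [gl_smul_pmk_iff] at h
  have d := mt_det A
  simp only [trace_fin_two, det_fin_two, mt, SpecialLinearGroup.coe_GL_coe_matrix] at t d h
  by_cases u0 : u 0 = 0
  · have u1 := (vec2_ne_zero.1 hu).resolve_left (not_not.2 u0)
    have : A.1 0 1 = 0 := mul_right_cancel₀ (mul_ne_zero u1 u1) (by linear_combination h + (A.1 1 0 * u 0 + A.1 1 1 * u 1 - A.1 0 0 * u 1) * u0)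
    exact ⟨A.1 0 0, by linear_combination d - A.1 0 0 * t + A.1 1 0 * this⟩
  · exact ⟨(A.1 0 1 * u 1 + A.1 0 0 * u 0) / u 0, by
      field_simp
      linear_combination u 0 ^ 2 * d - A.1 0 1 * h - (A.1 0 0 * u 0 ^ 2 + A.1 0 1 * u 0 * u 1) * t⟩

namespace Md
variable (m : Md E φ ψ)
include m

theorem odd_pair {H : Subgroup Y} (o : Odd #H) (hA : φ A ∈ H) (hB : φ B ∈ H) :
    φ A * φ B = φ B * φ A ∨ ∃ x : P1 F, (A : GL (Fin 2) F) • x = x ∧ (B : GL (Fin 2) F) • x = x := by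
  obtain ⟨p, hc⟩ := CharP.exists F
  have := Fact.mk (CharP.char_is_prime F p)
  have : Finite PGL(2, F) := Finite.of_surjective _ ProjGenLinGroup.mk_surjective
  have o1 : Odd #((H.comap φ).map SpecialLinearGroup.toPGL) := Inv.odd_card_iff.2 (by
    rintro _ ⟨A, h, rfl⟩ e
    obtain ⟨e1, e2⟩ := Inv.ord2_iff.1 e
    rw [← map_mul, toPGL_eq_one_iff] at e1
    refine Inv.odd_card_iff.1 o _ h (Inv.ord2_iff.2 ⟨?_, fun f => e2 (toPGL_eq_one_iff.2 (m.eq.1 ((map_one φ).trans f.symm)))⟩)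
    rw [← map_mul, ← map_one φ, eq_comm, m.eq]; exact e1)
  rcases dickson_sl p (H.comap φ) with ⟨x, h⟩ | h | ⟨-, ⟨e⟩, -⟩ | ⟨R, t, -, h, -⟩
  · exact .inr ⟨x, h A hA, h B hB⟩
  · have := isCyclic_of_odd p _ o1 fun d => h (fun e => m.two ((two_eq_zero_iff p).2 e)) (d.trans (card_map_dvd _ _))
    have e := congrArg Subtype.val (this.commGroup.mul_comm ⟨_, A, hA, rfl⟩ ⟨_, B, hB, rfl⟩)
    exact .inl (by rw [← map_mul, ← map_mul, m.eq, ← toPGL_eq_iff, map_mul, map_mul]; exact e)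
  · rw [Nat.card_congr e.toEquiv, card_A5] at o1; exact absurd o1 (by decide)
  · exact absurd (m.ord ((trace_conjSL _ _).trans (by simp [trace_fin_two]))) (Inv.odd_card_iff.1 o _ (h (slJ R)))

variable (I : ∀ v : Y, orderOf v = 2 → ∃ g, Ac ψ v g)
include I

theorem ti' (hv : orderOf v = 2) (hw : orderOf w = 2) (h1 : y ∈ Tor φ ψ v) (h2 : y ∈ Tor φ ψ w) (n : y ≠ 1) : v = w :=
  have ⟨_, a⟩ := I v hv; have ⟨_, b⟩ := I w hw; m.ti a b hv hw h1 h2 n

theorem mem_tor_of (hv : orderOf v = 2) (c1 : v ∉ E → 2 < #(Tor φ ψ v))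
    (c2 : ∀ w ∈ E, orderOf w = 2 → v ∈ E → #(Tor φ ψ w) = #(Tor φ ψ v)) (hy : y ∈ E) (o : Odd (orderOf y))
    (c : ∀ k ∈ C1[v], k * y * k⁻¹ * y = y * (k * y * k⁻¹)) : y ∈ Tor φ ψ v := by
  by_contra n
  have y1 : y ≠ 1 := fun e => n (e ▸ one_mem _)
  obtain ⟨A, rfl⟩ := m.range.ge hy
  obtain ⟨N, s, hN, t⟩ : ∃ (N : M2 F) (s : F), mt A = s • 1 + N ∧ N.trace = 0 :=
    ⟨mt A - ((mt A).trace / 2) • 1, _, (add_sub_cancel _ _).symm, by simp [m.two]⟩
  have N1 : ¬ Sc N := fun ⟨c, e⟩ => y1 (m.eq_one.2 ⟨s + c, by rw [hN, e, add_smul]⟩)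
  have eig : ∀ k ∈ C1[v], ∀ g, Ac ψ k g → ∃ c : F, g * N = c • (N * g) := fun k hk g a => by
    have := m.comm_of_odd o (m.eqv k A ▸ c k hk)
    rw [m.inn, mul_inv_eq_iff_eq_mul] at this
    replace this := congrArg mt this
    obtain ⟨b, c, e⟩ := commutant (X := mt (ψ k A) - s • 1) N1 (by
      rw [mt_mul, mt_mul, hN] at this
      simpa [mul_sub, sub_mul, mul_add, add_mul] using this.symm)
    have t1 : _ = (mt A).trace := tr_of_form (σ := 1) a.1 (a.2 A)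
    have t2 := congrArg trace e
    rw [tr_lin t, trace_sub, t1, hN] at t2
    obtain rfl : b = 0 := (mul_eq_zero.1 (by simpa [t] using t2.symm)).resolve_left m.two
    refine ⟨c, ?_⟩
    have := a.2 A
    rw [hN, sub_eq_iff_eq_add.1 e] at this
    simp only [mul_add, add_mul, smul_mul_assoc, mul_smul_comm, one_mul, mul_one] at this
    linear_combination (norm := module) -this
  have tor : ∀ w h, Ac ψ w h → N * h = h * N → φ A ∈ Tor φ ψ w := fun w h a e =>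
    m.mem_tor.2 (a.fix.2 (mem_Cm.2 (by simp [hN, mul_add, add_mul, e])))
  obtain ⟨g, a⟩ := I v hv
  have tg := m.tz a hv
  obtain ⟨c, e⟩ := eig v (mem_C1.2 rfl) g a
  have e1 : g * N = -(N * g) := by
    have : g * g * N = (c * c) • (N * (g * g)) := by
      rw [mul_assoc, e, mul_smul_comm, ← mul_assoc, e]; simp [smul_smul, mul_assoc]
    simp only [sq_of_tr tg.tr, smul_mul_assoc, mul_smul_comm, one_mul, mul_one, smul_smul] at this
    rcases mul_self_eq_one_iff.1 (mul_right_cancel₀ (neg_ne_zero.2 tg.det) ((smul_left_injective F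
      (fun e => N1 ⟨0, by simp [e]⟩) this).symm.trans (one_mul _).symm)) with rfl | rfl
    · exact absurd (tor v g a (by simpa using e.symm)) n
    · simpa using e
  have key : ∀ B, ψ v B = -B → φ A ∈ Tor φ ψ (φ B) ∨ φ A ∈ Tor φ ψ (v * φ B) := fun B b => by
    obtain ⟨c, e⟩ := eig _ (mem_C1.2 (m.anti_inv a b).2.2.symm) _ (m.ac B)
    exact (quat m.two tg (m.tz (m.ac B) (m.anti_inv a b).1) (a.anti.1 b) e1 e).imp (tor _ _ (m.ac B))
      (tor _ _ (a.mul (m.ac B)))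
  have ov : ∀ B, ψ v B = -B → orderOf (v * φ B) = 2 := fun B b =>
    have ⟨b1, b2, b3⟩ := m.anti_inv a b; ord_mul_comm hv b1 b2 b3
  obtain ⟨B, b⟩ := exists_anti m.two tg
  replace b := a.anti.2 b
  have le : Tor φ ψ v ≤ zpowers v := by
    rintro _ ⟨S, hS, rfl⟩
    have b' : ψ v (S * B) = -(S * B) := by rw [map_mul, b, show ψ v S = S from hS, mul_neg]
    rw [mem_zp2 (Inv.sq_of_ord2 hv)]
    rcases key B b with h | h <;> rcases key _ b' with h' | h'
    · exact .inl (by simpa using m.ti' I (m.anti_inv a b').1 (m.anti_inv a b).1 h' h y1)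
    · have := m.ti' I (ov _ b') (m.anti_inv a b).1 h' h y1
      rw [map_mul, ← mul_assoc, mul_eq_right] at this
      exact .inr (by rw [eq_inv_of_mul_eq_one_right this, Inv.inv_of_ord2 hv])
    · exact .inr (by simpa using m.ti' I (m.anti_inv a b').1 (ov _ b) h' h y1)
    · exact .inl (by simpa using m.ti' I (ov _ b') (ov _ b) h' h y1)
  have l2 : #(Tor φ ψ v) ≤ 2 := hv ▸ Nat.card_zpowers v ▸ card_le_of_le le
  have vE : v ∈ E := by_contra fun h => by have := c1 h; omega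
  obtain ⟨w, w1, w2, w3⟩ : ∃ w ∈ E, orderOf w = 2 ∧ φ A ∈ Tor φ ψ w := (key B b).elim
    (fun h => ⟨_, m.mem B, (m.anti_inv a b).1, h⟩) fun h => ⟨_, mul_mem vE (m.mem B), ov B b, h⟩
  have := Nat.le_of_dvd Nat.card_pos (orderOf_dvd_natCard _ w3)
  rw [c2 w w1 w2 vE] at this
  obtain ⟨k, hk⟩ := o
  exact y1 (orderOf_eq_one_iff.1 (by omega))

theorem mul_mem' (hv : orderOf v = 2) (hw : orderOf w = 2) (h1 : v ∉ E) (h2 : w ∉ E) : v * w ∈ E := by
  obtain ⟨g, a⟩ := I v hv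
  obtain ⟨h, b⟩ := I w hw
  rw [m.mem_iff a] at h1
  rw [m.mem_iff b] at h2
  rw [m.mem_iff (a.mul b), det_mul]; exact isSquare_mul_of_not h1 h2

/-- no field automorphisms -/
theorem mem_of_pow (q3 : 3 < Nat.card F) (hv : orderOf v = 2) {r : ℕ} (hr : r.Prime) (o : Odd r) {P : Subgroup Y}
    (hP : PiG {r} P) (hn : C1[v] ≤ N[P]) (hy : y ∈ P) (hc : y ∈ C1[v]) (h : y ^ r ∈ Tor φ ψ v) : y ∈ E := by
  by_contra n
  obtain ⟨g, a⟩ := I v hv
  have t := m.tz a hv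
  have oy : Odd (orderOf y) := odd_iff.1 ((hP.elt hy).mono (by rintro _ rfl; exact fun e => by simp_all [Nat.odd_iff]))
  obtain ⟨σ, s1, s2⟩ := m.tr y
  obtain ⟨S, hS, e⟩ := h
  have os : orderOf σ = r := by
    have := Fact.mk hr
    have : ∀ n A, (mt (ψ (y ^ n) A)).trace = (σ ^ n) (mt A).trace := fun n => by
      induction n with
      | zero => simp
      | succ n ih => intro A; rw [pow_succ', pow_succ', map_mul, MulAut.mul_apply, s1, ih]; rfl
    refine orderOf_eq_prime (RingEquiv.ext fun x => ?_) fun e => ?_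
    · obtain ⟨A, rfl⟩ := exists_tr x
      rw [← this, ← e, tr_of_form (σ := 1) (mt_ne S) ((m.ac S).2 A)]; rfl
    · obtain ⟨h, b⟩ := s2 fun x => by rw [e]; rfl
      have := (m.mem_iff (b.mul b)).2 ⟨_, det_mul _ _⟩
      obtain ⟨k, hk⟩ := oy
      have := pow_mem this (k + 1)
      rw [← sq, ← pow_mul, show 2 * (k + 1) = orderOf y + 1 by omega, pow_succ, pow_orderOf_eq_one, one_mul] at this
      exact n this
  obtain ⟨K, k1, k2⟩ := card_fix os
  obtain ⟨⟨A, hA⟩, gen⟩ := (t.cyc_Cm m.two).exists_generator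
  have gen' : ∀ B ∈ Cm g, B ∈ zpowers A := fun B h => by
    obtain ⟨k, e⟩ := gen ⟨B, h⟩; exact ⟨k, congrArg Subtype.val e⟩
  obtain ⟨k, hk⟩ := mem_zpowers_iff.1 (gen' (ψ y A) (a.fix.1 (by
    rw [← MulAut.mul_apply, ← map_mul, ← mem_C1.1 hc, map_mul, MulAut.mul_apply, a.fix.2 hA])))
  have p1 : ∀ n : ℕ, ψ (y ^ n) A = A ^ k ^ n := fun n => by
    induction n with
    | zero => simp
    | succ n ih => rw [pow_succ', map_mul, MulAut.mul_apply, ih, map_zpow, ← hk, ← _root_.zpow_mul, pow_succ']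
  have p2 : A ^ k ^ r = A := by
    obtain ⟨j, rfl⟩ := mem_zpowers_iff.1 (gen' S (a.fix.1 hS))
    rw [← p1, ← e, m.inn]; group
  have z : φ A ^ (k - 1) ∈ P := by
    have := mul_mem hy (conj_mem (hn (m.tor_le (m.mem_tor.2 (a.fix.2 hA))).2) (inv_mem hy))
    rwa [← mul_assoc, ← mul_assoc, ← m.eqv, ← hk, map_zpow, ← _root_.zpow_sub_one] at this
  obtain ⟨j, hj⟩ := (Nat.dvd_prime_pow hr).1 (orderOf_dvd_of_pow_eq_one ((hP.elt z).pow_eq_one hr).choose_spec)
  have z1 : (φ A ^ (k - 1)) ^ ∑ i ∈ Finset.range r, k ^ i = 1 := by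
    rw [← _root_.zpow_mul, mul_geom_sum, _root_.zpow_sub_one, ← map_zpow, p2, mul_inv_cancel]
  have z2 : (φ A ^ (k - 1)) ^ r = 1 := orderOf_dvd_iff_pow_eq_one.1 (by
    rw [hj.2]
    refine (pow_dvd_pow r (Nat.lt_succ_iff.1 (lt_of_not_ge fun h => geom_lem hr o k ?_))).trans (pow_one r).dvd
    have := orderOf_dvd_iff_zpow_eq_one.2 z1
    rw [hj.2] at this
    exact (pow_dvd_pow _ h).trans (by exact_mod_cast this))
  have f : ψ y (A ^ r) = A ^ r := m.comm_of_odd' oy (by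
    rw [← mul_inv_eq_iff_eq_mul, ← m.eqv, map_pow, ← hk, ← mul_inv_eq_one, map_pow, map_pow, map_zpow, ← z2,
      _root_.zpow_sub_one, ((Commute.refl _).zpow_left k).inv_right.mul_pow, inv_pow])
  have c1 := card_tr m.two t (L := zpowers (A ^ r)) (zpowers_le.2 (pow_mem hA r)) (K := K) fun B hB => k1 _ (by
    obtain ⟨i, rfl⟩ := mem_zpowers_iff.1 hB
    rw [← s1, map_zpow, f])
  have c2 : #(Cm g) ≤ r * #(zpowers (A ^ r)) := by
    rw [← le_antisymm (zpowers_le.2 hA) gen', Nat.card_zpowers, Nat.card_zpowers]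
    exact Nat.le_of_dvd (Nat.mul_pos hr.pos (orderOf_pos _)) (orderOf_dvd_of_pow_eq_one (by rw [pow_mul, pow_orderOf_eq_one]))
  have c3 := t.card_Cm m.two
  have c4 := (c2.trans (Nat.mul_le_mul_left r c1))
  have c5 : 3 ≤ Nat.card K := by
    have : ({0, 1, -1} : Set K).ncard = 3 := Set.ncard_eq_three.2 ⟨_, _, _, by simp, by simp, fun e =>
      m.two (by have := congrArg Subtype.val e; simp at this; linear_combination this), rfl⟩
    exact this ▸ Set.ncard_le_card _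
  have := pow_lem c5 (hr.two_le.lt_of_ne fun e => by simp [← e, Nat.odd_iff] at o)
  split_ifs at c3 <;> omega

theorem p1 (q3 : 3 < Nat.card F) (hv : orderOf v = 2) (c1 : v ∉ E → 2 < #(Tor φ ψ v))
    (c2 : ∀ w ∈ E, orderOf w = 2 → v ∈ E → #(Tor φ ψ w) = #(Tor φ ψ v)) [E.Normal] {Q : Subgroup Y} (o : Odd #Q)
    (hQ : Nil Q) (hn : C1[v] ≤ N[Q]) : Q ≤ Tor φ ψ v := by
  have oo : ∀ y ∈ Q, Odd (orderOf y) := fun y h => o.of_dvd_nat (orderOf_dvd_natCard Q h)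
  obtain ⟨g, a⟩ := I v hv
  have s1 : Q ⊓ E ≤ Tor φ ψ v := by
    by_cases e : Q ⊓ E = ⊥
    · simp [e]
    obtain ⟨y, hy, y1⟩ := (bot_or_exists_ne_one _).resolve_left ((hQ.of_le inf_le_left).Z_ne_bot e)
    have := m.mem_tor_of I hv c1 c2 hy.1.2 (oo y hy.1.1) fun k hk =>
      hy.2 _ (conj_mem (normI hn (norm_of_normal _) hk) hy.1)
    exact fun x hx => m.tor_of_comm a hv this (oo y hy.1.1) y1 hx.2 (hy.2 x hx)
  have s2 : Q ≤ C1[v] := fun x hx => by
    have v2 := Inv.inv_of_ord2 hv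
    have z1 : x * v * x⁻¹ * v ∈ Q := by
      simpa [mul_assoc, v2] using mul_mem hx (conj_mem (hn (mem_C1.2 rfl)) (inv_mem hx))
    have z2 : x * v * x⁻¹ * v ∈ E := by
      by_cases h : v ∈ E
      · exact mul_mem (Normal.conj_mem inferInstance v h x) h
      · exact m.mul_mem' I ((Inv.orderOf_conj' x v).trans hv) hv (fun f => h (by
          simpa [mul_assoc] using Normal.conj_mem inferInstance _ f x⁻¹)) h
    have z3 := mem_C1.1 (m.tor_le (s1 ⟨z1, z2⟩)).2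
    have z4 : orderOf (x * v * x⁻¹ * v) ∣ 2 := orderOf_dvd_of_pow_eq_one (by
      rw [sq, mul_assoc _ v, ← z3]; simp [mul_assoc, Inv.mul_mul_of_ord2 hv, Inv.sq_of_ord2 hv])
    have := orderOf_eq_one_iff.1 (((Nat.dvd_prime Nat.prime_two).1 z4).resolve_right fun e => by
      exact absurd (e ▸ oo _ z1) (by decide))
    exact mem_C1.2 (by rw [← mul_inv_eq_iff_eq_mul, eq_inv_of_mul_eq_one_left this, v2])
  refine (le_inf le_rfl (hQ.le_of_O fun r hr d y hy => ?_)).trans s1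
  obtain ⟨k, hk⟩ := ((O_pig _ _).elt hy).pow_eq_one hr
  have : y ^ r ^ k ∈ E := hk ▸ one_mem E
  clear hk
  induction k with
  | zero => simpa using this
  | succ k ih =>
    have h := pow_mem hy (r ^ k)
    exact ih (m.mem_of_pow I q3 hv hr (o.of_dvd_nat d) (O_pig _ _) (normO _ hn) h (s2 (O_le _ _ h))
      (s1 ⟨pow_mem (O_le _ _ h) r, by rwa [← pow_mul, ← pow_succ]⟩))

theorem l5 (hE : v ∈ E) (hv : orderOf v = 2) (hy : y ∈ Tor φ ψ v) (o : Odd (orderOf y)) (y1 : y ≠ 1) (hw : orderOf w = 2)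
    (wE : w ∈ E) {z : Y} (hz : z ∈ Tor φ ψ w) (z1 : z ≠ 1) {H : Subgroup Y} (oH : Odd #H) (h1 : y ∈ H) (h2 : z ∈ H) :
    w = v ∨ ∃ G W : SL(2, F), φ G = v ∧ φ W = w ∧ ∃ x : P1 F, (G : GL (Fin 2) F) • x = x ∧ (W : GL (Fin 2) F) • x = x := by
  obtain ⟨G, rfl⟩ := m.range.ge hE
  obtain ⟨W, rfl⟩ := m.range.ge wE
  obtain ⟨A, a, rfl⟩ := id hy
  obtain ⟨B, b, rfl⟩ := id hz
  have k : ∀ {G A : SL(2, F)} {x : P1 F}, orderOf (φ G) = 2 → φ A ≠ 1 → ψ (φ G) A = A → (A : GL (Fin 2) F) • x = x →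
      (G : GL (Fin 2) F) • x = x := fun {G A x} h1 h2 h3 h4 => by
    obtain ⟨b, c, -, e⟩ := (m.tz (m.ac G) h1).mem_Cm m.two ((m.ac G).fix.1 h3)
    exact fix_of_lin (by rintro rfl; exact h2 (m.eq_one.2 ⟨b, by simpa using e⟩)) e h4
  rcases m.odd_pair oH h1 h2 with e | ⟨x, e1, e2⟩
  · exact .inl (m.ti' I hw hv hz (m.tor_of_comm (m.ac G) hv hy o y1 (m.mem B) e.symm) z1)
  · exact .inr ⟨G, W, rfl, rfl, x, k hv y1 a e1, k hw z1 b e2⟩

omit I in
theorem l5' {i : F} (hi : -1 = i * i) (hE : v ∈ E) (hv : orderOf v = 2) : ∃ f₁ f₂ : F → Y, f₁ 0 = v ∧ f₂ 0 = v ∧ ∀ G W : SL(2, F),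
    φ G = v → orderOf (φ W) = 2 → ∀ x : P1 F, (G : GL (Fin 2) F) • x = x → (W : GL (Fin 2) F) • x = x →
      φ W ∈ Set.range f₁ ∪ Set.range f₂ := by
  obtain ⟨G, rfl⟩ := m.range.ge hE
  have d : ∀ b c : F, b * c = 0 → (!![i, b; c, -i] : M2 F).det = 1 := fun b c h => by simp [h, ← hi]
  obtain ⟨t, ht⟩ := isConj_iff.1 (isConj_of_sq_eq_neg_one m.two
    (sl2_sq_of_trace (A := mkS _ (d 0 0 (by simp))) (by simp [mkS, trace_fin_two])) (sl2_sq_of_trace (m.tz (m.ac G) hv).tr))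
  refine ⟨fun c => φ (t * mkS _ (d c 0 (by simp)) * t⁻¹), fun c => φ (t * mkS _ (d 0 c (by simp)) * t⁻¹),
    congrArg φ ht, congrArg φ ht, fun G' W e hW x h1 h2 => ?_⟩
  replace h1 : (G : GL (Fin 2) F) • x = x := by
    rcases m.eq.1 e with rfl | rfl
    · exact h1
    · exact fix_of_lin (b := 0) (c := -1) (by simp) (by simp) h1
  obtain ⟨W, rfl⟩ : ∃ W', W = t * W' * t⁻¹ := ⟨t⁻¹ * W * t, by group⟩
  obtain ⟨x, rfl⟩ : ∃ x', x = (t : GL (Fin 2) F) • x' := ⟨(t : GL (Fin 2) F)⁻¹ • x, by simp⟩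
  have tr := (m.tz (m.ac W) (by simpa [Inv.orderOf_conj'] using hW)).tr
  have dt := mt_det W
  rw [trace_fin_two] at tr
  rw [det_fin_two] at dt
  simp only [← ht, map_mul, map_inv, mul_smul, inv_smul_smul, smul_left_cancel_iff] at h1 h2
  have i0 : i ≠ 0 := by rintro rfl; simp at hi
  have k : mt W 0 1 * mt W 1 0 = 0 → ∃ b c : F, (mt W 0 1 = 0 → b = 0) ∧ (mt W 1 0 = 0 → c = 0) ∧ ∀ h,
      φ (t * mkS _ (d b c h) * t⁻¹) = φ (t * W * t⁻¹) := fun h => by
    rcases mul_self_eq_mul_self_iff.1 (show mt W 0 0 * mt W 0 0 = i * i by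
      linear_combination hi - dt + mt W 0 0 * tr - h) with e | e
    · refine ⟨_, _, id, id, fun h => congrArg (fun A => φ (t * A * t⁻¹)) (mt_inj.1 ?_)⟩
      ext i j; fin_cases i <;> fin_cases j <;> simp [e]; linear_combination e - tr
    · refine ⟨-mt W 0 1, -mt W 1 0, by simp, by simp, fun h => ?_⟩
      rw [← m.neg (t * W * t⁻¹), ← neg_mul, ← mul_neg]
      refine congrArg (fun A => φ (t * A * t⁻¹)) (mt_inj.1 ?_)
      ext i j; fin_cases i <;> fin_cases j <;> simp [e]; linear_combination e - tr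
  rcases p1_cases x with rfl | ⟨c, rfl⟩
  · have h : mt W 1 0 = 0 := smul_pinf_pinf.1 h2
    obtain ⟨b, c, -, h3, h4⟩ := k (by simp [h])
    obtain rfl := h3 h
    exact .inl ⟨b, h4 (by simp)⟩
  · obtain rfl : c = 0 := by
      have : i * c + 0 = (0 * c + -i) * c := smul_ppt_ppt.1 h1
      exact (mul_eq_zero.1 (by linear_combination this)).resolve_left (mul_ne_zero m.two i0)
    have h : mt W 0 1 = 0 := by simpa [mt] using smul_ppt_ppt.1 h2
    obtain ⟨b, c, h3, -, h4⟩ := k (by simp [h])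
    obtain rfl := h3 h
    exact .inr ⟨c, h4 (by simp)⟩

end Md

theorem exists_LT {Y : Type*} [Group Y] [Finite Y] {S : Subgroup Y} {t a b : Y} {l : ℕ}
    (h : DT S t a b l) (hS : Syl 2 S ⊤) {E : Subgroup Y} (hn : E.Normal) (hc : C[E] = ⊥)
    {F : Type} [Field F] [Fintype F] (ho : Odd (Fintype.card F)) (h3 : 3 < Fintype.card F)
    (e : E ≃* Matrix.ProjectiveSpecialLinearGroup (Fin 2) F) :
    ∃ q τ ε T, LT E q τ ε T := by
  classical
  have h2 : (2 : F) ≠ 0 := Ring.two_ne_zero fun e => by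
    have := FiniteField.even_card_of_char_two e; rw [Nat.odd_iff] at ho; omega
  obtain ⟨φ, ψ, m⟩ := exists_Md h2 hc e
  have I : ∀ v : Y, orderOf v = 2 → ∃ g, Ac ψ v g := fun v hv => m.ac_inv (fun V => h.rank2 hS hv) hv
  have sq := FiniteField.isSquare_neg_one_iff (F := F)
  have cE := card_PSL2 (F := F)
  rw [← Nat.card_congr e.toEquiv, ((gcd_two_cases _ (by omega)).resolve_right fun h => by
    rw [Nat.odd_iff] at ho; omega).2] at cE
  rw [← Nat.card_eq_fintype_card] at sq ho h3 cE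
  set q := Nat.card F
  obtain ⟨τ, ε, e1, e2, e3⟩ : ∃ (τ : ℕ) (ε : ℤ), (q : ℤ) = 2 * τ + ε ∧ Even τ ∧
      (ε = 1 ∧ IsSquare (-1 : F) ∨ ε = -1 ∧ ¬ IsSquare (-1 : F)) := by
    rw [Nat.odd_iff] at ho
    by_cases h : q % 4 = 3
    · exact ⟨2 * (q / 4 + 1), -1, by omega, by simp, .inr ⟨rfl, by simp [sq, h]⟩⟩
    · exact ⟨2 * (q / 4), 1, by omega, by simp, .inl ⟨rfl, sq.2 h⟩⟩
  have sm : ∀ {a b : F}, IsSquare a → a ≠ 0 → IsSquare (a * b) → IsSquare b := fun {a b} h1 h2 h3 => by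
    simpa [h2] using h1.inv.mul h3
  have cin : ∀ v ∈ E, orderOf v = 2 → #(Tor φ ψ v) = τ := fun v h hv => by
    obtain ⟨g, a⟩ := I v hv
    have c := m.card_tor a hv
    have s := (m.mem_iff a).1 h
    rcases e3 with ⟨e3, e4⟩ | ⟨e3, e4⟩
    · rw [if_pos (by simpa using e4.mul s)] at c; omega
    · rw [if_neg fun f => e4 (sm s a.1 (by simpa using f))] at c; omega
  have cout : ∀ v ∉ E, orderOf v = 2 → (#(Tor φ ψ v) : ℤ) = τ + ε := fun v h hv => by
    obtain ⟨g, a⟩ := I v hv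
    have c := m.card_tor a hv
    rw [m.mem_iff a] at h
    rcases e3 with ⟨e3, e4⟩ | ⟨e3, e4⟩
    · rw [if_neg fun f => h (sm e4 (by simp) (by simpa using f))] at c; omega
    · rw [if_pos (by simpa using isSquare_mul_of_not e4 h)] at c; omega
  refine ⟨q, τ, ε, Tor φ ψ, e3.imp And.left And.left, e1, h3, e2, ?_, fun v _ => m.tor_le, fun v hv => ?_,
    fun v h hv => ?_, cin, cout, fun v h hv => ?_, fun v h hv w hw n => ?_, fun v w hv hw n e y hy => ?_,
    fun v _ w _ hv hw y h1 h2 _ n => m.ti' I hv hw h1 h2 n, fun v g _ => m.tor_cj g, fun v hv Q o hQ hn => ?_,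
    fun v h1 w h2 hv hw => m.mul_mem' I hv hw h1 h2, fun v h hv y hy pr n2 => ?_⟩
  · have : (2 : ℤ) * #E = q * (q ^ 2 - 1) := by
      have := congrArg (Nat.cast : ℕ → ℤ) cE
      rwa [Nat.cast_mul, Nat.cast_mul, Nat.cast_sub (Nat.one_le_pow _ _ (by omega)), Nat.cast_pow] at this
    rcases e3 with ⟨rfl, -⟩ | ⟨rfl, -⟩ <;> rw [e1] at this ⊢ <;> linarith
  · obtain ⟨g, a⟩ := I v hv
    have := (m.tz a hv).cyc_Cm h2
    rw [a.tor]; exact Cyc.map this φ
  · obtain ⟨G, rfl⟩ := m.range.ge h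
    exact m.mem_tor.2 (by simp [m.inn])
  · obtain ⟨g, a⟩ := I v hv
    rw [m.card_C a hv, cin v h hv]
  · obtain ⟨g, a⟩ := I v hv
    obtain ⟨A, rfl⟩ := m.range.ge hw.1
    exact (m.anti_inv a ((m.comm_iff.1 (mem_C1.1 hw.2).symm).resolve_left fun e => n (m.mem_tor.2 e))).1
  · obtain ⟨g, a⟩ := I v hv
    obtain ⟨h, b⟩ := I w hw
    exact m.tor_inv a b hv hw n e hy
  · refine m.p1 I h3 hv (fun h => ?_) (fun w h1 h2 h => by rw [cin w h1 h2, cin v h hv]) o hQ hn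
    have := cout v h hv
    obtain ⟨k, rfl⟩ := e2
    rcases e3 with ⟨rfl, -⟩ | ⟨rfl, -⟩ <;> omega
  have y1 : y ≠ 1 := fun e => by simp [e, Nat.not_prime_one] at pr
  have L := fun w (hw : w ∈ {w | w ∈ E ∧ orderOf w = 2 ∧ ∃ z ∈ Tor φ ψ w, orderOf z = orderOf y ∧
      Odd #(zpowers y ⊔ zpowers z)}) => have ⟨z, z1, z2, z3⟩ := hw.2.2
    m.l5 I h hv hy (pr.odd_of_ne_two n2) y1 hw.2.1 hw.1 z1 (fun e => by simp [← z2, e, Nat.not_prime_one] at pr) z3
      (mem_sup_left (mem_zpowers y)) (mem_sup_right (mem_zpowers z))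
  rcases e3 with ⟨rfl, i, hi⟩ | ⟨rfl, e4⟩
  · obtain ⟨f, g, f0, g0, k⟩ := m.l5' hi h hv
    have := Set.ncard_le_ncard (t := Set.range f ∪ g '' {0}ᶜ) fun w hw => by
      rcases L w hw with rfl | ⟨G, W, a1, rfl, x, a2, a3⟩
      · exact .inl ⟨0, f0⟩
      rcases k G W a1 hw.2.1 x a2 a3 with a | ⟨c, a⟩
      · exact .inl a
      by_cases c0 : c = 0
      · exact .inl ⟨0, by rw [f0, ← g0, ← a, c0]⟩
      · exact .inr ⟨c, c0, a⟩
    have a1 := Set.ncard_union_le (Set.range f) (g '' {0}ᶜ)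
    have a2 : (Set.range f).ncard ≤ q := by
      rw [← Set.image_univ]; exact (Set.ncard_image_le (Set.toFinite _)).trans (Set.ncard_univ F).le
    have a3 := Set.ncard_image_le (f := g) (s := {0}ᶜ)
    have a4 := Set.ncard_add_ncard_compl ({0} : Set F)
    rw [Set.ncard_singleton] at a4
    omega
  · have := Set.ncard_le_ncard (t := {v}) fun w hw => (L w hw).resolve_right fun ⟨G, W, a1, _, x, a2, _⟩ =>
      e4 (sq_of_fixpt (m.tz (m.ac G) (a1 ▸ hv)).tr a2)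
    rw [Set.ncard_singleton] at this
    simpa using this

end Cfsg.Agent.GW
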