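import Cfsg.Agent.Class.Aut3
import Cfsg.Agent.Class.Dick6

/-! Two by two matrices: commutants, traceless matrices, automorphisms of `PSL₂(q)`. -/

set_option autoImplicit false
set_option linter.unusedVariables false
set_option linter.unusedSectionVars false

namespace Cfsg.Agent.GW

open Matrix Cfsg.Agent.Class
open scoped MatrixGroups

variable {F : Type*} [Field F]

abbrev M2 (F : Type*) := Matrix (Fin 2) (Fin 2) F

/-- the matrix of an element of `SL₂` -/
def mt (A : SL(2, F)) : M2 F := A.1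
@[simp] theorem mt_mul (A B : SL(2, F)) : mt (A * B) = mt A * mt B := rfl
@[simp] theorem mt_one : mt (1 : SL(2, F)) = 1 := rfl
@[simp] theorem mt_neg (A : SL(2, F)) : mt (-A) = -mt A := rfl
@[simp] theorem mt_det (A : SL(2, F)) : (mt A).det = 1 := A.2
theorem mt_inj {A B : SL(2, F)} : mt A = mt B ↔ A = B := Subtype.ext_iff.symm
theorem mt_ne (A : SL(2, F)) : (mt A).det ≠ 0 := by simp
def mkS (M : M2 F) (h : M.det = 1) : SL(2, F) := ⟨M, h⟩
@[simp] theorem mt_mkS (M : M2 F) (h : M.det = 1) : mt (mkS M h) = M := rfl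

/-- scalar matrices -/
def Sc (M : M2 F) : Prop := ∃ c : F, M = c • 1

/-- invertible traceless matrices -/
structure Tz (g : M2 F) : Prop where
  tr : g.trace = 0
  det : g.det ≠ 0

variable {g h M X N : M2 F} {a b c : F}

theorem ent (e : M = X) : M 0 0 = X 0 0 ∧ M 0 1 = X 0 1 ∧ M 1 0 = X 1 0 ∧ M 1 1 = X 1 1 := by simp [e]

theorem commutant (hM : ¬ Sc M) (e : M * X = X * M) : ∃ a b : F, X = a • 1 + b • M := by
  obtain ⟨e1, e2, e3, e4⟩ := ent e
  simp only [mul_apply, Fin.sum_univ_two] at e1 e2 e3 e4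
  obtain ⟨b, h1, h2, h3⟩ : ∃ b, X 0 1 = b * M 0 1 ∧ X 1 0 = b * M 1 0 ∧ X 0 0 - X 1 1 = b * (M 0 0 - M 1 1) := by
    by_cases h1 : M 0 1 = 0
    · by_cases h2 : M 1 0 = 0
      · have h3 : M 0 0 - M 1 1 ≠ 0 := fun h3 => hM ⟨M 0 0, by
          ext i j; fin_cases i <;> fin_cases j <;> simp [h1, h2]; linear_combination -h3⟩
        refine ⟨(X 0 0 - X 1 1) / (M 0 0 - M 1 1), ?_, ?_, by field_simp⟩
        · rw [h1, mul_zero]; exact (mul_eq_zero.1 (by linear_combination e2 + (X 0 0 - X 1 1) * h1)).resolve_left h3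
        · rw [h2, mul_zero]; exact (mul_eq_zero.1 (by linear_combination -e3 + (X 0 0 - X 1 1) * h2)).resolve_left h3
      · refine ⟨X 1 0 / M 1 0, ?_, by field_simp, ?_⟩ <;> field_simp
        · linear_combination -e1
        · linear_combination e3
    · refine ⟨X 0 1 / M 0 1, by field_simp, ?_, ?_⟩ <;> field_simp
      · linear_combination e1
      · linear_combination -e2
  refine ⟨X 0 0 - b * M 0 0, b, ?_⟩
  ext i j; fin_cases i <;> fin_cases j <;> simp [h1, h2]
  linear_combination -h3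

theorem sq_of_tr (h : g.trace = 0) : g * g = -g.det • 1 := by rw [mat2_sq, h]; simp

theorem det_lin (h : g.trace = 0) (a b : F) : (a • 1 + b • g).det = a ^ 2 + g.det * b ^ 2 := by
  rw [trace_fin_two] at h
  simp [det_fin_two]; linear_combination a * b * h

theorem tr_lin (h : g.trace = 0) (a b : F) : (a • 1 + b • g).trace = 2 * a := by
  simp [h, mul_comm]

theorem polar (h1 : g.trace = 0) (h2 : h.trace = 0) : g * h + h * g = (g * h).trace • 1 := by
  rw [trace_fin_two] at h1 h2
  ext i j; fin_cases i <;> fin_cases j <;> simp [mul_apply, trace_fin_two]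
  · linear_combination g 0 0 * h2 - h 1 1 * h1
  · linear_combination g 0 1 * h2 + h 0 1 * h1
  · linear_combination g 1 0 * h2 + h 1 0 * h1
  · linear_combination g 1 1 * h2 - h 0 0 * h1

theorem anti_of_tr (h1 : g.trace = 0) (h2 : h.trace = 0) (e : (g * h).trace = 0) : g * h = -(h * g) :=
  eq_neg_of_add_eq_zero_left (by rw [polar h1 h2, e, zero_smul])

theorem tr_of_sq (e : Sc (g * g)) (h : ¬ Sc g) : g.trace = 0 := by
  obtain ⟨c, e⟩ := e
  by_contra n
  refine h ⟨g.trace⁻¹ * (c + g.det), ?_⟩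
  rw [mul_smul, add_smul, ← e, mat2_sq, sub_add_cancel, smul_smul, inv_mul_cancel₀ n, one_smul]

theorem cancel_r (hg : g.det ≠ 0) (e : M * g = X * g) : M = X :=
  (isUnit_iff_isUnit_det g).2 hg.isUnit |>.mul_right_cancel e
theorem cancel_l (hg : g.det ≠ 0) (e : g * M = g * X) : M = X :=
  (isUnit_iff_isUnit_det g).2 hg.isUnit |>.mul_left_cancel e

theorem sc_of_comm (e : ∀ A : SL(2, F), mt A * g = g * mt A) : Sc g := by
  obtain ⟨a1, a2, a3, a4⟩ := ent (e (slU 1))
  obtain ⟨b1, b2, b3, b4⟩ := ent (e (slL 1))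
  simp [mul_apply, mt, slU_coe, slL_coe] at a1 a2 b1
  exact ⟨g 0 0, by ext i j; fin_cases i <;> fin_cases j <;> simp [a1, b1]; linear_combination a2⟩

variable (h2 : (2 : F) ≠ 0)
include h2

theorem Tz.nsc (h : Tz g) : ¬ Sc g := by
  rintro ⟨c, rfl⟩
  have := h.tr
  simp [h2] at this
  exact h.det (by simp [this])

theorem tr_of_anti (hg : g.det ≠ 0) (e : g * h = -(h * g)) : h.trace = 0 := by
  have : h = -(g⁻¹ * h * g) := cancel_l hg (by
    rw [e, mul_neg, ← mul_assoc, ← mul_assoc, mul_nonsing_inv _ hg.isUnit, one_mul])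
  have e2 := congrArg trace this
  rw [trace_neg, trace_mul_cycle, mul_nonsing_inv _ hg.isUnit, one_mul] at e2
  exact (mul_eq_zero.1 (by linear_combination e2)).resolve_left h2

/-- commuting traceless matrices are proportional -/
theorem Tz.prop (hg : Tz g) (hh : h.trace = 0) (e : g * h = h * g) : ∃ b : F, h = b • g := by
  obtain ⟨a, b, rfl⟩ := commutant (hg.nsc h2) e
  rw [tr_lin hg.tr] at hh
  exact ⟨b, by simp [(mul_eq_zero.1 hh).resolve_left h2]⟩

theorem exists_anti [Finite F] (hg : Tz g) : ∃ B : SL(2, F), g * mt B = -(mt B * g) := by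
  have t := hg.tr
  rw [trace_fin_two] at t
  obtain ⟨h, h1, h3⟩ : ∃ h : M2 F, g * h = -(h * g) ∧ h.det ≠ 0 := by
    have k : ∀ a b c : F, g 0 0 * a * 2 + g 0 1 * c + g 1 0 * b = 0 → a * a + b * c ≠ 0 →
        ∃ h : M2 F, g * h = -(h * g) ∧ h.det ≠ 0 := fun a b c e n => ⟨!![a, b; c, -a], anti_of_tr hg.tr
      (by simp [trace_fin_two]) (by simp [trace_fin_two, mul_apply]; linear_combination e - a * t),
        fun e => n (by rw [det_fin_two_of] at e; linear_combination -e)⟩
    by_cases y : g 0 1 = 0 <;> by_cases z : g 1 0 = 0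
    · exact k 0 1 1 (by simp [y, z]) (by simp)
    · exact k (g 1 0) (-2 * g 0 0) 0 (by ring) (by simpa)
    · exact k (g 0 1) 0 (-2 * g 0 0) (by ring) (by simpa)
    · exact k 0 (g 0 1) (-g 1 0) (by ring) (by simp [y, z])
  obtain ⟨x, y, e⟩ := binary_form_surj h2 (a := h.det) (b := 0) (c := h.det * g.det)
    (by simp [h3, hg.det, show (4 : F) = 2 * 2 by norm_num, h2]) 1
  refine ⟨mkS (h * (x • 1 + y • g)) (by rw [det_mul, det_lin hg.tr]; linear_combination e), ?_⟩
  rw [mt_mkS, ← mul_assoc, h1]; simp [mul_add, add_mul, mul_assoc, add_comm]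

/-- a common eigenvector of the conjugations by `g` and `h` -/
theorem quat (hg : Tz g) (hh : Tz h) (e : g * h = -(h * g)) (e1 : g * N = -(N * g)) (e2 : h * N = c • (N * h)) :
    N * h = h * N ∨ N * (g * h) = g * h * N := by
  obtain ⟨a, b, e3⟩ := commutant (X := N * h) (hg.nsc h2) (by
    rw [← mul_assoc, e1, mul_assoc, neg_mul, mul_assoc, e]; simp)
  have hs := sq_of_tr hh.tr
  have e4 : h * N = a • 1 - b • g := cancel_r hh.det (by
    rw [mul_assoc, e3]; simp [mul_add, add_mul, e, sub_eq_add_neg])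
  by_cases hb : b = 0
  · left; rw [e3, e4, hb]; simp
  right
  have e5 := e2
  rw [e3, e4] at e5
  have t := congrArg trace e5
  have : (a - c * a) • (1 : M2 F) = (b + c * b) • g := by
    linear_combination (norm := module) e5
  have k : b + c * b = 0 := by_contra fun n => hg.nsc h2 ⟨(b + c * b)⁻¹ * (a - c * a), by
    rw [mul_smul, this, smul_smul, inv_mul_cancel₀ n, one_smul]⟩
  have k1 : c = -1 := by
    have : b * (1 + c) = 0 := by linear_combination k
    linear_combination (mul_eq_zero.1 this).resolve_left hb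
  rw [k1] at e2
  rw [mul_assoc g, e2, ← mul_assoc, show N * g = -(g * N) by rw [e1, neg_neg]]; simp [mul_assoc]

theorem card_conic [Finite F] (d : F) (hd : d ≠ 0) :
    Nat.card {v : F × F // v.1 ^ 2 + d * v.2 ^ 2 = 1} + Nat.card {t : F // d * t ^ 2 = -1} = Nat.card F + 1 := by
  classical
  have h1 := card_and_ne_add_one (p := fun v : F × F => v.1 ^ 2 + d * v.2 ^ 2 = 1) (a := (-1, 0)) (by simp)
  have h3 : ∀ v : F × F, v ≠ (-1, 0) ∧ v.1 ^ 2 + d * v.2 ^ 2 = 1 → 1 + v.1 ≠ 0 := fun v hv h => by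
    have h4 : v.1 = -1 := by linear_combination h
    exact hv.1 (Prod.ext h4 (pow_eq_zero_iff two_ne_zero |>.1 ((mul_eq_zero.1 (by
      linear_combination hv.2 - (v.1 - 1) * h)).resolve_left hd)))
  have h4 : ∀ t : F, ¬ d * t ^ 2 = -1 → 1 + d * t ^ 2 ≠ 0 := fun t ht h => ht (by linear_combination h)
  have e : {v : F × F // v ≠ (-1, 0) ∧ v.1 ^ 2 + d * v.2 ^ 2 = 1} ≃ {t : F // ¬ d * t ^ 2 = -1} :=
    { toFun v := ⟨v.1.2 / (1 + v.1.1), fun h => by
        have := h3 _ v.2
        field_simp at h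
        exact mul_ne_zero h2 this (by linear_combination h - v.2.2)⟩
      invFun t := ⟨((1 - d * t.1 ^ 2) / (1 + d * t.1 ^ 2), 2 * t.1 / (1 + d * t.1 ^ 2)), fun h => by
        have := h4 _ t.2
        have h5 := congrArg Prod.fst h
        field_simp at h5
        exact h2 (by linear_combination h5), by
        have := h4 _ t.2
        field_simp; ring⟩
      left_inv v := by
        have h5 := h3 _ v.2
        have h6 : 1 + d * (v.1.2 / (1 + v.1.1)) ^ 2 = 2 / (1 + v.1.1) := by
          field_simp; linear_combination v.2.2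
        ext <;> simp only [h6] <;> field_simp
        linear_combination -v.2.2
      right_inv t := by
        have := h4 _ t.2
        have h6 : 1 + (1 - d * t.1 ^ 2) / (1 + d * t.1 ^ 2) = 2 / (1 + d * t.1 ^ 2) := by field_simp; ring
        ext; simp only [h6]; rw [div_div_div_cancel_right₀ this, mul_div_cancel_left₀ _ h2] }
  rw [← h1, Nat.card_congr e, ← Nat.card_congr (Equiv.sumCompl fun t : F => d * t ^ 2 = -1), Nat.card_sum]
  omega

open Classical in
theorem card_sq (d : F) (hd : d ≠ 0) : Nat.card {t : F // d * t ^ 2 = -1} = if IsSquare (-d) then 2 else 0 := by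
  split_ifs with h
  · obtain ⟨i, hi⟩ := h
    have i0 : i ≠ 0 := by rintro rfl; simp [hd] at hi
    have hd' : d = -(i * i) := by rw [← hi, neg_neg]
    rw [Nat.card_eq_two_iff]
    refine ⟨⟨i⁻¹, by rw [hd']; field_simp⟩, ⟨-i⁻¹, by rw [hd']; field_simp⟩, fun h => ?_, ?_⟩
    · have h3 : i⁻¹ = -i⁻¹ := congrArg Subtype.val h
      exact inv_ne_zero i0 ((mul_eq_zero.1 (by linear_combination h3)).resolve_left h2)
    · rw [Set.eq_univ_iff_forall]
      rintro ⟨t, ht⟩
      simpa [Subtype.ext_iff] using sq_eq_sq_iff_eq_or_eq_neg.1 (show t ^ 2 = i⁻¹ ^ 2 by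
        rw [hd'] at ht; field_simp; linear_combination -ht)
  · have : IsEmpty {t : F // d * t ^ 2 = -1} := ⟨fun t => h ⟨d * t.1, by linear_combination -d * t.2⟩⟩
    simp

omit h2 in
/-- the elements of `SL₂` commuting with `g` -/
def Cm (g : M2 F) : Subgroup SL(2, F) where
  carrier := {A | mt A * g = g * mt A}
  one_mem' := by simp
  mul_mem' := fun {A B} hA hB => by
    simp only [Set.mem_ofPred_eq, mt_mul] at *
    rw [mul_assoc, hB, ← mul_assoc, hA, mul_assoc]
  inv_mem' := fun {A} hA => cancel_l (mt_ne A) (by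
    have : mt A * mt A⁻¹ = 1 := by rw [← mt_mul]; simp
    rw [← mul_assoc, ← mul_assoc, hA, mul_assoc g, this]; simp)

omit h2 in
theorem mem_Cm {A : SL(2, F)} : A ∈ Cm g ↔ mt A * g = g * mt A := Iff.rfl

theorem Tz.mem_Cm (hg : Tz g) {A : SL(2, F)} (h : A ∈ Cm g) :
    ∃ a b : F, a ^ 2 + g.det * b ^ 2 = 1 ∧ mt A = a • 1 + b • g :=
  have ⟨a, b, e⟩ := commutant (hg.nsc h2) (Eq.symm h)
  ⟨a, b, by rw [← det_lin hg.tr, ← e, mt_det], e⟩

theorem Tz.lin_inj (hg : Tz g) {a' b' : F} (e : a • (1 : M2 F) + b • g = a' • 1 + b' • g) : a = a' ∧ b = b' := by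
  have t := congrArg trace e
  rw [tr_lin hg.tr, tr_lin hg.tr] at t
  obtain rfl := mul_left_cancel₀ h2 t
  exact ⟨rfl, smul_left_injective F (fun h => hg.det (by simp [h])) (add_left_cancel e)⟩

open Classical in
theorem Tz.card_Cm [Finite F] (hg : Tz g) :
    Nat.card (Cm g) + (if IsSquare (-g.det) then 2 else 0) = Nat.card F + 1 := by
  rw [← card_sq h2 _ hg.det, ← card_conic h2 _ hg.det]
  congr 1
  refine Nat.card_congr (Equiv.ofBijective (fun v => ⟨mkS (v.1.1 • 1 + v.1.2 • g) ((det_lin hg.tr _ _).trans v.2),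
    show _ * g = g * _ by simp [mul_add, add_mul]⟩) ⟨fun v w h => ?_, fun A => ?_⟩).symm
  · have := hg.lin_inj h2 (congrArg (fun A => mt A.1) h)
    exact Subtype.ext (Prod.ext this.1 this.2)
  · obtain ⟨a, b, e1, e2⟩ := hg.mem_Cm h2 A.2
    exact ⟨⟨(a, b), e1⟩, Subtype.ext (mt_inj.1 e2.symm)⟩

theorem Tz.cyc_Cm [Finite F] (hg : Tz g) : IsCyclic (Cm g) := by
  obtain ⟨s, hs⟩ := IsAlgClosed.exists_eq_mul_self (algebraMap F (AlgebraicClosure F) (-g.det))
  set j := algebraMap F (AlgebraicClosure F)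
  choose a b e1 e2 using fun A : Cm g => hg.mem_Cm h2 A.2
  have j2 : (2 : AlgebraicClosure F) ≠ 0 := by rw [← map_ofNat j]; exact (map_ne_zero j).2 h2
  refine isCyclic_of_injective_ringHom (R := AlgebraicClosure F) ⟨⟨fun A => j (a A) + j (b A) * s, ?_⟩, fun A B => ?_⟩
    ((injective_iff_map_eq_one _).2 fun A h => ?_)
  · have := hg.lin_inj h2 ((e2 1).symm.trans (show _ = (1 : F) • 1 + (0 : F) • g by simp))
    simp [this.1, this.2]
  · have := hg.lin_inj h2 ((e2 (A * B)).symm.trans (show _ = (a A * a B - g.det * b A * b B) • 1 +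
      (a A * b B + b A * a B) • g by
        rw [Subgroup.coe_mul, mt_mul, e2, e2]
        simp only [mul_add, add_mul, smul_mul_smul_comm, sq_of_tr hg.tr, one_mul, mul_one]; module))
    simp only [this.1, this.2, map_sub, map_add, map_mul, map_neg] at hs ⊢
    linear_combination j (b A) * j (b B) * hs
  · replace h : j (a A) + j (b A) * s = 1 := h
    have e := congrArg j (e1 A)
    simp only [map_add, map_mul, map_pow, map_one, map_neg] at e hs
    have k : j (a A) = 1 := mul_left_cancel₀ j2 (by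
      linear_combination e + (1 - j (a A) + j (b A) * s) * h + j (b A) ^ 2 * hs)
    have k1 : a A = 1 := j.injective (by rw [k, map_one])
    have k2 : b A = 0 := pow_eq_zero_iff two_ne_zero |>.1 ((mul_eq_zero.1 (by
      linear_combination e1 A - (a A + 1) * k1)).resolve_left hg.det)
    exact Subtype.ext (mt_inj.1 (by rw [e2, k1, k2]; simp))

end Cfsg.Agent.GW
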