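import Cfsg.Agent.GW.LT1

/-! Automorphisms of `PSL₂(q)` and their lifts to `SL₂(q)`. -/

set_option autoImplicit false
set_option linter.unusedVariables false
set_option linter.unusedSectionVars false

namespace Cfsg.Agent.GW

open Matrix Cfsg.Agent.Class
open scoped MatrixGroups

variable {F : Type*} [Field F] [Finite F]

theorem psl_aut (α : MulAut PSL(2, F)) : ∃ (β : MulAut SL(2, F)), (∀ A : SL(2, F), α A = β A) ∧
    ∃ (g : M2 F) (σ : RingAut F), g.det ≠ 0 ∧ ∀ A, mt (β A) * g = g * (mt A).map σ := by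
  obtain ⟨p, hc⟩ := CharP.exists F
  have := Fact.mk (CharP.char_is_prime F p)
  obtain ⟨f, -, hF⟩ := exists_card_pow (F := F) (p := p)
  have hP := pack_SLV (F := F) (V := Fin 2 → F) (p := p) (by simp)
  have hall : ∀ (φ : MulAut ((Fin 2 → F) ≃ₗ[F] (Fin 2 → F))), ∀ g ∈ SLV F (Fin 2 → F), φ g ∈ SLV F (Fin 2 → F) :=
    fun φ g hg => (uGen_SLV (p := p)).map_mem φ (fun g _ ug => (ug.map φ.toMonoidHom).mem_SLV) hg
  have hS : ∀ a ∈ (⊤ : Subgroup (GamL F (Fin 2 → F))), ∀ g ∈ SLV F (Fin 2 → F),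
    GamL.conj a g ∈ SLV F (Fin 2 → F) := fun a _ => hall _
  have h1 := card_range_autHom (hS := hS) hP uGen_SLV fun _ => trivial
  rw [GamL.card_eq ⊤ fun ρ => ⟨coordG _ ρ, trivial, rfl⟩, card_ringAut hF, Subgroup.comap_top,
    Subgroup.card_top, ← Nat.card_congr glEquiv.toEquiv, ← card_units_mul_card_SL,
    Nat.card_units, mul_left_comm] at h1
  have h2 := Nat.eq_of_mul_eq_mul_left (by have := Finite.one_lt_card (α := F); omega) h1
  have : Finite ((Fin 2 → F) ≃ₗ[F] (Fin 2 → F)) := Finite.of_injective _ DFunLike.coe_injective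
  have h3 := Subgroup.eq_top_of_card_eq _ (h2.symm.trans (by
    rw [card_mulAut_SLV hF (by simp)]; simp))
  let e := equivOfRange (slLin (Fin 2) F) slLin_injective slLin_range
  obtain ⟨a, ha⟩ := h3.ge (Subgroup.mem_top (((quotCenterCongr e).symm.trans α).trans (quotCenterCongr e)))
  obtain ⟨l, hl⟩ := GamL.range_ofLin.ge (show a.1 * (coordG _ a.1.ρ)⁻¹ ∈ GamL.fld.ker by
    rw [MonoidHom.mem_ker, map_mul, map_inv]; exact mul_inv_cancel _)
  obtain ⟨g, rfl⟩ := glEquiv.surjective l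
  have hT : ∀ x, a.1.T x = g.1 *ᵥ fun i => a.1.ρ (x i) := fun x => by
    exact congrArg (fun b => b.T x) (mul_inv_eq_iff_eq_mul.1 hl.symm)
  set r := resMulAut (GamL.conj.comp (Subgroup.subtype _)) _ (fun a => hS a a.2) a
  refine ⟨(e.trans r).trans e.symm,
    fun A => (quotCenterCongr e).injective ?_, g.1, a.1.ρ, g.det_ne_zero, fun A => ?_⟩
  · have := DFunLike.congr_fun ha (quotCenterCongr e A)
    simp only [MulEquiv.trans_apply, MulEquiv.symm_apply_apply] at this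
    rw [← this]
    show (QuotientGroup.mk (r (e A)) : PQ _) = QuotientGroup.mk (e (e.symm (r (e A))))
    rw [e.apply_symm_apply]
  · have k : ∀ x, mt (e.symm (r (e A))) *ᵥ a.1.T x = a.1.T (mt A *ᵥ x) := fun x => by
      have : (e (e.symm (r (e A))) : (Fin 2 → F) ≃ₗ[F] (Fin 2 → F)) (a.1.T x) = a.1.T (mt A *ᵥ x) := by
        rw [e.apply_symm_apply]; exact GamL.conj_T a.1 _ x
      exact this
    ext i j
    have := congrFun (k (Pi.single j 1)) i
    rw [hT, hT] at this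
    fin_cases j <;> simpa [mul_apply, mulVec, dotProduct] using this

theorem lift_uniq (h2 : (2 : F) ≠ 0) {α β : SL(2, F) →* SL(2, F)} (h : ∀ A, β A = α A ∨ β A = -α A) : α = β := by
  obtain ⟨p, hc⟩ := CharP.exists F
  have := Fact.mk (CharP.char_is_prime F p)
  have o : Odd p := this.out.odd_of_ne_two fun e => h2 ((two_eq_zero_iff p).2 e)
  have k : ∀ U : SL(2, F), U ^ p = 1 → α U = β U := fun U e => (h U).elim Eq.symm fun e1 => by
    have := congrArg (· ^ p) e1
    simp only [← map_pow, e, map_one, ← neg_one_mul (α U), ((Commute.neg_one_left _).mul_pow), o.neg_one_pow, mul_one] at this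
    exact absurd this.symm (sl2_neg_one_ne h2)
  exact MonoidHom.ext fun A => (SL2_eq_top (α.eqLocus β) (fun a => k _ (by simp [slU_pow, slU_zero]))
    fun a => k _ (by simp [slL_pow, slL_zero])).ge (Subgroup.mem_top A)

variable {Y : Type*} [Group Y]

/-- `E ⊴ Y` is `PSL₂(F)`, and the action of `Y` on it is lifted to `SL₂(F)` -/
structure Md (E : Subgroup Y) (φ : SL(2, F) →* Y) (ψ : Y →* MulAut SL(2, F)) : Prop where
  two : (2 : F) ≠ 0
  range : φ.range = E
  eq : ∀ {A B}, φ A = φ B ↔ B = A ∨ B = -A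
  eqv : ∀ y A, φ (ψ y A) = y * φ A * y⁻¹
  form : ∀ y, ∃ (g : M2 F) (σ : RingAut F), g.det ≠ 0 ∧ ∀ A, mt (ψ y A) * g = g * (mt A).map σ
  inj : Function.Injective ψ
  inn : ∀ A B, ψ (φ A) B = A * B * A⁻¹

theorem exists_Md (h2 : (2 : F) ≠ 0) {E : Subgroup Y} [E.Normal] (hc : Subgroup.centralizer (E : Set Y) = ⊥)
    (e : E ≃* PSL(2, F)) : ∃ (φ : SL(2, F) →* Y) (ψ : Y →* MulAut SL(2, F)), Md E φ ψ := by
  let φ : SL(2, F) →* Y := E.subtype.comp (e.symm.toMonoidHom.comp (QuotientGroup.mk' _))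
  have h1 : ∀ {A B}, φ A = φ B ↔ B = A ∨ B = -A := fun {A B} =>
    (E.subtype_injective.comp e.symm.injective).eq_iff.trans psl_eq_iff
  have h3 : φ.range = E := by
    ext x
    refine ⟨by rintro ⟨A, rfl⟩; exact (e.symm _).2, fun hx => ?_⟩
    obtain ⟨A, hA⟩ := QuotientGroup.mk_surjective (e ⟨x, hx⟩)
    exact ⟨A, by simp [φ, hA]⟩
  choose ψ a b using fun y : Y => psl_aut ((e.symm.trans (MulAut.conjNormal y)).trans e)
  have c : ∀ y A, φ (ψ y A) = y * φ A * y⁻¹ := fun y A => by simp [φ, ← a]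
  have u : ∀ {α β : MulAut SL(2, F)}, (∀ A, φ (α A) = φ (β A)) → α = β := fun {α β} h => MulEquiv.toMonoidHom_injective
    (lift_uniq h2 fun A => h1.1 (h A))
  refine ⟨φ, MonoidHom.mk' ψ fun x y => u fun A => by simp [c, mul_assoc], h2, h3, h1, c, b,
    (injective_iff_map_eq_one _).2 fun y hy => ?_, fun A B => DFunLike.congr_fun (u (α := ψ (φ A))
      (β := MulAut.conj A) fun B => by simp [c]) B⟩
  refine Subgroup.mem_bot.1 (hc ▸ fun x hx => ?_)
  obtain ⟨A, rfl⟩ := h3.ge hx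
  have := c y A
  rw [show ψ y = 1 from hy] at this
  exact (eq_mul_inv_iff_mul_eq.1 this)

end Cfsg.Agent.GW
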