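import Cfsg.Agent.GW.Base

/-! Groups with dihedral Sylow 2-subgroups: what is used about `PSL(2, q)` and `A₇`. -/

set_option autoImplicit false
set_option linter.unusedVariables false
set_option linter.unusedSectionVars false

namespace Cfsg.Agent.GW

open Cfsg Cfsg.Agent.BG Cfsg.Agent.Dih Subgroup PHom

variable {Y : Type*} [Group Y]

/-- The facts used about a group `Y` with dihedral Sylow 2-subgroups and a normal subgroup
`E ≅ PSL(2, q)` with trivial centralizer; `T v` is the torus of `E` attached to the involution `v`. -/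
structure LT (E : Subgroup Y) (q τ : ℕ) (ε : ℤ) (T : Y → Subgroup Y) : Prop where
  eps : ε = 1 ∨ ε = -1
  qeq : (q : ℤ) = 2 * τ + ε
  q3 : 3 < q
  ev : Even τ
  cardE : (#E : ℤ) = 2 * q * τ * (τ + ε)
  le : ∀ v, orderOf v = 2 → T v ≤ E ⊓ C1[v]
  cyc : ∀ v, orderOf v = 2 → Cyc (T v)
  mem : ∀ v ∈ E, orderOf v = 2 → v ∈ T v
  cin : ∀ v ∈ E, orderOf v = 2 → #(T v) = τ
  cout : ∀ v ∉ E, orderOf v = 2 → (#(T v) : ℤ) = τ + ε
  cC : ∀ v ∈ E, orderOf v = 2 → #(E ⊓ C1[v]) = 2 * τ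
  out : ∀ v ∈ E, orderOf v = 2 → ∀ w ∈ E ⊓ C1[v], w ∉ T v → orderOf w = 2
  inv : ∀ v w, orderOf v = 2 → orderOf w = 2 → v ≠ w → v * w = w * v →
    ∀ y ∈ T v, w * y * w⁻¹ = y⁻¹
  ti : ∀ v ∈ E, ∀ w ∈ E, orderOf v = 2 → orderOf w = 2 → ∀ y ∈ T v, y ∈ T w →
    Odd (orderOf y) → y ≠ 1 → v = w
  cj : ∀ v g, orderOf v = 2 → T (g * v * g⁻¹) = cj g (T v)
  p1 : ∀ v, orderOf v = 2 → ∀ Q : Subgroup Y, Odd #Q → Nil Q → C1[v] ≤ N[Q] → Q ≤ T v
  mul : ∀ v ∉ E, ∀ w ∉ E, orderOf v = 2 → orderOf w = 2 → v * w ∈ E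
  l5 : ∀ v ∈ E, orderOf v = 2 → ∀ y ∈ T v, (orderOf y).Prime → orderOf y ≠ 2 →
    (({w | w ∈ E ∧ orderOf w = 2 ∧ ∃ z ∈ T w, orderOf z = orderOf y ∧
      Odd #(zpowers y ⊔ zpowers z)}.ncard : ℕ) : ℤ) ≤ 1 + (1 + ε) * (q - 1)

/-- The facts used about a group `Y` with dihedral Sylow 2-subgroups and a normal subgroup
`E ≅ A₇` with trivial centralizer. -/
structure A7T (E : Subgroup Y) : Prop where
  inn : ∀ v, orderOf v = 2 → v ∈ E
  cyc : ∀ v, orderOf v = 2 → ∀ Q ≤ E ⊓ C1[v], Odd #Q → Cyc Q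
  p1 : ∀ v, orderOf v = 2 → ∀ Q : Subgroup Y, Odd #Q → C1[v] ≤ N[Q] →
    ∃ w, orderOf w = 2 ∧ w ≠ v ∧ w * v = v * w ∧ Q ≤ C1[v] ⊓ C1[w]

/-- every four-group centralized by an involution contains it -/
theorem DT.rank2 [Finite Y] {S : Subgroup Y} {t a b : Y} {l : ℕ} (h : DT S t a b l)
    (hS : Syl 2 S ⊤) {v : Y} (hv : orderOf v = 2) {V : Subgroup Y} (hV : IsKleinFour V)
    (hc : V ≤ C1[v]) : v ∈ V := by
  have p2 : PiG {2} V := pig_of_card_pow (n := 2) Nat.prime_two hV.card_four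
  obtain ⟨g, -, e⟩ := hS.cj_sub Nat.prime_two (U := V ⊔ zpowers v) le_top
    (p2.sup_r (pig2 hv) (norm_zpowers hc))
  have k : IsKleinFour (BG.cj g V) := by
    have := (cjEquiv g V).symm
    exact ⟨by rw [Nat.card_congr this.toEquiv, hV.card_four],
      by rw [Monoid.exponent_eq_of_mulEquiv this, hV.exponent_two]⟩
  rw [← mem_cj_conj (g := g)]
  refine h.dh.kf_centralizer k ((map_mono le_sup_left).trans e)
    ⟨e (mem_cj_conj.2 (mem_sup_right (mem_zpowers v))), ?_⟩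
  have : g * v * g⁻¹ ∈ BG.cj g C[V] := mem_cj_conj.2 (le_C1_iff.1 hc)
  rwa [cj_C] at this

end Cfsg.Agent.GW
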