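import Cfsg.Agent.GW.LT2
import Cfsg.Agent.GW.Mod

/-! Involutions acting on `PSL₂(q)`. -/

set_option autoImplicit false
set_option linter.unusedVariables false
set_option linter.unusedSectionVars false

namespace Cfsg.Agent.GW

open Matrix Cfsg.Agent.Class Cfsg.Agent.BG Subgroup
open scoped MatrixGroups

variable {F : Type*} [Field F] [Finite F]

theorem sq_of_fix (h2 : (2 : F) ≠ 0) {σ : RingAut F} (h : ∀ x, σ (σ x) = x) {l : F} (hl : σ l ≠ l) {x : F}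
    (hx : σ x = x) : IsSquare x := by
  let K := RingHom.eqLocusField (σ : F →+* F) (RingHom.id F)
  have m0 : l - σ l ≠ 0 := sub_ne_zero.2 hl.symm
  have m1 : σ (l - σ l) = -(l - σ l) := by simp [h]
  by_cases s : IsSquare (⟨x, hx⟩ : K)
  · exact s.map K.subtype
  obtain ⟨y, e⟩ := isSquare_mul_of_not s (b := ⟨(l - σ l) * (l - σ l), show σ _ = _ by rw [map_mul, m1, neg_mul_neg]; rfl⟩) fun ⟨y, e⟩ => by
    have y1 : σ y = y := y.2
    refine mul_ne_zero h2 m0 ?_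
    rcases mul_self_eq_mul_self_iff.1 (congrArg Subtype.val e : (l - σ l) * (l - σ l) = y * y) with e | e <;>
      rw [e] at m1 ⊢ <;> simp only [map_neg, y1] at m1 <;> linear_combination m1
  have e1 : x * ((l - σ l) * (l - σ l)) = y * y := congrArg Subtype.val e
  exact ⟨y / (l - σ l), by field_simp; linear_combination e1⟩

theorem descent (h2 : (2 : F) ≠ 0) {σ : RingAut F} (h : ∀ x, σ (σ x) = x) {l : F} (hl : σ l ≠ l) {θ : M2 F → M2 F}
    (a1 : ∀ M N, θ (M + N) = θ M + θ N) (a2 : ∀ c M, θ (c • M) = σ c • θ M) (a3 : ∀ M, θ (θ M) = M)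
    (a4 : ∀ M, (θ M).det = σ M.det) {P : Submodule F (M2 F)} (hP : ∀ M ∈ P, θ M ∈ P) {M : M2 F} (hM : M ∈ P)
    (hd : M.det ≠ 0) : ∃ A : SL(2, F), mt A ∈ P ∧ (θ (mt A) = mt A ∨ θ (mt A) = -mt A) := by
  obtain ⟨X, x1, x2, x3⟩ : ∃ X ∈ P, θ X = X ∧ X.det ≠ 0 := by
    by_contra! n
    have p1 := P.add_mem hM (hP M hM)
    have p2 := P.add_mem (P.smul_mem l hM) (hP _ (P.smul_mem l hM))
    have f : ∀ M, θ (M + θ M) = M + θ M := fun M => by rw [a1, a3, add_comm]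
    have d1 := n _ p1 (f _)
    have d2 := n _ p2 (f _)
    have d3 := n _ (P.add_mem p1 p2) (by rw [a1, f, f])
    rw [a2] at d2 d3
    simp only [det_fin_two, Matrix.add_apply, Matrix.smul_apply, smul_eq_mul] at d1 d2 d3 hd
    exact mul_ne_zero (pow_ne_zero 2 (sub_ne_zero.2 hl)) hd (by
      linear_combination (σ l ^ 2 + σ l) * d1 + (1 + σ l) * d2 - σ l * d3)
  obtain ⟨s, hs⟩ := sq_of_fix h2 h hl (x := X.det) (by rw [← a4, x2])
  have s0 : s ≠ 0 := by rintro rfl; simp [hs] at x3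
  refine ⟨mkS (s⁻¹ • X) (by simp [hs]; field_simp), P.smul_mem _ x1, ?_⟩
  rw [mt_mkS, a2, x2, map_inv₀]
  exact (mul_self_eq_mul_self_iff.1 (show σ s * σ s = s * s by rw [← map_mul, ← hs, ← a4, x2])).imp
    (fun e => by rw [e]) fun e => by rw [e, inv_neg, neg_smul]

theorem exists_tr (x : F) : ∃ A : SL(2, F), (mt A).trace = x :=
  ⟨mkS !![x, -1; 1, 0] (by simp), by simp [trace_fin_two]⟩

theorem tr_of_form {g M N : M2 F} (hg : g.det ≠ 0) {σ : RingAut F} (h : M * g = g * N.map σ) : M.trace = σ N.trace := by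
  have : M = g * N.map σ * g⁻¹ := by rw [← h, mul_assoc, mul_nonsing_inv _ hg.isUnit, mul_one]
  rw [this, trace_mul_cycle, nonsing_inv_mul _ hg.isUnit, one_mul]; simp [trace_fin_two]

theorem sl_ne_neg (h2 : (2 : F) ≠ 0) (A : SL(2, F)) : A ≠ -A := fun e =>
  sl2_neg_one_ne h2 (mul_left_cancel (a := A) (by rw [mul_neg, mul_one, ← e]))

theorem aut_neg (h2 : (2 : F) ≠ 0) (α : MulAut SL(2, F)) (A : SL(2, F)) : α (-A) = -α A := by
  rw [← neg_one_mul, map_mul, (sl2_sq_eq_one h2 (A := α (-1)) (by rw [← map_mul]; simp)).resolve_left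
    fun e => sl2_neg_one_ne h2 (by simpa using e), neg_one_mul]

variable {Y : Type*} [Group Y] [Finite Y]

theorem ord_mul_comm {v w : Y} (hv : orderOf v = 2) (hw : orderOf w = 2) (n : v ≠ w) (e : v * w = w * v) :
    orderOf (v * w) = 2 := Inv.ord2_iff.2 ⟨by
  rw [mul_assoc, ← mul_assoc w, ← e, mul_assoc, Inv.sq_of_ord2 hw, mul_one, Inv.sq_of_ord2 hv],
    fun e => n (by rw [eq_inv_of_mul_eq_one_left e, Inv.inv_of_ord2 hw])⟩

/-- `y` acts as conjugation by the matrix `g` -/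
def Ac (ψ : Y →* MulAut SL(2, F)) (y : Y) (g : M2 F) : Prop := g.det ≠ 0 ∧ ∀ A, mt (ψ y A) * g = g * mt A

/-- the torus of `v` -/
def Tor (φ : SL(2, F) →* Y) (ψ : Y →* MulAut SL(2, F)) (v : Y) : Subgroup Y :=
  ((ψ v).toMonoidHom.eqLocus (MonoidHom.id _)).map φ

variable {E : Subgroup Y} {φ : SL(2, F) →* Y} {ψ : Y →* MulAut SL(2, F)} {x y v w : Y} {g h : M2 F} {A B : SL(2, F)}

theorem mem_Tor : y ∈ Tor φ ψ v ↔ ∃ A, ψ v A = A ∧ φ A = y := Iff.rfl

theorem Ac.mul (a : Ac ψ x g) (b : Ac ψ y h) : Ac ψ (x * y) (g * h) := ⟨by simp [a.1, b.1], fun A => by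
  rw [map_mul, MulAut.mul_apply, ← mul_assoc, a.2, mul_assoc, b.2, mul_assoc]⟩
theorem Ac.sc (a : Ac ψ 1 g) : Sc g := sc_of_comm fun A => by simpa using a.2 A
theorem Ac.fix (a : Ac ψ v g) : ψ v A = A ↔ A ∈ Cm g :=
  ⟨fun e => by rw [mem_Cm, ← a.2, e], fun e => mt_inj.1 (cancel_r a.1 ((a.2 A).trans e.symm))⟩
theorem Ac.anti (a : Ac ψ v g) : ψ v A = -A ↔ g * mt A = -(mt A * g) :=
  ⟨fun e => by rw [← a.2, e]; simp, fun e => mt_inj.1 (cancel_r a.1 ((a.2 A).trans (by simpa using e)))⟩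
theorem Ac.tor (a : Ac ψ v g) : Tor φ ψ v = (Cm g).map φ := by
  rw [Tor]; congr 1; ext A; exact a.fix

namespace Md
variable (m : Md E φ ψ)
include m

theorem neg (A : SL(2, F)) : φ (-A) = φ A := (m.eq.2 (.inr rfl)).symm
theorem mem (A : SL(2, F)) : φ A ∈ E := m.range.le ⟨A, rfl⟩
theorem ac (B : SL(2, F)) : Ac ψ (φ B) (mt B) := ⟨mt_ne B, fun A => by rw [m.inn, ← mt_mul, ← mt_mul]; simp⟩
theorem eq_phi (a : Ac ψ y g) {c : F} (e : g = c • mt B) : y = φ B := m.inj (MulEquiv.ext fun A =>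
  mt_inj.1 (cancel_r a.1 (by rw [a.2, e, mul_smul_comm, (m.ac B).2, smul_mul_assoc])))
theorem one_of_sc (a : Ac ψ y g) (s : Sc g) : y = 1 := have ⟨c, e⟩ := s; (m.eq_phi a (B := 1) e).trans (map_one φ)
theorem eq_one : φ A = 1 ↔ Sc (mt A) := ⟨fun e => (e ▸ m.ac A).sc, m.one_of_sc (m.ac A)⟩
theorem mem_iff (a : Ac ψ y g) : y ∈ E ↔ IsSquare g.det := by
  refine ⟨fun h => ?_, fun ⟨u, e⟩ => ?_⟩
  · obtain ⟨B, rfl⟩ := m.range.ge h
    have := a.mul (m.ac B⁻¹)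
    rw [← map_mul, mul_inv_cancel, map_one] at this
    obtain ⟨c, e⟩ := this.sc
    exact ⟨c, by simpa [sq] using congrArg det e⟩
  · have u0 : u ≠ 0 := by rintro rfl; simp [a.1] at e
    rw [m.eq_phi a (B := mkS (u⁻¹ • g) (by simp [e]; field_simp)) (c := u) (by simp [smul_smul, u0])]
    exact m.mem _
theorem tz (a : Ac ψ v g) (hv : orderOf v = 2) : Tz g :=
  ⟨tr_of_sq (Ac.sc (Inv.sq_of_ord2 hv ▸ a.mul a)) fun s => Inv.ne_one_of_ord2 hv (m.one_of_sc a s), a.1⟩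
theorem eq_of_comm (a : Ac ψ v g) (b : Ac ψ w h) (hv : orderOf v = 2) (hw : orderOf w = 2) (e : g * h = h * g) :
    v = w := by
  obtain ⟨c, rfl⟩ := (m.tz a hv).prop m.two (m.tz b hw).tr e
  have := m.one_of_sc (a.mul b) ⟨_, by rw [mul_smul_comm, sq_of_tr (m.tz a hv).tr, smul_smul]⟩
  rw [eq_inv_of_mul_eq_one_left this, Inv.inv_of_ord2 hw]
theorem anti (a : Ac ψ v g) (b : Ac ψ w h) (hv : orderOf v = 2) (hw : orderOf w = 2) (n : v ≠ w)
    (e : v * w = w * v) : g * h = -(h * g) :=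
  anti_of_tr (m.tz a hv).tr (m.tz b hw).tr (m.tz (a.mul b) (ord_mul_comm hv hw n e)).tr
theorem ord (h : (mt A).trace = 0) : orderOf (φ A) = 2 := Inv.ord2_iff.2
  ⟨by rw [← map_mul, sl2_sq_of_trace h, m.neg, map_one], fun e => Tz.nsc m.two ⟨h, mt_ne A⟩ (m.eq_one.1 e)⟩
theorem comm_iff : y * φ A = φ A * y ↔ ψ y A = A ∨ ψ y A = -A := by
  rw [← m.eq, m.eqv, eq_mul_inv_iff_mul_eq, eq_comm]
/-- elements of `E` commuting with an element of odd order have commuting lifts -/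
theorem comm_of_odd (o : Odd (orderOf (φ A))) (e : y * φ A = φ A * y) : ψ y A = A :=
  (m.comm_iff.1 e).resolve_right fun e1 => by
    have := map_pow (ψ y) A (orderOf (φ A))
    rw [e1, o.neg_pow] at this
    rcases m.eq.1 ((map_one φ).trans (by rw [map_pow, pow_orderOf_eq_one] : φ (A ^ orderOf (φ A)) = 1).symm) with e | e <;>
      rw [e] at this
    · exact sl_ne_neg m.two 1 (by simpa using this)
    · exact sl_ne_neg m.two 1 (by simpa [aut_neg m.two] using this.symm)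
theorem comm_of_odd' (o : Odd (orderOf y)) (e : y * φ A = φ A * y) : ψ y A = A :=
  (m.comm_iff.1 e).resolve_right fun e1 => by
    have : ∀ n : ℕ, ψ (y ^ (2 * n + 1)) A = -A := fun n => by
      induction n with
      | zero => simpa
      | succ n ih => rw [show 2 * (n + 1) + 1 = 2 * n + 1 + 1 + 1 by ring, pow_succ, pow_succ, map_mul, map_mul,
          MulAut.mul_apply, MulAut.mul_apply, e1, aut_neg m.two, e1, neg_neg, ih]
    obtain ⟨n, hn⟩ := o
    exact sl_ne_neg m.two A (by simpa [← hn] using this n)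

theorem tr (y : Y) : ∃ σ : RingAut F, (∀ A, (mt (ψ y A)).trace = σ (mt A).trace) ∧ ((∀ x, σ x = x) → ∃ g, Ac ψ y g) :=
  have ⟨g, σ, d, e⟩ := m.form y
  ⟨σ, fun A => tr_of_form d (e A), fun s => ⟨g, d, fun A => by rw [e]; congr 1; ext; simp [s]⟩⟩

theorem ac_inv (R : ∀ V : Subgroup Y, IsKleinFour V → V ≤ C1[v] → v ∈ V) (hv : orderOf v = 2) : ∃ g, Ac ψ v g := by
  obtain ⟨g, σ, d, e⟩ := m.form v
  by_cases s : ∀ x, σ x = x
  · exact ⟨g, d, fun A => by rw [e]; congr 1; ext; simp [s]⟩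
  obtain ⟨l, hl⟩ := not_forall.1 s
  have vv : ∀ A, ψ v (ψ v A) = A := fun A => by rw [← MulAut.mul_apply, ← map_mul, Inv.sq_of_ord2 hv]; simp
  have s2 : ∀ x, σ (σ x) = x := fun x => by
    obtain ⟨A, rfl⟩ := exists_tr x
    rw [← tr_of_form d (e A), ← tr_of_form d (e _), vv]
  let θ : M2 F → M2 F := fun M => g * M.map σ * g⁻¹
  have t : ∀ M, θ M * g = g * M.map σ := fun M => by rw [mul_assoc, nonsing_inv_mul _ d.isUnit, mul_one]
  have t1 : ∀ A, θ (mt A) = mt (ψ v A) := fun A => cancel_r d (by rw [t, e])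
  have t2 : ∀ M N, θ (M * N) = θ M * θ N := fun M N => cancel_r d (by
    rw [t, mul_assoc, t, ← mul_assoc, t, mul_assoc, Matrix.map_mul])
  have t3 : ∀ M, θ (θ M) * (g * g.map σ) = g * g.map σ * M := fun M => by
    rw [← mul_assoc, t, mul_assoc, ← Matrix.map_mul, t, Matrix.map_mul, mul_assoc]; congr 2; ext; simp [s2]
  have t4 : ∀ M, (θ M).det = σ M.det := fun M => mul_right_cancel₀ d (by
    rw [← det_mul, t, det_mul, mul_comm, RingEquiv.map_det]; rfl)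
  obtain ⟨c, hc⟩ := sc_of_comm (g := g * g.map σ) fun A => by rw [← t3, t1, t1, vv]
  have D := fun P => descent m.two s2 hl (θ := θ) (P := P) (fun M N => by simp [θ, Matrix.map_add, mul_add, add_mul])
    (fun c M => cancel_r d (by rw [t, smul_mul_assoc, t, ← mul_smul_comm]; congr 1; ext; simp))
    (fun M => cancel_r (g := g * g.map σ) (by
      rw [det_mul, ← RingEquiv.mapMatrix_apply, ← RingEquiv.map_det]; simp [d]) (by rw [t3, hc]; simp)) t4
  obtain ⟨A, a1, a2⟩ := D (LinearMap.ker (traceLinearMap _ F F)) (fun M hM => by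
    have := tr_of_form d (t M); simp_all) (M := mt (slJ F)) (by simp [mt, trace_fin_two]) (mt_ne _)
  obtain ⟨B, b⟩ := exists_anti m.two ⟨a1, mt_ne A⟩
  obtain ⟨B, b1, b2⟩ := D (LinearMap.ker (LinearMap.mulLeft F (mt A) + LinearMap.mulRight F (mt A))) (fun M hM => by
    have : θ (mt A * M + M * mt A) = 0 := by rw [show mt A * M + M * mt A = 0 from hM]; simp [θ]
    rw [show θ (mt A * M + M * mt A) = θ (mt A * M) + θ (M * mt A) by simp [θ, Matrix.map_add, mul_add, add_mul],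
      t2, t2] at this
    rcases a2 with a | a <;> rw [a] at this
    · exact this
    · exact neg_eq_zero.1 (by simpa [add_comm] using this)) (M := mt B) (by simp [b]) (mt_ne _)
  replace b1 : mt A * mt B = -(mt B * mt A) := eq_neg_of_add_eq_zero_left b1
  have c : ∀ A, θ (mt A) = mt A ∨ θ (mt A) = -mt A → φ A ∈ C1[v] := fun A h =>
    mem_C1.2 (m.comm_iff.2 (by simpa only [t1, ← mt_neg, mt_inj] using h)).symm
  have oa := m.ord a1
  have ob := m.ord (tr_of_anti m.two (mt_ne A) b1)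
  have b3 : A * B = -(B * A) := mt_inj.1 b1
  have := R _ (Inv.kf_sup oa ob (fun e => ?_) (by rw [← map_mul, ← map_mul, b3, m.neg]))
    (VV_le.2 ⟨c A a2, c B b2⟩)
  · obtain ⟨B, rfl⟩ := m.range.ge (VV_le.2 ⟨m.mem A, m.mem B⟩ this)
    exact ⟨_, m.ac B⟩
  · rcases m.eq.1 e with rfl | rfl
    · exact sl_ne_neg m.two _ b3
    · exact sl_ne_neg m.two (A * A) (by simpa using b3.symm)

theorem mem_tor : φ A ∈ Tor φ ψ v ↔ ψ v A = A := ⟨fun ⟨B, h, e⟩ => by
  replace h : ψ v B = B := h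
  rcases m.eq.1 e with rfl | rfl
  · exact h
  · rw [aut_neg m.two, h], fun h => ⟨A, h, rfl⟩⟩
theorem tor_le : Tor φ ψ v ≤ E ⊓ C1[v] := by
  rintro _ ⟨A, h, rfl⟩; exact ⟨m.mem A, mem_C1.2 (m.comm_iff.2 (.inl h)).symm⟩
theorem tor_cj (g : Y) : Tor φ ψ (g * v * g⁻¹) = cj g (Tor φ ψ v) := by
  ext y
  refine ⟨fun ⟨A, h, e⟩ => mem_cj.2 ?_, fun h => ?_⟩
  · have := m.eqv g⁻¹ A
    rw [inv_inv, e] at this
    rw [← this, m.mem_tor, ← (ψ g).apply_eq_iff_eq]
    simpa using show ψ (g * v * g⁻¹) A = A from h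
  · obtain ⟨_, ⟨A, h, rfl⟩, rfl⟩ := h
    have := (m.mem_tor (v := g * v * g⁻¹) (A := ψ g A)).2 (by simpa using show ψ v A = A from h)
    rwa [m.eqv] at this
theorem ti (a : Ac ψ v g) (b : Ac ψ w h) (hv : orderOf v = 2) (hw : orderOf w = 2) (h1 : y ∈ Tor φ ψ v)
    (h2 : y ∈ Tor φ ψ w) (n : y ≠ 1) : v = w := by
  obtain ⟨A, e, rfl⟩ := h1
  have s : ¬ _ := fun h => n ((m.eq_one (A := A)).2 h)
  obtain ⟨a1, b1, e1⟩ := commutant s (a.fix.1 e)
  obtain ⟨a2, b2, e2⟩ := commutant s (b.fix.1 (m.mem_tor.1 h2))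
  exact m.eq_of_comm a b hv hw (by rw [e1, e2]; simp only [mul_add, add_mul, smul_mul_smul_comm, one_mul, mul_one]; module)
theorem tor_inv (a : Ac ψ v g) (b : Ac ψ w h) (hv : orderOf v = 2) (hw : orderOf w = 2) (n : v ≠ w)
    (e : v * w = w * v) (h1 : y ∈ Tor φ ψ v) : w * y * w⁻¹ = y⁻¹ := by
  obtain ⟨A, e1, rfl⟩ := h1
  have t := m.tz a hv
  obtain ⟨x, y, e2, e3⟩ := t.mem_Cm m.two (a.fix.1 e1)
  have e4 : mt (ψ w A) = x • 1 - y • g := cancel_r b.1 (by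
    rw [b.2, e3]; simp [mul_add, sub_mul, m.anti a b hv hw n e])
  rw [← m.eqv, ← map_inv, eq_inv_of_mul_eq_one_left (a := ψ w A) (b := A) (mt_inj.1 (by
    rw [mt_mul, e4, e3, mt_one]
    simp only [mul_add, sub_mul, smul_mul_smul_comm, sq_of_tr t.tr, one_mul, mul_one]
    linear_combination (norm := module) e2 • (1 : M2 F)))]
theorem anti_inv (a : Ac ψ v g) (e : ψ v B = -B) : orderOf (φ B) = 2 ∧ v ≠ φ B ∧ v * φ B = φ B * v :=
  ⟨m.ord (tr_of_anti m.two a.1 (a.anti.1 e)), fun f => sl_ne_neg m.two B (by rw [← e, f, m.inn]; simp),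
    m.comm_iff.2 (.inr e)⟩
theorem tor_of_comm (a : Ac ψ v g) (hv : orderOf v = 2) (h1 : y ∈ Tor φ ψ v) (o : Odd (orderOf y)) (n : y ≠ 1)
    (hx : x ∈ E) (e : x * y = y * x) : x ∈ Tor φ ψ v := by
  obtain ⟨A, e1, rfl⟩ := h1
  obtain ⟨B, rfl⟩ := m.range.ge hx
  have := m.comm_of_odd o e
  rw [m.inn, mul_inv_eq_iff_eq_mul] at this
  obtain ⟨a1, b1, e2⟩ := commutant (X := mt B) (fun h => n ((m.eq_one (A := A)).2 h)) (congrArg GW.mt this).symm
  exact m.mem_tor.2 (a.fix.2 (mem_Cm.2 (by rw [e2]; simp [add_mul, mul_add, mem_Cm.1 (a.fix.1 e1)])))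
open Classical in
theorem card_tor (a : Ac ψ v g) (hv : orderOf v = 2) :
    #(Tor φ ψ v) * 2 + (if IsSquare (-g.det) then 2 else 0) = Nat.card F + 1 := by
  rw [← (m.tz a hv).card_Cm m.two, ← Core.card_map_mul_card_inf_ker (Cm g) φ, a.tor]
  congr 2
  rw [show Cm g ⊓ φ.ker = zpowers (-1) from le_antisymm (fun A h => (m.eq.1 ((map_one φ).trans h.2.symm)).elim
    (fun e => by rw [e]; exact one_mem _) fun e => by rw [e]; exact mem_zpowers _) (zpowers_le.2 ⟨mem_Cm.2 (by simp), by simp [m.neg]⟩),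
    Nat.card_zpowers, Inv.ord2_iff.2 ⟨by simp, sl2_neg_one_ne m.two⟩]
theorem card_C (a : Ac ψ v g) (hv : orderOf v = 2) : #(E ⊓ C1[v]) = 2 * #(Tor φ ψ v) := by
  obtain ⟨B, b⟩ := exists_anti m.two (m.tz a hv)
  replace b := a.anti.2 b
  have : (Tor φ ψ v).relIndex (E ⊓ C1[v]) = 2 := relIndex_eq_two_iff.2 ⟨φ B, ⟨m.mem B, mem_C1.2 (m.anti_inv a b).2.2.symm⟩, by
    rintro x ⟨h1, h2⟩
    obtain ⟨A, rfl⟩ := m.range.ge h1
    rw [← map_mul, m.mem_tor, m.mem_tor, map_mul, b]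
    rcases m.comm_iff.1 (mem_C1.1 h2).symm with e | e <;> rw [e]
    · exact .inr ⟨rfl, fun e => sl_ne_neg m.two _ (by simpa using e.symm)⟩
    · exact .inl ⟨by simp, fun e => sl_ne_neg m.two _ e.symm⟩⟩
  rw [← card_inf_mul_relIndex (Tor φ ψ v), this, inf_eq_left.2 m.tor_le, mul_comm]

end Md
end Cfsg.Agent.GW
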