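import Cfsg.Agent.GW.T1
import Cfsg.Agent.Dih.Sec1

/-! The centralizer of an involution is a maximal subgroup. -/

set_option autoImplicit false
set_option linter.unusedVariables false
set_option linter.unusedSectionVars false

namespace Cfsg.Agent.GW

open Cfsg Cfsg.Agent.BG Cfsg.Agent.Dih Subgroup PHom
open Cfsg.Agent.Comp (Lay FStar SubIn CompIn QS Lay_le Lay_normal Lay_perfect)
open Cfsg.Agent.H8 (N_coatom')
open Cfsg.Agent.Inv (ord2_iff sq_of_ord2 ne_one_of_ord2 inv_of_ord2 orderOf_conj' orderOf_conj''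
  orderOf_isConj)
open scoped commutatorElement

universe u

variable {G : Type u} [Group G] [Finite G] {Y : Type u} [Group Y] [Finite Y] {φ : PHom G Y}
  {A B D K L M N P Q S V X : Subgroup G} {t a b s v w g : G} {l p : ℕ} {E : Subgroup Y}
  {q τ : ℕ} {ε : ℤ} {T : Y → Subgroup Y}

theorem DT.card_inf (h : DT S t a b l) (hn : S ≤ N[N]) (ha : a ∈ N) (hb : b ∉ N) :
    #(S ⊓ N) = 2 * l := by
  have e := h.dh.conj_out 0 1
  rw [← h.dh.card_M 0]
  refine congrArg (fun X : Subgroup G => #X) ((eq_or_eq_of_relIndex_prime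
    (h.dh.relIndex_M 0 ▸ Nat.prime_two) (le_inf (h.dh.M_le 0) ?_) inf_le_left).resolve_right
    fun e => hb (e.ge h.bS).2)
  simp only [zpow_zero, one_mul, zpow_one, mul_one, zero_add] at e
  rw [closure_le, Set.insert_subset_iff, Set.singleton_subset_iff, zpow_zero, one_mul]
  have := mul_mem (conj_mem (hn h.xS) ha) (inv_mem ha)
  rw [e, mul_inv_cancel_right] at this
  exact ⟨by simpa using this, ha⟩

theorem DT.kf_cases (h : DT S t a b l) (hV : IsKleinFour V) (h1 : V ≤ S) :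
    ∃ g ∈ S, BG.cj g (VV t a) = V ∨ BG.cj g (VV t b) = V := by
  obtain ⟨k, e⟩ := h.dh.kf_conj hV h1 0
  rw [zero_add, ← h.V1, ← h.V2] at e
  exact ⟨_, h.dh.xmem k, e⟩

theorem DT.mem_or (h : DT S t a b l) (hn : S ≤ N[N]) (c : ¬ Cyc (S ⊓ N)) : a ∈ N ∨ b ∈ N := by
  obtain ⟨_, _, _, _, d⟩ := (h.sub inf_le_left).resolve_left c
  obtain ⟨g, hg, e⟩ := h.kf_cases d.kf (d.VS.trans inf_le_left)
  have : ∀ s, BG.cj g (VV t s) ≤ S ⊓ N → s ∈ N := fun s e => by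
    simpa [mul_assoc] using conj_mem' (hn hg) (e (mem_cj_conj.2 (r_mem_VV t s))).2
  exact e.imp (fun e => this a (e.trans_le d.VS)) fun e => this b (e.trans_le d.VS)

theorem DT.cent_of_odd (h : DT S t a b l) (hg : g ∈ N[VV t a]) (ho : Odd (orderOf g))
    (ht : g ∈ C1[t]) : g ∈ C1[a] :=
  (C_VV t a ▸ Inv.mem_centralizer_of_sq_of_odd ho (Inv.kf_sq_mem_centralizer h.kf (l_mem_VV t a)
    (ne_one_of_ord2 h.ot) hg (by rw [mem_C1.1 ht, mul_inv_cancel_right])) :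
    g ∈ C1[t] ⊓ C1[a]).2

theorem GS.NB (h : GS S t a b l) : N[VV t a] ≤ N[O'[C1[t]] ⊓ C1[a]] := by
  have := (h.pnil h.ot).O_eq_inf (inf_le_left : C1[t] ⊓ C1[a] ≤ _)
  rw [← inf_assoc, inf_eq_left.2 (O_le _ _), ← C_VV] at this
  exact this ▸ normO _ (normC le_rfl)

theorem LT.three (m : LT E q τ ε T) : 3 ≤ τ + ε := by
  have := m.eps; have := m.qeq; have := m.q3; obtain ⟨k, hk⟩ := m.ev; omega

theorem LM.idx (h : LM M φ E) (m : LT E q τ ε T) (hv : orderOf v = 2) (hL : v ∈ Lay M) :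
    ((C1[v]).relIndex M : ℤ) = q * (τ + ε) := by
  have vM := Lay_le hL
  have e := ((h.dG.prod_lay hv hL).im (h.le le_rfl)).symm.relIndex
  rw [relIndex_im (h.le inf_le_left) (h.le le_rfl) (le_inf h.kle (h.ker ▸ le_C1_iff.2 (lay_cO M hL))),
    h.C2 hv vM, h.im, inf_comm, inf_relIndex_right] at e
  have e2 := card_inf_mul_relIndex C1[φ.app v] E
  rw [inf_comm, m.cC _ (h.app_mem hL) (h.ord hv vM), ← e] at e2
  have e3 := m.cardE
  have := m.three
  have := m.eps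
  rw [← e2] at e3
  push_cast at e3
  exact mul_left_cancel₀ (a := 2 * (τ : ℤ)) (by omega) (by linarith)

theorem LM.exists_J (h : LM M φ E) (m : LT E q τ ε T) (ht : orderOf t = 2) (hb : orderOf b = 2)
    (tM : t ∈ M) (bM : b ∈ M) (c : b * t = t * b) (hO : O'[M] ≤ C1[t]) (bL : b ∉ Lay M)
    (ne : φ.app b ≠ φ.app t) : ∃ J ≤ C1[b], PiG {2}ᶜ J ∧ Iv t J ∧ (#J : ℤ) = τ + ε := by
  have b2 := h.ord hb bM
  have cT := m.cout _ (fun e => bL (h.mem_lay hb bM e)) b2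
  have oT : PiG {2}ᶜ (T (φ.app b)) := odd_iff.2 (by
    obtain ⟨k, hk⟩ := m.ev; have := m.eps; rw [Nat.odd_iff]; omega)
  have iv : Iv (φ.app t) (T (φ.app b)) := m.inv _ _ b2 (h.ord ht tM) ne (by
    rw [← app_mul (h.mem bM) (h.mem tM), c, app_mul (h.mem tM) (h.mem bM)])
  set J := Lay M ⊓ φ.pre (T (φ.app b))
  have JM : J ≤ φ.dom := inf_le_right.trans (pre_le_dom _)
  have e : φ.im J = T (φ.app b) := by
    rw [im_inf_pre, h.im, inf_eq_right.2 ((m.le _ b2).trans inf_le_left)]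
  have n : ∀ s ∈ M, φ.app s ∈ N[T (φ.app b)] → zpowers s ≤ N[J] := fun s hs e =>
    normI (zpowers_le.2 (Lay_normal M hs)) (norm_pre (zpowers_le.2 (h.mem hs))
      (by rwa [im_zpowers (h.mem hs), zpowers_le]))
  have nt := n t tM iv.norm
  have nb := n b bM (C_le_N _ (le_C1_iff.1 ((m.le _ b2).trans inf_le_right)))
  have oJ : PiG {2}ᶜ J := pig_of_im JM (h.odd.of_le inf_le_right) (e ▸ oT)
  have i := iv_comm ht oJ (zpowers_le.1 nt) ((abel_of_cyc_im JM (inf_le_right.trans (h.ker ▸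
    cent_symm (inf_le_left.trans (lay_cO M)))) (e ▸ m.cyc _ b2)).of_le (commL nt))
  have o := oJ.of_le (commL nt)
  have k : ⁅J, zpowers t⁆ ⊓ φ.ker = ⊥ := eq_bot_iff.2 (i.inf_bot o ▸ inf_le_inf_left _ (h.ker ▸ hO))
  have e2 : φ.im ⁅J, zpowers t⁆ = T (φ.app b) := by
    rw [im_comm JM (zpowers_le.2 (h.mem tM)), e, im_zpowers (h.mem tM)]
    exact le_antisymm (commL (zpowers_le.2 iv.norm)) (iv.le_comm oT)
  refine ⟨_, comm_zp_bot.1 (eq_bot_iff.2 (k ▸ le_inf (commL (normR nb (norm_zpowers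
    (zpowers_le.2 (mem_C1.2 c))))) ?_)), o, i, by
      rw [← card_im_inj ((commL nt).trans JM) k, e2, cT]⟩
  rw [← cent_im_iff ((commL nt).trans JM) (zpowers_le.2 (h.mem bM)), e2, im_zpowers (h.mem bM),
    C_zpowers]
  exact (m.le _ b2).trans inf_le_right

/-- the alternatives for a maximal subgroup properly containing `C(t)` -/
def MR (t a b : G) (l : ℕ) (A : Subgroup G) : Prop :=
  l ≠ 1 ∧ (∃ g ∈ A, g * t * g⁻¹ = a) ∧ ∃ r, (O'[C1[t]] ⊓ C1[b]).relIndex O'[C1[t]] =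
    (O'[C1[t]] ⊓ C1[a]).relIndex O'[C1[t]] * r ∧ (O'[C1[t]] ≤ C1[a] ∧ A = N[VV t a] ∨
    ∃ (q τ : ℕ) (ε : ℤ), (ε = 1 ∨ ε = -1) ∧ (q : ℤ) = 2 * τ + ε ∧ 3 ≤ τ + ε ∧
      τ = l * (O'[C1[t]] ⊓ C1[a]).relIndex O'[C1[t]] ∧ τ + ε ∣ r ∧ q * (τ + ε) ∣ (C1[t]).index)

namespace MC

variable (h : MC S t a b l)
include h

theorem O_cent (hH : C1[t] ≤ N[A]) (ho : PiG {2}ᶜ A) : A ≤ C1[t] :=
  le_C1_iff.2 (zpowers_le.1 (cop_cent_F (zpowers_le.2 (hH (mem_C1_self t))) (cop2 h.ot ho)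
    (sol_odd ho) (zpowers_le.2 (le_C1_iff.1 (F_le_of_O fun p hp => by
      by_cases e : p = 2
      · rw [e, O_eq_bot ho]; exact bot_le
      · exact h.thm1 (O_pig _ _) e (normO _ hH))))))

theorem mr_sol (hA : IsCoatom A) (hH : C1[t] ≤ A) (f : QO A φ)
    (e : φ.im (VV t a) = O[{2}]((⊤ : Subgroup Y))) (ne : ¬ A ≤ C1[t]) : MR t a b l A := by
  have := h.simple
  have SA := h.SH.trans hH
  have VA := h.VS.trans SA
  have O1 := h.O_cent (hH.trans (O_norm _ _)) (O_pig {2}ᶜ A)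
  have n := norm_sup_ker (f.le le_rfl) (f.le VA) (by rw [e, f.top]; exact O_norm _ _)
  rw [f.ker] at n
  have sy : Syl 2 (VV t a) (VV t a ⊔ O'[A]) :=
    (isProd_r (VA.trans (O_norm _ _))).hall h.pigV (O_pig _ _)
  obtain ⟨x, hx, hx'⟩ := SetLike.not_le_iff_exists.1 ne
  have c : VV t a ≤ C[O'[A]] := by
    have m := conj_mem (n hx) (mem_sup_left (l_mem_VV t a))
    have t1 : t ∈ (VV t a ⊔ O'[A]) ⊓ C[O'[A]] := ⟨mem_sup_left (l_mem_VV t a), le_C1_iff.1 O1⟩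
    have nn : VV t a ⊔ O'[A] ≤ N[(VV t a ⊔ O'[A]) ⊓ C[O'[A]]] :=
      normI (normG _) (normC ((sup_le VA (O_le _ _)).trans (O_norm _ _)))
    have sy' := sy.inf_norm' inf_le_left nn
    by_contra hc
    have lt : VV t a ⊓ ((VV t a ⊔ O'[A]) ⊓ C[O'[A]]) ≤ zpowers t := fun y hy => by
      rcases h.memV.1 hy.1 with rfl | rfl | rfl | rfl
      exacts [one_mem _, mem_zpowers _, absurd (VV_le.2 ⟨t1.2, hy.2.2⟩) hc,
        absurd (VV_le.2 ⟨t1.2, h.tta ▸ mul_mem t1.2 hy.2.2⟩) hc]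
    obtain ⟨y, hy, e⟩ := Syl.cj_sub sy' Nat.prime_two (zpowers_le.2 (show x * t * x⁻¹ ∈ _ from
      ⟨m, conj_mem (normC (O_norm _ _) hx) t1.2⟩)) (pig2 (by rw [orderOf_conj', h.ot]))
    have e := lt (e (mem_cj_conj.2 (mem_zpowers _)))
    have yH : y ∈ C1[t] := sup_le (h.VS.trans h.SH) O1 hy.1
    rcases (mem_zp2 h.t2).1 e with e | e
    · exact ne_one_of_ord2 h.ot (by simpa using e)
    · refine hx' ((mul_mem_cancel_left yH).1 (mem_C1.2 ?_))
      conv_rhs => rw [← e]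
      group
  have nV : A ≤ N[VV t a] := sy.norm_char (sup_le (normG _) (cents_norm (cent_symm c))) n
  have eA := N_coatom' hA VA nV (ne_bot_of_mem (l_mem_VV t a) (ne_one_of_ord2 h.ot))
  obtain ⟨g, g1, g2⟩ := h.exists_g
  have gA : g ∈ A := eA ▸ h.mem_N g1 g2
  have U1 : O'[C1[t]] ≤ C1[a] := fun u hu =>
    h.cent_of_odd (nV (hH (O_le _ _ hu))) (PiG.odd (O_pig _ _) hu) (O_le _ _ hu)
  exact ⟨fun e => hA.1 (h.one_class hH ⟨g, gA, g1⟩ ⟨g * g, mul_mem gA gA, by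
    rw [h.one_b e, ← g2, ← g1]; group⟩), ⟨g, gA, g1⟩, _, by
      rw [inf_eq_left.2 U1, relIndex_self, one_mul], Or.inl ⟨U1, eA.symm⟩⟩

theorem mr_lay (hA : IsCoatom A) (hH : C1[t] ≤ A) (f : LM A φ E) (tL : t ∈ Lay A)
    (aL : a ∈ Lay A) : MR t a b l A := by
  have SA := h.SH.trans hH
  have cj1 : ∀ s ∈ Lay A, orderOf s = 2 → ∃ g ∈ A, g * t * g⁻¹ = s := fun s hs s2 => by
    obtain ⟨g, hg, e⟩ := h.dg.conj (Lay_perfect A) h.ot s2 tL hs
    exact ⟨g, Lay_le hg, e⟩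
  have bL : b ∉ Lay A := fun e => hA.1 (h.one_class hH (cj1 a aL h.oa) (cj1 b e h.ob))
  have bE : φ.app b ∉ E := fun e => bL (f.mem_lay h.ob (SA h.bS) e)
  have d := h.toDT.im (f.le SA) f.odd
  obtain ⟨q, τ, ε, T, m⟩ := f.md.mod.resolve_right fun m => bE (m.inn _ d.ob)
  have tE := f.app_mem tL
  have aE := f.app_mem aL
  have O1 : O'[A] ≤ C1[t] := le_C1_iff.2 (lay_cO A tL)
  have OU := h.leU h.ot O1 (O_pig _ _)
  set U := O'[C1[t]]
  have UA : U ≤ A := (O_le _ _).trans hH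
  have oU : PiG {2}ᶜ (φ.im U) := (O_pig _ _).im φ
  have sd := h.sd.im (f.le hH) (f.ker ▸ OU)
  have eH : φ.im C1[t] = C1[φ.app t] := by rw [← f.C2 h.ot (SA h.tS), inf_eq_right.2 hH]
  rw [eH] at sd
  have nE : C1[φ.app t] ≤ N[E ⊓ C1[φ.app t]] := normI (le_top.trans f.md.norm) (normG _)
  have c1 := (((sd.hall_l oU d.pig.compl_compl).inf_norm' inf_le_right nE).prod
    (((sd.hall_r oU d.pig).inf_norm' inf_le_right nE).congr fun _ _ _ => by simp)).card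
  rw [eq_bot_iff.2 ((inf_le_inf inf_le_left inf_le_left).trans sd.inf.le), card_bot', mul_one,
    m.cC _ tE d.ot, ← inf_assoc, ← inf_assoc, inf_eq_left.2 (inf_le_left.trans sd.left),
    inf_eq_left.2 (inf_le_left.trans sd.right), d.card_inf (le_top.trans f.md.norm) aE bE] at c1
  have le : φ.im U ⊓ E ≤ T (φ.app t) :=
    m.odd_le d.ot tE (oU.of_le inf_le_left) (le_inf inf_le_right (inf_le_left.trans sd.left))
  have key : ∀ {a b}, MC S t a b l → (∀ u ∈ φ.im U, u * φ.app a * u⁻¹ * (φ.app a)⁻¹ ∈ E) →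
      (φ.im (U ⊓ C1[a])).relIndex (φ.im U) = #(φ.im U ⊓ E) := fun {a b} h e => by
    have d := h.toDT.im (f.le SA) f.odd
    have n := sd.norm d.aS
    rw [im_C2 h.oa (f.mem (SA h.aS)) f.odd (f.le UA) (f.ker ▸ OU)]
    exact ((show Iv (φ.app a) (T (φ.app t)) from m.inv _ _ d.ot d.oa d.ant.symm d.at'.symm).of_le
      le).relIndex oU (prod_of_comm_le d.oa oU n inf_le_left
        (le_inf (commL (zpowers_le.2 n)) (comm_zp_le d.oa e)))
  have k1 := key h fun u _ => mul_mem (conj_mem (f.md.norm trivial) aE) (inv_mem aE)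
  have k2 := key h.symm fun u _ => by
    rw [inv_of_ord2 d.ob]
    exact m.mul _ (fun e => bE (by simpa [mul_assoc] using conj_mem' (f.md.norm (mem_top u)) e)) _
      bE (by rw [orderOf_conj', d.ob]) d.ob
  rw [relIndex_im (f.le (inf_le_left.trans UA)) (f.le UA)
    (f.ker ▸ le_inf OU (le_C1_iff.2 (lay_cO A aL)))] at k1
  obtain ⟨r, hr⟩ := relIndex_im_dvd (φ := φ) (inf_le_left : U ⊓ C1[b] ≤ U) (f.le UA)
  rw [k2, ← k1] at hr
  have e : τ = l * (U ⊓ C1[a]).relIndex U := by rw [k1]; linarith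
  refine ⟨fun e => bL (h.one_b e ▸ mul_mem tL aL), cj1 a aL h.oa, r, hr,
    Or.inr ⟨q, τ, ε, m.eps, m.qeq, m.three, e, ?_, ?_⟩⟩
  · obtain ⟨J, j1, j2, j3, j4⟩ := f.exists_J m h.ot h.ob (SA h.tS) (SA h.bS) h.bt' O1 bL d.symm.ant
    obtain ⟨g, g1, g2⟩ := h.symm.exists_g
    have j5 : BG.cj g⁻¹ J ≤ C1[t] := by rw [cj_le_iff, inv_inv, cj_C1, g1]; exact j1
    have j6 := (j3.cj g⁻¹).cent_mul (le_C1_iff.1 j5)
    rw [show g⁻¹ * t * g⁻¹⁻¹ = t * b by nth_rw 1 [← h.symm.g3 g1 g2]; group, h.symm.tta] at j6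
    have := j6.card_dvd (h.leU h.ot j5 (j2.cj _)) (O_pig _ _) (O_norm _ _ (h.SH h.bS))
    rw [card_cj, hr, ← Int.natCast_dvd_natCast, j4, Nat.cast_mul] at this
    refine IsCoprime.dvd_of_dvd_mul_left ?_ this
    refine ⟨ε, -ε * l, ?_⟩
    rw [e]; push_cast; rcases m.eps with rfl | rfl <;> ring
  · rw [← f.idx m h.ot tL, Int.natCast_dvd_natCast, ← relIndex_mul_index hH]
    exact Dvd.intro _ rfl

theorem mr (hA : IsCoatom A) (hH : C1[t] ≤ A) (ne : ¬ A ≤ C1[t]) : MR t a b l A ∨ MR t b a l A := by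
  have SA := h.SH.trans hH
  have sA := h.syl.sub SA le_top
  have O1 := h.O_cent (hH.trans (O_norm _ _)) (O_pig {2}ᶜ A)
  obtain ⟨Y, _, _, φ, f⟩ := exists_QO A
  have d := h.toDT.im (f.le SA) f.odd
  by_cases s : Sol A
  · have sy := f.top ▸ sA.im (f.le le_rfl)
    have k : IsKleinFour O[{2}]((⊤ : Subgroup Y)) := by_contra fun k => ne (by
      have : PiG {2} (⊤ : Subgroup Y) := pig_of_prime_elts fun y _ hp => by_contra fun e => by
        have o := hp.odd_of_ne_two e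
        exact e (((O_pig _ _).elt (C_O_le (f.top ▸ s.im φ) f.O_bot ⟨trivial, ((f.dg h.dg).odd_or
          (O_pig _ _) (O_norm {2} ⊤ (mem_top y)) o).resolve_right k⟩)).eq_prime hp dvd_rfl)
      refine le_of_im_le (f.le le_rfl) (f.le hH) (f.ker ▸ O1) ?_
      rw [f.top, ← sy.eq_of_pig this]
      exact im_mono h.SH)
    obtain ⟨g, -, e⟩ := d.kf_cases k sy.O_le
    have key : ∀ s ∈ S, BG.cj g (VV (φ.app t) (φ.app s)) = O[{2}]((⊤ : Subgroup Y)) →
        φ.im (VV t s) = O[{2}]((⊤ : Subgroup Y)) := fun s hs e => by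
      rw [im_sup (f.le (zpowers_le.2 (SA h.tS))) (f.le (zpowers_le.2 (SA hs))),
        im_zpowers (f.mem (SA h.tS)), im_zpowers (f.mem (SA hs))]
      exact (cj_eq_iff.1 e).trans (cj_of_mem_N (O_norm _ _ (mem_top _)))
    exact e.imp (fun e => h.mr_sol hA hH f (key a h.aS e) ne)
      fun e => h.symm.mr_sol hA hH f (key b h.bS e) ne
  · obtain ⟨E, m⟩ := f.exists_md h.dg h.ih hA.1 s
    have hL := h.dg.lay_ne (L := A ⊓ C[O'[A]]) inf_le_left (fun e => m.ns ((e.im φ).of_le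
      (m.le_of_norm (le_top.trans (f.nrm (normI (normG _) (normC (O_norm _ _))))) (ne_bot_of_mem
        (app_mem_im ⟨SA h.tS, le_C1_iff.1 O1⟩ (f.mem (SA h.tS))) (ne_one_of_ord2 d.ot)))))
      (inf_le_right.trans (centS (O_F_le _ _)))
    have c := h.dg.ncyc sA hL
    have tL := (h.mem_of_ncyc inf_le_left c).2
    exact (h.mem_or (SA.trans (Lay_normal A)) c).imp (h.mr_lay hA hH ⟨f, h.dg, m, hL⟩ tL)
      (h.symm.mr_lay hA hH ⟨f, h.dg, m, hL⟩ tL)

theorem not_cent (h1 : O'[C1[t]] ≤ C1[a]) (h2 : O'[C1[t]] ≤ C1[b]) : False := by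
  have key : ∀ {a b}, MC S t a b l → O'[C1[t]] ≤ C1[a] → ∃ g ∈ N[O'[C1[t]]], g * t * g⁻¹ = a :=
    fun {a b} h e => by
    obtain ⟨g, g1, g2⟩ := h.exists_g
    exact ⟨g, inf_eq_left.2 e ▸ h.NB (h.mem_N g1 g2), g1⟩
  obtain ⟨M, hM, e⟩ := h.exists_max' h.U_ne (O_pig _ _)
  exact hM.1 (top_le_iff.1 ((h.one_class (O_norm _ _) (key h h1) (key h.symm h2)).ge.trans e))

theorem not_mr (hA : IsCoatom A) (hH : C1[t] ≤ A) : ¬ MR t a b l A := by
  rintro ⟨l1, ⟨g, gA, g1⟩, r, e, c⟩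
  have := h.simple
  set U := O'[C1[t]]
  have oU : PiG {2}ᶜ U := O_pig _ _
  have o1 := odd_iff.1 (oU.relIndex (U ⊓ C1[a]))
  have o2 := odd_iff.1 (oU.relIndex (U ⊓ C1[b]))
  have or : Odd r := (Nat.odd_mul.1 (e ▸ o2)).2
  have r3 : 3 ≤ r := by
    by_contra hc
    obtain rfl : r = 1 := by obtain ⟨k, hk⟩ := or; omega
    rcases c with ⟨c, -⟩ | ⟨q, τ, ε, -, -, c, -, c', -⟩
    · rw [inf_eq_left.2 c, relIndex_self, relIndex_eq_one] at e
      exact h.not_cent c (e.trans inf_le_right)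
    · have := Int.le_of_dvd (by norm_num) c'; omega
  obtain ⟨rfl, n⟩ := h.rho l1 or r3 (by rw [h.kk_eq, h.symm.kk_eq, e, mul_assoc])
  rw [h.kk_eq] at n
  change (r = 3 ∧ _ = 105 * (2 * (U ⊓ C1[a]).relIndex U) ^ 2) ∨
    (r = 5 ∧ _ = 189 * (2 * (U ⊓ C1[a]).relIndex U) ^ 2) at n
  have a1 : (U ⊓ C1[a]).relIndex U = 1 ∧ (r = 5 → A = N[VV t a]) := by
    rcases c with ⟨c, c'⟩ | ⟨q, τ, ε, c0, c1, c2, c3, c4, c5⟩
    · exact ⟨by rw [inf_eq_left.2 c, relIndex_self], fun _ => c'⟩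
    generalize (U ⊓ C1[a]).relIndex U = k at *
    obtain ⟨j, rfl⟩ := o1
    have := Int.le_of_dvd (by omega) c4
    rcases n with ⟨rfl, n⟩ | ⟨rfl, n⟩
    · omega
    · exfalso
      by_cases j0 : j = 0
      · rw [show τ + ε = 3 by omega] at c4; omega
      obtain rfl : j = 1 := by omega
      rw [show τ + ε = 5 by omega, show (q : ℤ) = 11 by omega] at c5; omega
  obtain ⟨a1, a2⟩ := a1
  rw [a1] at e n
  have U1 : U ≤ C1[a] := (relIndex_eq_one.1 a1).trans inf_le_right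
  have rp : r.Prime := by rcases n with ⟨rfl, -⟩ | ⟨rfl, -⟩ <;> norm_num
  have bU : b ∈ N[U] := O_norm _ _ (h.SH h.bS)
  obtain ⟨u, hu, hu'⟩ := SetLike.not_le_iff_exists.1 (h.not_cent U1)
  have iv : Iv b (zpowers (u * b * u⁻¹ * b⁻¹)) := iv_zpowers (by
    simp [mul_assoc, inv_of_ord2 h.ob, ← mul_assoc b b, h.b2])
  have IU : zpowers (u * b * u⁻¹ * b⁻¹) ≤ U := zpowers_le.2 (by
    simpa [mul_assoc] using mul_mem hu (conj_mem bU (inv_mem hu)))
  have I1 : zpowers (u * b * u⁻¹ * b⁻¹) ≠ ⊥ := fun e => hu' (mem_C1.2 (by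
    rwa [zpowers_eq_bot, mul_inv_eq_one, mul_inv_eq_iff_eq_mul] at e))
  generalize zpowers (u * b * u⁻¹ * b⁻¹) = I at *
  have cI : #I = r := ((Nat.dvd_prime rp).1 (by simpa [e] using iv.card_dvd IU oU bU)).resolve_left
    (one_lt_card I1).ne'
  have pr : IsProd I (U ⊓ C1[b]) U := isProd_of_card IU inf_le_left (by
    rw [eq_bot_iff.2 ((inf_le_inf_left _ inf_le_right).trans (iv.inf_bot (oU.of_le IU)).le),
      card_bot', ← card_mul_relIndex (inf_le_left : U ⊓ C1[b] ≤ U), e, cI]; nlinarith)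
  have nI : U ⊓ C1[b] ≤ N[I] := fun c hc => mem_N_of fun i hi =>
    iv.mem_of_prod oU bU pr (conj_mem (normG U hc.1) (IU hi)) (by
      calc _ = (b * c) * i * (b * c)⁻¹ := by group
        _ = c * (b * i * b⁻¹) * c⁻¹ := by rw [← mem_C1.1 hc.2]; group
        _ = _ := by rw [iv i hi]; group)
  have cI' : U ⊓ C1[b] ≤ C[I] := relIndex_eq_one.1 (((oU.of_le inf_le_left).relIndex _).eq_one
    (PiN.compl_compl ((show PiN {2} (r - 1) by
      rcases n with ⟨rfl, -⟩ | ⟨rfl, -⟩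
      exacts [pin_single_self Nat.prime_two, pin_pow_self Nat.prime_two 2]).of_dvd
      (idx_cent_prime rp cI nI))))
  have nB : C1[t] ≤ N[U ⊓ C1[b]] := h.sd.sup.ge.trans (sup_le (pr.sup.ge.trans (sup_le
    (cents_norm (cent_symm cI')) (normG _))) (h.le_of (C_le_N _ (le_C1_iff.1 (inf_le_left.trans U1)))
      (C_le_N _ (le_C1_iff.1 inf_le_right))))
  have B0 : U ⊓ C1[b] = ⊥ := by_contra fun B0 => by
    obtain ⟨M, hM, le⟩ := h.exists_max' B0 (oU.of_le inf_le_left)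
    obtain ⟨k, k1, k2⟩ := h.symm.exists_g
    have kM := le (h.symm.NB (h.symm.mem_N k1 k2))
    rcases h.mr hM (nB.trans le) (fun e => h.symm.ant (by
      rw [← k1, mem_C1.1 (e kM), mul_inv_cancel_right])) with ⟨-, c, -⟩ | ⟨-, -, r', e', -⟩
    · exact hM.1 (h.one_class (nB.trans le) c ⟨k, kM, k1⟩)
    · change (U ⊓ C1[a]).relIndex U = (U ⊓ C1[b]).relIndex U * r' at e'
      rw [a1, e] at e'
      have := Nat.eq_one_of_mul_eq_one_right e'.symm; omega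
  rw [B0, relIndex_bot_left] at e
  have cG := (C1[t]).card_mul_index
  have cH := h.card_H
  change _ = 4 * 2 * #U at cH
  rcases n with ⟨rfl, n⟩ | ⟨rfl, n⟩
  · exact h.nk (Or.inr (H9.alt_2520 (by rw [← cG, cH, e]; omega)))
  · have eA := a2 rfl
    have nU : N[U] = A := N_coatom' hA ((O_le _ _).trans hH) (eA ▸ inf_eq_left.2 U1 ▸ h.NB) h.U_ne
    have := Fact.mk Nat.prime_five
    have sy : Syl 5 U ⊤ := syl_mk Nat.prime_five le_top (pig_of_card' Nat.prime_five (by omega)) (by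
      have := U.card_mul_index
      rw [e, ← cG, cH, e] at this
      rw [relIndex_top_right]; omega)
    have m := ((syl_iff Nat.prime_five).1 sy).relIndex_normalizer_modEq
    rw [nU, relIndex_top_right] at m
    have i1 := relIndex_mul_index hH
    have i2 : (C1[t]).relIndex A ≤ 3 := by
      classical
      refine (Dih.relIndex_le_card (fun x => x * t * x⁻¹) {t, a, t * a} (fun x hx => ?_)
        fun x _ y _ e => mem_C1.2 ?_).trans Finset.card_le_three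
      · have := h.memV.1 (conj_mem (eA.le hx) (l_mem_VV t a))
        simpa [ne_one_of_ord2 h.ot] using this
      · calc _ = x⁻¹ * (y * t * y⁻¹) * y := by group
          _ = _ := by rw [← e]; group
    change _ % 5 = 1 at m
    generalize (C1[t]).relIndex A = i at *
    interval_cases i <;> omega

theorem maxH : IsCoatom C1[t] := by
  obtain ⟨A, hA, le⟩ := (eq_top_or_exists_le_coatom _).resolve_left h.H_ne
  by_cases c : A ≤ C1[t]
  · exact le_antisymm c le ▸ hA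
  · exact ((h.mr hA le c).elim (h.not_mr hA le) (h.symm.not_mr hA le)).elim

end MC

end Cfsg.Agent.GW
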