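import Cfsg.Agent.GW.Ch4
import Cfsg.Agent.GW.Ar
import Cfsg.Agent.GW.Mod
import Cfsg.Agent.PF.FT
import Cfsg.Agent.H9.Sm8
import Cfsg.Agent.S0494

/-! Groups with dihedral Sylow 2-subgroups: the consequences of the character theory. -/

set_option autoImplicit false
set_option linter.unusedVariables false
set_option linter.unusedSectionVars false

namespace Cfsg.Agent.GW

open Cfsg Cfsg.Agent.BG Cfsg.Agent.Dih Subgroup PHom
open Cfsg.Agent.Inv (ord2_iff sq_of_ord2 ne_one_of_ord2 inv_of_ord2 orderOf_conj' orderOf_conj''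
  orderOf_isConj)
open scoped commutatorElement

universe u

/-- The groups in the conclusion of the theorem. -/
def Kn (G : Type*) [Group G] : Prop :=
  (∃ (F : Type) (_ : Field F) (_ : Fintype F), Odd (Fintype.card F) ∧ 3 < Fintype.card F ∧
    Nonempty (G ≃* Matrix.ProjectiveSpecialLinearGroup (Fin 2) F)) ∨
  Nonempty (G ≃* alternatingGroup (Fin 7))

/-- The simple groups of smaller order satisfy the theorem. -/
def IH (G : Type u) : Prop :=
  ∀ (Y : Type u) [Group Y] [Finite Y], Nat.card Y < Nat.card G → IsSimpleGroup Y →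
    (¬ ∀ a b : Y, a * b = b * a) → ∀ (S : Subgroup Y) (t a b : Y) (l : ℕ), DT S t a b l →
    Syl 2 S ⊤ → Kn Y

/-- A minimal counterexample. -/
structure MC {G : Type u} [Group G] (S : Subgroup G) (t a b : G) (l : ℕ) : Prop
    extends GS S t a b l where
  simple : IsSimpleGroup G
  nab : ¬ ∀ a b : G, a * b = b * a
  nk : ¬ Kn G
  ih : IH G

variable {G : Type u} [Group G] [Finite G] {S : Subgroup G} {t a b : G} {l : ℕ}

theorem sol_odd {A : Subgroup G} (h : PiG {2}ᶜ A) : Sol A := PF.feit_thompson (odd_iff.1 h)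

theorem PNil.sol2 {A : Subgroup G} (h : PNil 2 A) : Sol A := by
  obtain ⟨P, hP⟩ := syl_exists Nat.prime_two A
  exact (h.sdprod hP).sup ▸ (sol_odd (O_pig _ _)).sup_l hP.pi.sol (h.sdprod hP).norm

theorem exists_proj {N B H : Subgroup G} (h : Sdprod N B H) : ∃ π : G → G, (∀ g ∈ H, π g ∈ B) ∧
    (∀ g ∈ H, ∀ k ∈ H, π (g * k) = π g * π k) ∧ (∀ n ∈ N, π n = 1) ∧ ∀ z ∈ B, π z = z := by
  classical
  have ex : ∀ g, ∃ z, g ∈ H → z ∈ B ∧ g * z⁻¹ ∈ N := fun g => by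
    by_cases hg : g ∈ H
    · obtain ⟨n, hn, z, hz, rfl⟩ := h.prod.ex g hg
      exact ⟨z, fun _ => ⟨hz, by simpa⟩⟩
    · exact ⟨1, fun e => absurd e hg⟩
  choose π hπ using ex
  have un : ∀ g ∈ H, ∀ z ∈ B, g * z⁻¹ ∈ N → π g = z := fun g hg z hz e => by
    rw [← mul_inv_eq_one, ← mem_bot, ← h.inf]
    exact mem_inf.2 ⟨by convert mul_mem (inv_mem (hπ g hg).2) e using 1; group,
      mul_mem (hπ g hg).1 (inv_mem hz)⟩
  refine ⟨π, fun g hg => (hπ g hg).1, fun g hg k hk => un _ (mul_mem hg hk) _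
    (mul_mem (hπ g hg).1 (hπ k hk).1) ?_, fun n hn => un _ (h.left hn) _ (one_mem _) (by simpa),
    fun z hz => un _ (h.right hz) _ hz (by simp)⟩
  convert mul_mem (hπ g hg).2 (conj_mem (h.norm (hπ g hg).1) (hπ k hk).2) using 1; group

theorem index_modEq {p : ℕ} (hp : p.Prime) {y : G} (hy : orderOf y = p) (hH : y ∈ C1[t])
    (h : ∀ g : G, y * (g * t * g⁻¹) = g * t * g⁻¹ * y → g ∈ C1[t]) :
    (C1[t]).index ≡ 1 [MOD p] := by
  have := Fact.mk hp
  have e := (IsPGroup.of_card (n := 1) (G := zpowers y) (by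
    rw [Nat.card_zpowers, hy, pow_one])).card_modEq_card_fixedPoints (G ⧸ C1[t])
  rw [index_eq_card]
  convert e using 1
  symm
  rw [Nat.card_eq_one_iff_exists]
  refine ⟨⟨((1 : G) : G ⧸ C1[t]), fun ⟨z, hz⟩ => ?_⟩, fun ⟨q, hq⟩ => Subtype.ext ?_⟩
  · change ((z * 1 : G) : G ⧸ C1[t]) = _
    rw [QuotientGroup.eq]
    simpa using zpowers_le.2 hH hz
  · induction q using QuotientGroup.induction_on with | _ g => ?_
    have e : ((y * g : G) : G ⧸ C1[t]) = g := hq ⟨y, mem_zpowers y⟩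
    rw [QuotientGroup.eq] at e ⊢
    have e2 := mem_C1.1 (inv_mem e)
    simpa using h g (by
      rw [← mul_left_inj g, ← mul_right_inj g⁻¹]
      convert e2 using 1 <;> group)

namespace GS

variable (h : GS S t a b l)
include h

theorem solC {u : G} (hu : orderOf u = 2) : Sol C1[u] := PNil.sol2 (h.pnil hu)

theorem kk_pos : 0 < kk t a := relIndex_pos _ _

theorem kk_one (h1 : l = 1) : kk t b = kk t a := by
  rw [h.one_b h1, kk, kk, ← inf_relIndex_right, ← inf_relIndex_right C1[a]]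
  congr 1
  ext g
  simp only [mem_inf, mem_C1]
  refine and_congr_left fun e => ?_
  rw [← mul_assoc, e, mul_assoc, mul_assoc, mul_right_inj]

theorem num0 : ∃ n₂ n₃ n₄ : ℤ, 1 + n₂ + n₃ + n₄ = 0 ∧ ((C1[t]).index : ℚ) *
      (1 + (n₂ : ℚ)⁻¹ + (n₃ : ℚ)⁻¹ + (n₄ : ℚ)⁻¹) = 8 * kk t a * kk t b ∧
      (4 * l : ℤ) ∣ n₂ - 1 ∧ (4 * l : ℤ) ∣ n₃ - (if l = 1 then 1 else 2 * l - 1 : ℤ) ∧
      (4 * l : ℤ) ∣ n₄ - (if l = 1 then 1 else 2 * l - 1 : ℤ) ∧
      (l ≠ 1 → ((C1[t]).index : ℤ) * (n₂ - 1) ^ 2 =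
        2 * (kk t a + kk t b) ^ 2 * (n₂ * (n₂ + 1))) ∧
      (IsSimpleGroup G → (¬ ∀ a b : G, a * b = b * a) → (3 ≤ |n₂| ∧ 3 ≤ |n₃| ∧ 3 ≤ |n₄|) ∧
        ((∃ u ∈ O'[C1[t]], u ≠ 1 ∧ u * a = a * u) → 5 ≤ |n₂| ∧ 5 ≤ |n₃| ∧ 5 ≤ |n₄|)) := by
  have := Fintype.ofFinite G
  have : NeZero (2 * l) := ⟨by have := h.lpos; omega⟩
  obtain ⟨κ, c⟩ := h.exists_CS
  have := c.ch0 h.SH h.xS h.aS h.sd.inf h.card
    (fun s hs hK => h.dh.ord_out hs fun e => hK (mem_sup_right e))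
    (h.dh.l_cases.imp_right fun ⟨m, e⟩ => ⟨m, by omega⟩)
  rwa [h.xa] at this

theorem N_ge : 3 * (kk t a * kk t b) ≤ (C1[t]).index := by
  obtain ⟨x, y, z, e, f, ⟨i, hi⟩, ⟨j, hj⟩, ⟨k, hk⟩, -⟩ := h.num0
  have := f_le e ⟨2 * l * i, by linarith⟩
    (by split_ifs at hj; exacts [⟨2 * l * j, by linarith⟩, ⟨2 * l * j + l - 1, by linarith⟩])
    (by split_ifs at hk; exacts [⟨2 * l * k, by linarith⟩, ⟨2 * l * k + l - 1, by linarith⟩])
  have := mul_le_mul_of_nonneg_left this (Nat.cast_nonneg (C1[t]).index)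
  rw [← Nat.cast_le (α := ℚ)]; push_cast; linarith

theorem exists_lin {N : Subgroup G} (h1 : C1[t] ≤ N[N]) (h2 : S ≤ N) (h3 : ¬ O'[C1[t]] ≤ N) :
    ∃ ν, Lin t (b * a) ν ∧ (∀ n ∈ C1[t], n ∈ N → ν n = 1) ∧ ∃ u ∈ O'[C1[t]], ν u ≠ 1 := by
  classical
  set H := C1[t]
  have : (N.subgroupOf H).Normal := normal_subgroupOf h1
  have s : Group.IsSolvable H := h.solC h.ot
  have nt : Nontrivial (H ⧸ N.subgroupOf H) := QuotientGroup.nontrivial_iff.2 fun e =>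
    h3 ((O_le _ _).trans (subgroupOf_eq_top.1 e))
  obtain ⟨q, -, hq⟩ := SetLike.exists_of_lt (Group.IsSolvable.commutator_lt_top_of_nontrivial
    (H ⧸ N.subgroupOf H))
  obtain ⟨φ, hφ⟩ := CommGroup.exists_apply_ne_one_of_hasEnoughRootsOfUnity
    (Abelianization (H ⧸ N.subgroupOf H)) ℂ (a := Abelianization.of q)
    fun e => hq (by rwa [← Abelianization.ker_of, MonoidHom.mem_ker])
  let f : H →* ℂˣ := φ.comp (Abelianization.of.comp (QuotientGroup.mk' _))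
  let ν : G → ℂ := fun g => if hg : g ∈ H then (f ⟨g, hg⟩ : ℂ) else 1
  have e : ∀ g (hg : g ∈ H), ν g = f ⟨g, hg⟩ := fun g hg => dif_pos hg
  have eN : ∀ n ∈ H, n ∈ N → ν n = 1 := fun n hn hN => by
    rw [e n hn]
    simp only [f, MonoidHom.comp_apply, QuotientGroup.mk'_apply]
    rw [(QuotientGroup.eq_one_iff _).2 (mem_subgroupOf.2 hN)]; simp
  have mul : ∀ g ∈ H, ∀ k ∈ H, ν (g * k) = ν g * ν k := fun g hg k hk => by
    rw [e g hg, e k hk, e _ (mul_mem hg hk), ← Units.val_mul, ← map_mul]; rfl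
  refine ⟨ν, ⟨eN 1 (one_mem _) (one_mem _), mul, fun u hu h2' => eN u hu ?_,
    eN _ (h.SH h.xS) (h2 h.xS)⟩, eN, ?_⟩
  · obtain ⟨g, hg, e⟩ := h.sylH.sub_cj Nat.prime_two (zpowers_le.2 hu)
      (pig_zpowers.2 (pie_of_pow Nat.prime_two (by rwa [pow_two])))
    exact cj_le_of_mem h2 (h1 hg) (e (mem_zpowers u))
  · by_contra hc
    push Not at hc
    induction q using QuotientGroup.induction_on with | _ g => ?_
    obtain ⟨u, hu, w, hw, e'⟩ := h.sd.prod.ex g g.2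
    have := mul u (O_le _ _ hu) w (h.SH hw)
    rw [← e', hc u hu, eN w (h.SH hw) (h2 hw), mul_one, e g g.2] at this
    exact hφ (Units.val_eq_one.1 this)

end GS

theorem Lin.exists_cent {x : G} {ν : G → ℂ} (hν : Lin t x ν) {U : Subgroup G}
    (ho : PiG {2}ᶜ U) (hU : U ≤ C1[t]) (ha : orderOf a = 2) (aH : a ∈ C1[t]) (hn : a ∈ N[U]) {u : G}
    (hu : u ∈ U) (h1 : ν u ≠ 1) : ∃ z ∈ U ⊓ C1[a], ν z ≠ 1 := by
  have := Fintype.ofFinite G
  by_contra hc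
  push Not at hc
  let K : Subgroup G :=
    { carrier := {g | g ∈ C1[t] ∧ ν g = 1}
      mul_mem' := fun {g k} hg hk => ⟨mul_mem hg.1 hk.1, by rw [hν.mul g hg.1 k hk.1, hg.2, hk.2, mul_one]⟩
      one_mem' := ⟨one_mem _, hν.one⟩
      inv_mem' := fun {g} hg => ⟨inv_mem hg.1, by rw [← hν.conj_eq hg.1, hg.2, map_one]⟩ }
  have aK : zpowers a ≤ K := zpowers_le.2 ⟨aH, hν.inv a aH (sq_of_ord2 ha)⟩
  have := (cop_cent_prod (zpowers_le.2 hn) ((pig2 ha).coprime ho) (Or.inl (pig2 ha).sol)).sup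
  refine h1 ((this.ge.trans (sup_le (comm_le_iff.2 fun g hg k hk => ?_) fun z hz => ?_)) hu : u ∈ K).2
  · exact mul_mem (show g * k * g⁻¹ ∈ K from ⟨conj_mem (normG _ (hU hg)) (aK hk).1, by
      rw [hν.cj (hU hg) (aK hk).1, (aK hk).2]⟩) (inv_mem (aK hk))
  · exact ⟨hU hz.1, hc z (C_zpowers a ▸ hz)⟩

namespace MC

variable (h : MC S t a b l)
include h

theorem symm : MC S t b a l := ⟨h.toGS.symm, h.simple, h.nab, h.nk, h.ih⟩

theorem cj (g : G) : MC (cj g S) (g * t * g⁻¹) (g * a * g⁻¹) (g * b * g⁻¹) l :=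
  ⟨h.toGS.cj g, h.simple, h.nab, h.nk, h.ih⟩

theorem ncomm : ¬ IsMulCommutative G := fun e => h.nab fun a b => e.is_comm.comm a b

theorem N_le15 : (C1[t]).index ≤ 15 * (kk t a * kk t b) := by
  obtain ⟨x, y, z, e, f, -, -, -, -, g⟩ := h.num0
  obtain ⟨⟨i, j, k⟩, -⟩ := g h.simple h.nab
  have := mul_le_mul_of_nonneg_left (f_ge3 e i j k) (Nat.cast_nonneg (C1[t]).index)
  rw [← Nat.cast_le (α := ℚ)]; push_cast; linarith

theorem N_le_of {c : ℕ} (hc : 0 < c) (h1 : l ≠ 1) (h2 : c ≤ 2 * l + 1) :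
    ((C1[t]).index : ℚ) * (1 - 2 * (c : ℚ)⁻¹) ≤ 8 * kk t a * kk t b := by
  obtain ⟨x, y, z, e, f, ⟨i, hi⟩, ⟨j, hj⟩, ⟨k, hk⟩, -⟩ := h.num0
  rw [if_neg h1] at hj hk
  have l0 := h.lpos
  have key : ∀ w i d : ℤ, w - d = 4 * l * i → 0 < d → d ≤ 2 * l - 1 → 0 < w ∨ w ≤ -c :=
    fun w i d e d0 d1 => by
      by_cases c : 0 ≤ i
      · left; nlinarith
      · right; nlinarith [show i ≤ -1 by omega]
  rw [← f]
  exact mul_le_mul_of_nonneg_left (f_ge hc e (key x i 1 hi one_pos (by omega))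
    (key y j _ hj (by omega) le_rfl) (key z k _ hk (by omega) le_rfl)) (Nat.cast_nonneg _)

theorem N_le40 (h1 : l ≠ 1) : 3 * (C1[t]).index ≤ 40 * (kk t a * kk t b) := by
  have := h.N_le_of (c := 5) (by norm_num) h1 (by have := h.lpos; omega)
  rw [← Nat.cast_le (α := ℚ)]; push_cast at this ⊢; linarith

theorem N_le72 (h1 : 4 ≤ l) : 7 * (C1[t]).index ≤ 72 * (kk t a * kk t b) := by
  have := h.N_le_of (c := 9) (by norm_num) (by omega) (by omega)
  rw [← Nat.cast_le (α := ℚ)]; push_cast at this ⊢; linarith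

theorem N_le136 : (C1[t]).index ≤ 136 * kk t a ^ 2 := by
  by_cases h1 : l = 1
  · have := h.N_le15; rw [h.kk_one h1] at this; nlinarith
  have f := h.N_le40 h1
  obtain ⟨x, y, z, -, -, ⟨i, hi⟩, -, -, e, g⟩ := h.num0
  obtain ⟨⟨i', -⟩, -⟩ := g h.simple h.nab
  obtain ⟨m, hm⟩ := h.dh.l_cases.resolve_left h1
  have e := e h1
  have x0 : x ≤ -7 ∨ 9 ≤ x := by
    have : x - 1 = 8 * (m * i) := by rw [hi, hm]; push_cast; ring
    rw [le_abs] at i'; omega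
  have c : 21 * (x - 1) ^ 2 ≤ 32 * (x * (x + 1)) := by rcases x0 with c | c <;> nlinarith
  have c0 : 0 < (x - 1) ^ 2 := by rcases x0 with c | c <;> nlinarith
  have k1 := h.kk_pos
  have k2 := h.symm.kk_pos
  generalize (C1[t]).index = N at *
  generalize kk t a = k at *
  generalize kk t b = k' at *
  have d : 21 * ((k : ℤ) + k') ^ 2 ≤ 16 * N := by
    refine le_of_mul_le_mul_right ?_ c0
    nlinarith [mul_le_mul_of_nonneg_left c (sq_nonneg ((k : ℤ) + k'))]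
  have d2 : 63 * k' ≤ 640 * k := by
    refine le_of_mul_le_mul_right ?_ k2
    zify at f ⊢; nlinarith
  nlinarith

theorem rho (h1 : l ≠ 1) {r : ℕ} (hr : Odd r) (h3 : 3 ≤ r) (e : kk t b = kk t a * r) :
    l = 2 ∧ (r = 3 ∧ 4 * (C1[t]).index = 105 * kk t a ^ 2 ∨
      r = 5 ∧ 4 * (C1[t]).index = 189 * kk t a ^ 2) := by
  obtain ⟨x, y, z, s, f, ⟨i, hi⟩, ⟨j, hj⟩, ⟨k, hk⟩, e1, g⟩ := h.num0
  obtain ⟨⟨i', j', k'⟩, -⟩ := g h.simple h.nab
  obtain ⟨m, hm⟩ := h.dh.l_cases.resolve_left h1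
  have e1 := e1 h1
  rw [if_neg h1] at hj hk
  have k1 := h.kk_pos
  rw [e] at f e1
  generalize (C1[t]).index = N at *
  generalize kk t a = c at *
  have hy : y + 1 = 4 * (m * (2 * j + 1)) := by rw [hm] at hj; push_cast at hj; linarith
  have hz : z + 1 = 4 * (m * (2 * k + 1)) := by rw [hm] at hk; push_cast at hk; linarith
  have hx : x - 1 = 8 * (m * i) := by rw [hi, hm]; push_cast; ring
  rw [le_abs] at i' j' k'
  have x0 : (x : ℚ) ≠ 0 := Int.cast_ne_zero.2 (by omega)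
  have y0 : (y : ℚ) ≠ 0 := Int.cast_ne_zero.2 (by omega)
  have z0 : (z : ℚ) ≠ 0 := Int.cast_ne_zero.2 (by omega)
  have f2 : (N : ℤ) * (x * y * z + y * z + x * z + x * y) = 8 * c * (c * r) * (x * y * z) := by
    rw [← Int.cast_inj (α := ℚ)]; push_cast at f ⊢; rw [← f]; field_simp
  obtain rfl : x = -1 - y - z := by omega
  have := rho_cases (u := y + 1) (w := z + 1) (r := r) ⟨_, hy⟩ ⟨_, hz⟩ (by omega) (by omega)
    (by omega) (by omega) (by exact_mod_cast hr) (by exact_mod_cast h3) (by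
      refine mul_left_cancel₀ (a := 2 * (c : ℤ) ^ 2 * (-1 - y - z)) (mul_ne_zero (by positivity)
        (by omega)) ?_
      push_cast at e1
      linear_combination (y + z) * (y + 1) * (z + 1) * e1 + (y + z + 2) ^ 2 * f2)
  have m0 : 0 < m := by have := h.lpos; omega
  have lm : ∀ d : ℤ, (m : ℤ) ^ 2 ∣ d → (2 * m : ℤ) ∣ 4 → Odd d → l = 2 := fun d e1 e2 o => by
    have : m ≤ 2 := by have := Int.le_of_dvd (by norm_num) e2; omega
    interval_cases m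
    · exact hm
    · obtain ⟨w, rfl⟩ := o; omega
  push_cast at e1
  rcases this with ⟨r3, s1, p⟩ | ⟨r3, s1, p⟩
  · refine ⟨lm (-45) ⟨(2 * j + 1) * (2 * k + 1), by rw [hy, hz] at p; linarith⟩
      ⟨j + k + 1, by rw [hy, hz] at s1; linarith⟩ (by decide), Or.inl ⟨by omega, ?_⟩⟩
    rw [show -1 - y - z = -15 by omega, r3] at e1
    zify; linarith
  · refine ⟨lm (-35) ⟨(2 * j + 1) * (2 * k + 1), by rw [hy, hz] at p; linarith⟩
      ⟨2 * (j + k + 1), by rw [hy, hz] at s1; linarith⟩ (by decide), Or.inr ⟨by omega, ?_⟩⟩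
    rw [show -1 - y - z = -7 by omega, r3] at e1
    zify; linarith

end MC

end Cfsg.Agent.GW
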