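import Cfsg.Agent.GW.Num
import Cfsg.Agent.H9.Sm5

/-! Groups with dihedral Sylow 2-subgroups: the consequences of the character theory, II. -/

set_option autoImplicit false
set_option linter.unusedVariables false
set_option linter.unusedSectionVars false

namespace Cfsg.Agent.GW

open Cfsg Cfsg.Agent.BG Cfsg.Agent.Dih Subgroup PHom
open Cfsg.Agent.Inv (ord2_iff sq_of_ord2 ne_one_of_ord2 inv_of_ord2 orderOf_conj' orderOf_conj''
  orderOf_isConj)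
open scoped commutatorElement

universe u

variable {G : Type u} [Group G] [Finite G] {S : Subgroup G} {t a b : G} {l : ℕ}

theorem C1_subgroupOf {M : Subgroup G} (x : M) : C1[x] = (C1[(x : G)]).subgroupOf M := by
  ext g; rw [mem_subgroupOf, mem_C1, mem_C1, Subtype.ext_iff]; rfl

theorem Syl.subgroupOf' {p : ℕ} {P M : Subgroup G} (h : Syl p P M) : Syl p (P.subgroupOf M) ⊤ := by
  have := h.im (φ := rst M) le_rfl
  rwa [rst_im, rst_im_self] at this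

theorem DT.mem_N (h : DT S t a b l) {g : G} (g1 : g * t * g⁻¹ = a) (g2 : g * a * g⁻¹ = t * a) :
    g ∈ N[VV t a] := mem_N_of_cj_le (by
  rw [cj_VV, g1, g2]
  exact VV_le.2 ⟨r_mem_VV t a, mul_mem (l_mem_VV t a) (r_mem_VV t a)⟩)

theorem DT.g3 (h : DT S t a b l) {g : G} (g1 : g * t * g⁻¹ = a) (g2 : g * a * g⁻¹ = t * a) :
    g * (t * a) * g⁻¹ = t := by
  rw [show g * (t * a) * g⁻¹ = g * t * g⁻¹ * (g * a * g⁻¹) by group, g1, g2, ← h.at', ← mul_assoc,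
    h.a2, one_mul]

theorem DT.tta (h : DT S t a b l) : t * (t * a) = a := by rw [← mul_assoc, h.t2, one_mul]
theorem DT.tant (h : DT S t a b l) : t * a ≠ t := fun e => ne_one_of_ord2 h.oa (by simpa using e)
theorem DT.tana (h : DT S t a b l) : t * a ≠ a := fun e => ne_one_of_ord2 h.ot (by simpa using e)

theorem DT.C1_ta (h : DT S t a b l) : C1[t] ⊓ C1[t * a] = C1[t] ⊓ C1[a] := by
  ext g
  simp only [mem_inf, mem_C1]
  refine and_congr_right fun e => ?_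
  rw [← mul_assoc, e, mul_assoc, mul_assoc, mul_right_inj]

/-- an element acting nontrivially and with odd order on a four-group cycles its involutions -/
theorem DT.exists_g (h : DT S t a b l) {g : G} (hg : g ∈ N[VV t a]) (ho : Odd (orderOf g))
    (hc : g ∉ C[VV t a]) : ∃ k ∈ zpowers g, k * t * k⁻¹ = a ∧ k * a * k⁻¹ = t * a := by
  have fix : ∀ k ∈ zpowers g, ∀ v ∈ VV t a, v ≠ 1 → k * v * k⁻¹ = v → k ∈ C[VV t a] :=
    fun k hk v hv v1 e => Inv.mem_centralizer_of_sq_of_odd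
      (ho.of_dvd_nat (orderOf_dvd_of_mem_zpowers hk))
      (Inv.kf_sq_mem_centralizer h.kf hv v1 (zpowers_le.2 hg hk) e)
  have t1 := ne_one_of_ord2 h.ot
  have a1 := ne_one_of_ord2 h.oa
  have key : ∀ k ∈ zpowers g, k * t * k⁻¹ = a → k * a * k⁻¹ = t * a := fun k hk e => by
    rcases h.memV.1 (conj_mem (zpowers_le.2 hg hk) (r_mem_VV t a)) with e2 | e2 | e2 | e2
    · exact absurd (by simpa using e2) a1
    · have := fix k hk (t * a) (mul_mem (l_mem_VV t a) (r_mem_VV t a)) (ne_one_of_ord2 h.ota) (by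
        rw [show k * (t * a) * k⁻¹ = k * t * k⁻¹ * (k * a * k⁻¹) by group, e, e2, h.at'])
      rw [← mem_C.1 this t (l_mem_VV t a)] at e
      exact absurd (by simpa using e) h.ant.symm
    · exact absurd (by simpa using e.trans e2.symm) h.ant.symm
    · exact e2
  rcases h.memV.1 (conj_mem hg (l_mem_VV t a)) with e | e | e | e
  · exact absurd (by simpa using e) t1
  · exact absurd (fix g (mem_zpowers g) t (l_mem_VV t a) t1 e) hc
  · exact ⟨g, mem_zpowers g, e, key g (mem_zpowers g) e⟩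
  · refine ⟨g⁻¹, inv_mem (mem_zpowers g), ?_, key _ (inv_mem (mem_zpowers g)) ?_⟩ <;>
    · rcases h.memV.1 (conj_mem hg (r_mem_VV t a)) with e2 | e2 | e2 | e2
      · exact absurd (by simpa using e2) a1
      · rw [← e2]; group
      · exact absurd (fix g (mem_zpowers g) a (r_mem_VV t a) a1 e2) hc
      · exact absurd (by simpa using e.trans e2.symm) h.ant.symm

theorem DT.gs (h : DT S t a b l) (hS : Syl 2 S ⊤) (hG : ∀ H : Subgroup G, H.index ≠ 2) :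
    GS S t a b l := by
  obtain ⟨P, rfl⟩ := hS.exists_sylow_top Nat.prime_two
  exact ⟨h, hS, fun u v hu hv => h.dh.one_class hG hu hv⟩

theorem DT.exists_cj (h : DT S t a b l) {M : Subgroup G} (hS : Syl 2 S M) {u : G} (hu : u ∈ M)
    (h2 : orderOf u = 2) : ∃ g ∈ M, g * t * g⁻¹ = u ∨ g * a * g⁻¹ = u ∨ g * b * g⁻¹ = u := by
  obtain ⟨g, hg, e⟩ := hS.sub_cj Nat.prime_two (zpowers_le.2 hu) (pig2 h2)
  obtain ⟨w, hw, rfl⟩ := exists_of_mem_cj (e (mem_zpowers u))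
  rw [orderOf_conj'] at h2
  rcases h.invol hw h2 with rfl | ⟨k, hk, e⟩
  · exact ⟨g, hg, Or.inl rfl⟩
  · exact ⟨g * k, mul_mem hg (hS.le hk), Or.inr (e.imp (fun e => by rw [← e]; group)
      fun e => by rw [← e]; group)⟩

theorem DT.gs_sub (h : DT S t a b l) {M : Subgroup G} (hS : Syl 2 S M)
    (h1 : ∃ g ∈ M, g * t * g⁻¹ = a) (h2 : ∃ g ∈ M, g * t * g⁻¹ = b) :
    GS (S.subgroupOf M) ⟨t, hS.le h.tS⟩ ⟨a, hS.le h.aS⟩ ⟨b, hS.le h.bS⟩ l := by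
  have key : ∀ u : M, orderOf u = 2 → IsConj (⟨t, hS.le h.tS⟩ : M) u := fun u hu => by
    obtain ⟨g₁, m₁, e₁⟩ := h1
    obtain ⟨g₂, m₂, e₂⟩ := h2
    obtain ⟨g, hg, e | e | e⟩ := h.exists_cj hS u.2 (by rwa [orderOf_coe])
    · exact isConj_iff.2 ⟨⟨g, hg⟩, Subtype.ext e⟩
    · exact isConj_iff.2 ⟨⟨g * g₁, mul_mem hg m₁⟩, Subtype.ext (by simp [← e, ← e₁, mul_assoc])⟩
    · exact isConj_iff.2 ⟨⟨g * g₂, mul_mem hg m₂⟩, Subtype.ext (by simp [← e, ← e₂, mul_assoc])⟩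
  exact ⟨h.subtype hS.le, Syl.subgroupOf' hS, fun u v hu hv => (key u hu).symm.trans (key v hv)⟩

theorem GS.exists_g (h : GS S t a b l) : ∃ g, g * t * g⁻¹ = a ∧ g * a * g⁻¹ = t * a := by
  obtain ⟨P, rfl⟩ := h.syl.exists_sylow_top Nat.prime_two
  obtain ⟨g, g1, g2, g3⟩ := h.dh.oddAct_of_no_index_two (h.dh.no_index_two h.cls) 0
  rw [← h.V1] at g1 g3
  obtain ⟨k, -, e⟩ := h.toDT.exists_g g1 g2 g3
  exact ⟨k, e⟩

namespace MC

variable (h : MC S t a b l)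
include h

theorem H_ne : C1[t] ≠ ⊤ := fun e => by
  have := h.simple
  have : (zpowers t).Normal := normal_iff.2 (e ▸ norm_zpowers le_rfl)
  rcases this.eq_bot_or_eq_top with e | e
  · exact ne_one_of_ord2 h.ot (zpowers_eq_bot.1 e)
  · exact h.nab fun a b => mem_C_comm (abel_zpowers t) (e ▸ mem_top a) (e ▸ mem_top b)

theorem one_class {M : Subgroup G} (hM : C1[t] ≤ M) (h1 : ∃ g ∈ M, g * t * g⁻¹ = a)
    (h2 : ∃ g ∈ M, g * t * g⁻¹ = b) : M = ⊤ := by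
  by_contra hn
  have := h.simple
  have e := (h.toDT.gs_sub (h.syl.sub (h.SH.trans hM) le_top) h1 h2).N_ge
  have kk' : ∀ s (hs : s ∈ M), kk (⟨t, hM (mem_C1_self t)⟩ : M) ⟨s, hs⟩ = kk t s := fun s hs => by
    rw [kk, C1_subgroupOf, C1_subgroupOf, relIndex_subgroupOf hM]; rfl
  rw [kk', kk', C1_subgroupOf] at e
  have e2 := h.N_le15
  rw [← relIndex_mul_index hM] at e2
  have e3 : M.index ≤ 5 := Nat.le_of_mul_le_mul_left (c := (C1[t]).relIndex M)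
    (e2.trans (by change _ ≤ (C1[t]).relIndex M at e; omega)) (relIndex_pos _ _)
  have e4 := Nat.le_of_dvd (by decide)
    ((Inv.card_dvd_factorial_index M hn).trans (Nat.factorial_dvd_factorial e3))
  have h1 := H9.mem_sieve h.ncomm (a := 1) (b := 1092) Nat.card_pos
    (by norm_num [Nat.factorial] at e4; omega) (by norm_num)
  simp only [H9.sieve1, List.mem_cons, List.not_mem_nil, or_false] at h1
  obtain ⟨f⟩ := S0494.result (G := G) (by norm_num [Nat.factorial] at e4; omega)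
  have : Fact (Nat.Prime 5) := ⟨by norm_num⟩
  obtain ⟨f'⟩ := S0253.result (F := ZMod 5) (by simp)
  exact h.nk (Or.inl ⟨ZMod 5, inferInstance, inferInstance, by simp; decide, by simp,
    ⟨f.trans f'.symm⟩⟩)

theorem fused_lin {ν : G → ℂ} (hν : Lin t (b * a) ν)
    (h1 : ∃ g, g * t * g⁻¹ = a ∧ ∀ z ∈ O'[C1[t]] ⊓ C1[a], ν (g⁻¹ * z * g) = ν z)
    (h2 : ∃ g, g * t * g⁻¹ = b ∧ ∀ z ∈ O'[C1[t]] ⊓ C1[b], ν (g⁻¹ * z * g) = ν z)
    {u : G} (hu : u ∈ O'[C1[t]]) : ν u = 1 := by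
  by_contra hne
  have := h.simple
  have := Fintype.ofFinite G
  have : NeZero (2 * l) := ⟨by have := h.lpos; omega⟩
  obtain ⟨κ, c⟩ := h.exists_CS
  obtain ⟨z, hz, hne⟩ := hν.exists_cent (O_pig _ _) (O_le _ _) h.oa (h.SH h.aS)
    (O_norm _ _ (h.SH h.aS)) hu hne
  have key : ∀ s, (∃ g, g * t * g⁻¹ = s ∧ ∀ z ∈ O'[C1[t]] ⊓ C1[s], ν (g⁻¹ * z * g) = ν z) →
      ∀ k ∈ C1[t], ∃ g, g * t * g⁻¹ = k * s * k⁻¹ ∧ ∀ z ∈ O'[C1[t]],
        z * (k * s * k⁻¹) = k * s * k⁻¹ * z → ν (g⁻¹ * z * g) = ν z := by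
    rintro s ⟨g, rfl, e⟩ k hk
    refine ⟨k * g, by group, fun z hz hc => ?_⟩
    have := e (k⁻¹ * z * k) ⟨conj_mem' (O_norm _ _ hk) hz, mem_C1.2 (by
      rw [← mul_left_inj k⁻¹, ← mul_right_inj k]; convert hc using 1 <;> group)⟩
    rw [show (k * g)⁻¹ * z * (k * g) = g⁻¹ * (k⁻¹ * z * k) * g by group, this]
    simpa using hν.cj (inv_mem hk) (O_le _ _ hz)
  obtain ⟨x₁, x₂, x₃, x₄, e, f, i₁, i₂, i₃, i₄⟩ := c.ch1 h.nab hν (fun v hv => by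
    obtain ⟨v1, v2, v3⟩ := c.mem_II.1 hv
    obtain ⟨k, hk, rfl | rfl⟩ := c.cnj v v1 v2 v3
    exacts [key a h1 k hk, key _ (h.xa.symm ▸ h2) k hk]) hz.1 (mem_C1.1 hz.2) hne
  obtain ⟨y₂, y₃, y₄, e', f', -, -, -, -, g⟩ := h.num0
  obtain ⟨j₂, j₃, j₄⟩ := (g h.simple h.nab).2 ⟨z, hz.1, fun e => hne (e ▸ hν.one), mem_C1.1 hz.2⟩
  rw [h.xa, ← f'] at f
  have := mul_left_cancel₀ (Nat.cast_ne_zero.2 index_ne_zero_of_finite) f
  linarith [sum_lt e i₁ i₂ i₃ i₄, sum_gt e' j₂ j₃ j₄]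

theorem fused {N : Subgroup G} (n1 : C1[t] ≤ N[N]) (n2 : S ≤ N)
    (h1 : ∃ g, g * t * g⁻¹ = a ∧ ∀ z ∈ O'[C1[t]] ⊓ C1[a], z⁻¹ * (g⁻¹ * z * g) ∈ N)
    (h2 : ∃ g, g * t * g⁻¹ = b ∧ ∀ z ∈ O'[C1[t]] ⊓ C1[b], z⁻¹ * (g⁻¹ * z * g) ∈ N) :
    O'[C1[t]] ≤ N := by
  by_contra hc
  obtain ⟨ν, hν, k, u, hu, hne⟩ := h.exists_lin n1 n2 hc
  have key : ∀ s, (∃ g, g * t * g⁻¹ = s ∧ ∀ z ∈ O'[C1[t]] ⊓ C1[s], z⁻¹ * (g⁻¹ * z * g) ∈ N) →
      ∃ g, g * t * g⁻¹ = s ∧ ∀ z ∈ O'[C1[t]] ⊓ C1[s], ν (g⁻¹ * z * g) = ν z := by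
    rintro s ⟨g, rfl, e⟩
    refine ⟨g, rfl, fun z hz => ?_⟩
    have m : z⁻¹ * (g⁻¹ * z * g) ∈ C1[t] := mul_mem (inv_mem (O_le _ _ hz.1))
      (mem_cj.1 (by rw [cj_C1]; exact hz.2))
    have := hν.mul z (O_le _ _ hz.1) _ m
    rwa [k _ m (e z hz), mul_one, mul_inv_cancel_left] at this
  exact hne (h.fused_lin hν (key a h1) (key b h2) hu)

theorem bsw (hx : b * a ∈ C[O'[C1[t]]]) (hy : ∀ u ∈ O'[C1[t]], a * u * a⁻¹ = u⁻¹)
    (hc : ∀ u ∈ O'[C1[t]], u ≠ 1 → C1[u] ≤ C1[t]) : False := by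
  have := h.simple
  have := Fintype.ofFinite G
  obtain ⟨P, rfl⟩ := h.syl.exists_sylow_top Nat.prime_two
  obtain ⟨F, _, _, o, ⟨e⟩⟩ := BSW.psl h.dh (bsw_of h.dh (O := O'[C1[t]]) (by
    rw [← h.teq]; exact (pPrimeCore_map Nat.prime_two _).symm) hx hy (h.teq ▸ hc))
  refine h.nk (Or.inl ⟨F, _, _, o, ?_, ⟨e⟩⟩)
  by_contra h3
  have c := Class.card_PSL2 (F := F)
  have : Fintype.card F = 3 := by
    have := Fintype.one_lt_card (α := F); obtain ⟨k, hk⟩ := o; omega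
  rw [this, ← Nat.card_congr e.toEquiv] at c
  change 2 * _ = 24 at c
  have h1 := H9.mem_sieve h.ncomm (a := 1) (b := 1092) Nat.card_pos (by omega) (by norm_num)
  simp only [H9.sieve1, List.mem_cons, List.not_mem_nil, or_false] at h1
  omega

theorem U_ne : O'[C1[t]] ≠ ⊥ := fun e => h.bsw (by rw [e, C_bot]; trivial)
  (fun u hu => by rw [e, mem_bot] at hu; simp [hu]) fun u hu h1 => absurd (by rwa [e] at hu) h1

end MC

theorem MC.beta (h : MC S t a b 1) {K : Subgroup G} (hK : K ≤ O'[C1[t]]) (hn : C1[t] ≤ N[K])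
    (hinv : ∀ k ∈ K, a * k * a⁻¹ = k⁻¹) (hU : IsProd K (O'[C1[t]] ⊓ C1[a]) O'[C1[t]])
    (hC : ∀ y ∈ K, y ≠ 1 → C1[y] ≤ C1[t]) (hB : O'[C1[t]] ⊓ C1[a] ≠ ⊥) :
    #K ∣ (C1[t]).index := by
  have := h.simple
  have := Fintype.ofFinite G
  obtain ⟨κ, c⟩ := h.exists_CS
  have x : b * a = t := by simpa using h.teq.symm
  set B := O'[C1[t]] ⊓ C1[a] with hB'
  have BH : B ≤ C1[t] := inf_le_left.trans (O_le _ _)
  have BS : B ≤ C[S] := by rw [h.one_S rfl, C_VV]; exact le_inf BH inf_le_right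
  have oK : Odd #K := odd_iff.1 ((O_pig _ _).of_le hK)
  have sd : Sdprod (K ⊔ S) B C1[t] := by
    refine ⟨?_, ?_, normY (BH.trans hn) (cents_norm BS)⟩
    · rw [sup_right_comm, hU.sup, h.sd.sup]
    · rw [eq_bot_iff]
      rintro z ⟨hz, hz'⟩
      have : z ∈ (K ⊔ S) ⊓ O'[C1[t]] := ⟨hz, hz'.1⟩
      rw [modl_l (h.SH.trans hn) hK, inf_comm, h.sd.inf, sup_bot_eq] at this
      exact eq_one_of_inv oK this (hinv z this) (mem_C1.1 hz'.2)
  obtain ⟨π, p1, p2, p3, p4⟩ := exists_proj sd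
  obtain ⟨ν, hν, k, u, hu, hne⟩ := h.exists_lin sd.nl le_sup_right fun e => hB (by
    rw [← sd.inf, eq_comm, inf_eq_right]; exact inf_le_left.trans e)
  obtain ⟨g, g1, g2⟩ := h.exists_g
  have gB : ∀ z ∈ B, g⁻¹ * z * g ∈ B := fun z hz => by
    have : g⁻¹ * z * g ∈ C1[t] ⊓ C1[a] := by
      rw [← C_VV]
      exact conj_mem' (normC le_rfl (h.mem_N g1 g2)) (C_VV t a ▸ ⟨BH hz, hz.2⟩)
    exact ⟨(h.memU h.ot this.1).2 (by rw [orderOf_conj'']; exact (h.memU h.ot (BH hz)).1 hz.1),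
      this.2⟩
  rw [x] at hν c
  have key : ∀ μ, Lin t t μ → Lin t t (fun z => μ (g⁻¹ * π z * g)) ∧
      (∀ k ∈ K, μ (g⁻¹ * π k * g) = 1) ∧ ∀ z ∈ B, μ (g⁻¹ * π z * g) = μ (g⁻¹ * z * g) :=
    fun μ hμ => by
    have e : ∀ k ∈ K ⊔ S, μ (g⁻¹ * π k * g) = 1 := fun k hk => by simpa [p3 k hk] using hμ.one
    refine ⟨⟨e 1 (one_mem _), fun y hy z hz => ?_, fun y hy h2 => e y ?_,
      e t (mem_sup_right h.tS)⟩, fun k hk => e k (mem_sup_left hk), fun z hz => by rw [p4 z hz]⟩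
    · rw [p2 y hy z hz, ← hμ.mul _ (BH (gB _ (p1 y hy))) _ (BH (gB _ (p1 z hz)))]
      congr 1; group
    · obtain ⟨g, hg, e⟩ := h.sylH.sub_cj Nat.prime_two (zpowers_le.2 hy)
        (pig_zpowers.2 (pie_of_pow Nat.prime_two (by rwa [pow_two])))
      exact cj_le_of_mem le_sup_right (sd.nl hg) (e (mem_zpowers y))
  obtain ⟨l₂, k₂, r₂⟩ := key ν hν
  obtain ⟨l₃, k₃, r₃⟩ := key _ l₂
  by_cases hf : ∀ z ∈ B, ν (g⁻¹ * z * g) = ν z
  · refine absurd (h.fused_lin (x.symm ▸ hν) ⟨g, g1, hf⟩ ⟨g * g, ?_, fun z hz => ?_⟩ hu) hne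
    · rw [h.one_b rfl, ← g2, ← g1]; group
    · have hz : z ∈ B := by
        have : z ∈ C1[t] ⊓ C1[t * a] := ⟨O_le _ _ hz.1, h.one_b rfl ▸ hz.2⟩
        rw [h.C1_ta] at this
        exact ⟨hz.1, this.2⟩
      rw [← hf z hz, ← hf _ (gB z hz)]
      congr 1; group
  push Not at hf
  obtain ⟨z, hz, hf⟩ := hf
  exact c.ch2 hK hn hinv (fun z hz => by
      obtain ⟨k, hk, w, hw, rfl⟩ := hU.ex z hz
      exact ⟨k, hk, by simpa using hw.2⟩) hC g1 g2 hν l₂ l₃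
    (fun y hy => k y (O_le _ _ (hK hy)) (mem_sup_left hy)) k₂ k₃ r₂ r₃ hz
    (by rw [r₂ z hz]; exact hf.symm)

end Cfsg.Agent.GW
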