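import Cfsg.Agent.GW.Main
import Cfsg.Agent.Blk.Cov2
import Cfsg.Agent.Class.Exc1
import Cfsg.Agent.Inv.WR

/-! Quotients by the centre of quasi-dihedral and wreathed groups; lifting `PSL₂(q)`. -/

set_option autoImplicit false
set_option linter.unusedVariables false
set_option linter.unusedSectionVars false

namespace Cfsg.Agent.GW

open Cfsg Cfsg.Agent.BG Cfsg.Agent.Dih Subgroup PHom
open Cfsg.Agent.Inv (ord2_iff sq_of_ord2 ne_one_of_ord2 QD WR wu wu_mul wu_zero wu_inv wu_zpow)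
open scoped commutatorElement MatrixGroups

universe u

section
open Matrix Cfsg.Agent.Class
variable {F : Type*} [Field F] [Finite F] {Y : Type*} [Group Y] [Finite Y]
  {E : Subgroup Y} {φ : SL(2, F) →* Y} {ψ : Y →* MulAut SL(2, F)}

theorem aut_pow (h2 : (2 : F) ≠ 0) (σ : RingAut F) : ∃ n, Odd n ∧ ∀ x, σ x = x ^ n := by
  obtain ⟨p, hc⟩ := CharP.exists F
  have := Fact.mk (CharP.char_is_prime F p)
  have o : Odd p := this.out.odd_of_ne_two fun e => h2 ((two_eq_zero_iff p).2 e)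
  let := ZMod.algebra F p
  obtain ⟨i, hi⟩ := FiniteField.exists_forall_apply_eq_pow (ZMod p) p F (AlgEquiv.ofRingEquiv (f := σ)
    fun x => RingHom.congr_fun (RingHom.ext_zmod ((σ : F →+* F).comp (algebraMap _ _)) (algebraMap _ _)) x)
  exact ⟨_, (by rw [Nat.card_zmod]; exact o.pow), hi⟩

theorem Md.comm_mem (m : Md E φ ψ) (y w : Y) : y * w * y⁻¹ * w⁻¹ ∈ E := by
  have k : ∀ {y w : Y} {g h : M2 F} {σ τ : RingAut F}, (∀ A, mt (ψ y A) * g = g * (mt A).map σ) →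
      (∀ A, mt (ψ w A) * h = h * (mt A).map τ) →
      ∀ A, mt (ψ (y * w) A) * (g * h.map σ) = g * h.map σ * ((mt A).map τ).map σ :=
    fun {y w g h σ τ} hg hh A => by
      rw [map_mul, MulAut.mul_apply, ← mul_assoc, hg, mul_assoc, ← Matrix.map_mul, hh, Matrix.map_mul,
        mul_assoc]
  obtain ⟨g, σ, g0, hg⟩ := m.form y
  obtain ⟨h, τ, h0, hh⟩ := m.form w
  obtain ⟨n, ⟨i, rfl⟩, hn⟩ := aut_pow m.two σ
  obtain ⟨k', ⟨j, rfl⟩, hk⟩ := aut_pow m.two τ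
  have d1 : (g * h.map σ).det = g.det * σ h.det := by rw [det_mul, RingEquiv.map_det]; rfl
  have d2 : (h * g.map τ).det = h.det * τ g.det := by rw [det_mul, RingEquiv.map_det]; rfl
  have u2 : IsUnit (h * g.map τ).det := by rw [d2]; simp [g0, h0]
  refine (m.mem_iff (g := g * h.map σ * (h * g.map τ)⁻¹) ⟨by simp [d1, d2, g0, h0], fun A => ?_⟩).2
    ⟨h.det ^ i / g.det ^ j, by rw [det_mul, det_nonsing_inv, d1, d2, hn, hk]; simp; field_simp; ring⟩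
  obtain ⟨B, rfl⟩ := (ψ (w * y)).surjective A
  have e : ((mt B).map σ).map τ = ((mt B).map τ).map σ := by
    ext a b; simp only [map_apply, hn, hk, ← pow_mul, mul_comm]
  rw [← MulAut.mul_apply, ← map_mul, show y * w * y⁻¹ * w⁻¹ * (w * y) = y * w by group, ← mul_assoc,
    k hg hh, ← e, mul_assoc, mul_assoc _ _ (mt _)]
  congr 1
  rw [← (mul_nonsing_inv_cancel_right _ (_ * mt _) u2), mul_assoc _ (mt _), k hh hg,
    nonsing_inv_mul_cancel_left _ _ u2]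

theorem lift_SL [Fintype F] {H : Type*} [Group H] [Finite H] {π : H →* Y} (hs : Function.Surjective π)
    (hz : π.ker ≤ center H) (hp : PiG {2} π.ker) (m : Md E φ ψ) (ho : Odd (Fintype.card F))
    (h3 : 3 < Fintype.card F) : ∃ θ : SL(2, F) →* H, ∀ A, π (θ A) = φ A := by
  have pf : commutator SL(2, F) = ⊤ := SL2_perfect h3
  let P := (π.comp (MonoidHom.fst H SL(2, F))).eqLocus (φ.comp (MonoidHom.snd H SL(2, F)))
  let s := MonoidHom.snd H SL(2, F)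
  have kc : ∀ x ∈ P, x ∈ s.ker → x.1 ∈ π.ker := fun x h1 h2 => by
    have : π x.1 = φ x.2 := h1
    rw [MonoidHom.mem_ker, this, show x.2 = 1 from h2, map_one]
  have c : P ⊓ s.ker ≤ C[(⊤ : Subgroup _)] := fun x hx => mem_C.2 fun a _ =>
    Prod.ext (mem_center_iff.1 (hz (kc x hx.1 hx.2)) _) (by simp [show x.2 = 1 from hx.2])
  have e1 : P.map s = ⊤ := eq_top_iff.2 fun A _ => by
    obtain ⟨x, hx⟩ := hs (φ A)
    exact ⟨(x, A), hx, rfl⟩
  have e2 : ⁅P, P⁆.map s = ⊤ := by rw [map_commutator, e1, ← commutator_def, pf]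
  have e3 : P = ⁅P, P⁆ ⊔ P ⊓ s.ker := le_antisymm (fun x hx => by
    obtain ⟨y, hy, e⟩ := e2.ge (mem_top (s x))
    rw [show x = y * (y⁻¹ * x) by group]
    exact mul_mem_sup' hy (mem_inf.2 ⟨mul_mem (inv_mem (der_le _ hy)) hx, by simp [MonoidHom.mem_ker, ← e]⟩))
      (sup_le (der_le _) inf_le_left)
  have e4 : ⁅⁅P, P⁆, ⁅P, P⁆⁆ = ⁅P, P⁆ := by
    have n : ∀ X, P ⊓ s.ker ≤ C[X] := fun X => c.trans (centS le_top)
    nth_rw 5 [e3]
    rw [comm_sup_cent (n _) (cents_norm (n _)), commC ⁅P, P⁆ P]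
    nth_rw 5 [e3]
    rw [comm_sup_cent (n _) (cents_norm (n _))]
  have s1 : Function.Surjective (s.comp ⁅P, P⁆.subtype) := fun A => by
    obtain ⟨y, hy, e⟩ := e2.ge (mem_top A)
    exact ⟨⟨y, hy⟩, e⟩
  have := Mult.sl2_ker (G := (⁅P, P⁆ : Subgroup _)) ho s1
    (fun x hx => mem_center_iff.2 fun y => Subtype.ext (mem_C.1 (c ⟨der_le _ x.2, hx⟩) _ trivial))
    (map_injective (⁅P, P⁆.subtype_injective) (by rw [map_subtype_commutator, e4, map_subtype_top]))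
    (PiG.pg (pig_of_elts fun x hx => by
      have := hp.elt (kc _ (der_le _ x.2) hx)
      rw [PiE, ← orderOf_coe, Prod.orderOf, show x.1.2 = 1 from hx, orderOf_one, Nat.lcm_one_right]
      exact this) Nat.prime_two)
  let e := MulEquiv.ofBijective _ ⟨(MonoidHom.ker_eq_bot_iff _).1 this, s1⟩
  refine ⟨(MonoidHom.fst _ _).comp (⁅P, P⁆.subtype.comp e.symm.toMonoidHom), fun A => ?_⟩
  have h1 : π (e.symm A).1.1 = φ (e.symm A).1.2 := der_le P (e.symm A).2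
  exact h1.trans (congrArg φ (e.apply_symm_apply A))

end

variable {G : Type u} [Group G] [Finite G] {S K L : Subgroup G} {x y z : G} {l : ℕ}

/-- at most one involution -/
def UI (K : Subgroup G) : Prop := ∀ u ∈ K, ∀ v ∈ K, u * u = 1 → v * v = 1 → u ≠ 1 → v ≠ 1 → u = v

/-- what is used about quasi-dihedral and wreathed groups -/
structure ZD (S : Subgroup G) : Prop where
  dh : ∀ {Y : Type u} [Group Y] [Finite Y] (f : G →* Y), f.ker = Z[S] → ∃ x y l, DH (S.map f) x y l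
  der : ∀ c ∈ Z[S], c ∈ ⁅S, S⁆ → c * c = 1
  ui : UI Z[S]
  nle : ∀ K, S ≤ N[K] → UI K → ¬ S ≤ K ⊔ Z[S]

theorem ord_of_zpow {n : ℕ} (h : ∀ k : ℤ, x ^ k = 1 ↔ (n : ℤ) ∣ k) : orderOf x = n :=
  Nat.dvd_antisymm (by rw [orderOf_dvd_iff_pow_eq_one, ← zpow_natCast, h])
    (Int.natCast_dvd_natCast.1 ((h _).1 (by rw [zpow_natCast, pow_orderOf_eq_one])))

theorem zd_QD (h : QD S x y l) : ZD S := by
  have z2 := sq_of_ord2 h.zord
  refine ⟨fun f hf => ⟨f x, f y, 2 * l, ?_⟩, fun c hc _ => ?_, fun u hu v hv _ _ u1 v1 => ?_,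
    fun K n u e => ?_⟩ <;> rw [h.center_eq] at *
  · have k : ∀ {g}, f g = 1 ↔ g ∈ zpowers (x ^ (4 * l : ℤ)) := by rw [← hf]; rfl
    refine ⟨h.pw.elim fun k e => ⟨k + 1, by rw [e]; ring⟩, ord_of_zpow fun k' => ?_,
      by rw [← map_mul, h.ysq, map_one], ?_, fun ⟨j, e⟩ => ?_, fun g => ⟨?_, ?_⟩⟩
    · rw [← map_zpow, k]
      refine ⟨fun ⟨j, e⟩ => ?_, fun ⟨j, e⟩ => ⟨j, by simp only [e, ← zpow_mul]; push_cast; ring_nf⟩⟩
      obtain ⟨c, e⟩ := h.eq_iff.1 ((zpow_mul _ _ _).trans e)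
      exact ⟨j - 2 * c, by push_cast; linarith⟩
    · rw [← map_inv, ← map_mul, ← map_mul, h.conj, zpow_sub_one, map_mul, k.2 (mem_zpowers _), one_mul,
        map_inv]
    · exact h.o_not_mem (-j) (zpowers_le.2 (zpow_mem_zpowers _ _)
        (k.1 (by rw [map_mul, ← e, map_zpow]; simp)))
    · rintro ⟨g, hg, rfl⟩
      exact ((h.mem g).1 hg).imp fun j => Or.imp (by rintro rfl; simp) (by rintro rfl; simp)
    · rintro ⟨j, rfl | rfl⟩
      exacts [⟨_, h.xmem j, by simp⟩, ⟨_, h.omem j, by simp⟩]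
  · rcases (mem_zp2 z2).1 hc with rfl | rfl
    exacts [one_mul _, z2]
  · rw [((mem_zp2 z2).1 hu).resolve_left u1, ((mem_zp2 z2).1 hv).resolve_left v1]
  · obtain ⟨j, hj⟩ : ∃ j : ℤ, x ^ (2 * j) * y ∈ K := by
      obtain ⟨a, ha, c, hc, e⟩ := (mem_sup_l ((zpowers_le.2 (h.xmem _)).trans n)).1 (e h.ymem)
      rcases (mem_zp2 z2).1 hc with rfl | rfl
      · exact ⟨0, by simpa [e] using ha⟩
      · exact ⟨2 * l, by rwa [show 2 * (2 * l : ℤ) = 4 * l by ring, ← h.z_comm h.ymem, e, mul_assoc, z2,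
          mul_one]⟩
    exact h.o_not_mem _ (u _ hj _ (zpowers_le.2 (h.x2_mem (le_N_iff.1 n) hj) QD.z_mem_X2) (h.sq_even j) z2
      (ne_one_of_ord2 (h.ord_even j)) (ne_one_of_ord2 h.zord) ▸ zpow_mem_zpowers _ _)

theorem zd_WR (h : WR S x y z l) : ZD S := by
  have l0 : (0 : ℤ) < l := by exact_mod_cast h.lpos
  have c := h.comm
  refine ⟨fun f hf => ⟨f x, f z, 2 * l, ?_⟩, fun c hc hd => ?_, fun u hu v hv u2 v2 u1 v1 => ?_,
    fun K n u e => ?_⟩ <;> rw [h.center_eq] at *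
  · have k : ∀ {g}, f g = 1 ↔ g ∈ zpowers (wu x y 1 1) := by rw [← hf]; rfl
    have fy : f y = (f x)⁻¹ := eq_inv_of_mul_eq_one_right (by simpa [wu] using k.2 (mem_zpowers _))
    have fw : ∀ a b, f (wu x y a b) = f x ^ (a - b) := fun a b => by simp [wu, fy, zpow_sub]
    refine ⟨h.pw.elim fun k e => ⟨k + 1, by rw [e]; ring⟩, ord_of_zpow fun k' => ?_,
      by rw [← map_mul, h.zsq, map_one], by rw [← map_inv, ← map_mul, ← map_mul, h.conj, fy],
      fun ⟨j, e⟩ => ?_, fun g => ⟨?_, ?_⟩⟩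
    · rw [← sub_zero k', ← fw, k, h.mem_Z]
      simp only [h.eq_iff]
      refine ⟨fun ⟨a, ⟨i, e1⟩, j, e2⟩ => ⟨i - j, by push_cast; linarith⟩, fun ⟨j, e⟩ =>
        ⟨0, ⟨j, by push_cast at e; linarith⟩, 0, by simp⟩⟩
    · exact h.o_not_mem (-j) 0 (h.Z_le_U (k.1 (by rw [map_mul, ← e, fw]; simp)))
    · rintro ⟨g, hg, rfl⟩
      obtain ⟨a, b, rfl | rfl⟩ := (h.mem g).1 hg
      exacts [⟨_, Or.inl (fw a b)⟩, ⟨_, Or.inr (by rw [map_mul, fw])⟩]
    · rintro ⟨j, rfl | rfl⟩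
      exacts [⟨_, h.umem j 0, by simp [fw]⟩, ⟨_, h.omem j 0, by simp [fw]⟩]
  · obtain ⟨a, rfl⟩ := h.mem_Z.1 hc
    obtain ⟨b, e⟩ := h.mem_W.1 (comm_le_iff.2 (fun _ a _ b => h.commutator_mem_W a b) hd)
    obtain ⟨⟨i, e1⟩, j, e2⟩ := h.eq_iff.1 e
    rw [wu_mul h.comm, ← wu_zero x y, h.eq_iff]
    exact ⟨⟨i + j, by linarith⟩, i + j, by linarith⟩
  · rw [h.eq_t hu (ord2_iff.2 ⟨u2, u1⟩), h.eq_t hv (ord2_iff.2 ⟨v2, v1⟩)]
  · obtain ⟨k, hk, _, hc, e⟩ := (mem_sup_l ((zpowers_le.2 (h.umem 1 1)).trans n)).1 (e (h.umem 1 0))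
    obtain ⟨a, rfl⟩ := h.mem_Z.1 hc
    have m1 := K.zpow_mem hk (2 * l)
    rw [eq_mul_inv_of_mul_eq e.symm, wu_inv c, wu_mul c, wu_zpow c] at m1
    have m2 := conj_mem (n h.zmem) m1
    rw [h.z_mul, mul_inv_cancel_right] at m2
    have s : ∀ a b : ℤ, wu x y (a * (2 * l)) (b * (2 * l)) * wu x y (a * (2 * l)) (b * (2 * l)) = 1 :=
      fun a b => by rw [wu_mul c, ← wu_zero x y, h.eq_iff]; exact ⟨⟨a, by ring⟩, b, by ring⟩
    have o : ∀ {a b : ℤ}, wu x y a b = 1 → wu x y b a = 1 := fun e => by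
      rw [← wu_zero x y, h.eq_iff] at e ⊢; exact e.symm
    obtain ⟨⟨i, e⟩, -⟩ := h.eq_iff.1 (show wu x y ((1 + -a) * (2 * l)) ((0 + -a) * (2 * l)) =
        wu x y ((0 + -a) * (2 * l)) ((1 + -a) * (2 * l)) from by
      by_cases e : wu x y ((1 + -a) * (2 * l)) ((0 + -a) * (2 * l)) = 1
      · rw [e, o e]
      · exact u _ m1 _ m2 (s _ _) (s _ _) e fun e' => e (o e'))
    have : (l : ℤ) * (2 * i - 1) = 0 := by linarith
    rcases mul_eq_zero.1 this with e | e <;> omega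

theorem zd_of (h : IsQuasiDihedral S ∨ IsWreathed S) : ZD S :=
  h.elim (fun h => (Inv.exists_QD h).elim fun _ ⟨_, _, h⟩ => zd_QD h)
    fun h => (Inv.exists_WR h).elim fun _ ⟨_, _, _, h⟩ => zd_WR h

theorem no2 (h : ∀ M : Subgroup K, M.index ≠ 2) (h1 : L ≤ K) (h2 : K ≤ N[L])
    (h3 : PiN {2} (L.relIndex K)) : L = K := by
  by_contra e
  obtain ⟨M, -, a, -, b⟩ := PiG.exists_max (P := K ÷ L) (K := ⊥) (by rwa [PiG, card_quo h2])
    Nat.prime_two (bot_lt_iff_ne_bot.2 fun c => e (le_antisymm h1 ((quo_bot_iff h2).1 c)))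
  exact h _ ((relIndex_pre (φ := quo L) M h2).trans b)

theorem odd_ab (h : ∀ M : Subgroup K, M.index ≠ 2) : PiN {2}ᶜ (⁅K, K⁆.relIndex K) := by
  have n := der_norm K
  have a : Abel (K ÷ ⁅K, K⁆) := (quo_abel_iff n).2 le_rfl
  obtain ⟨B, b1, b2, b3⟩ := exists_quo_eq n (der_le K) (O_le {2}ᶜ (K ÷ ⁅K, K⁆))
  have := no2 h b2 (norm_of_der_le b1 b2) (by
    rw [← relIndex_im (φ := quo _) (b2.trans n) n (by rwa [quo_ker]), b3]
    simpa using (a.nil.hall_O {2}ᶜ).idx)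
  subst this
  rw [← card_quo n, b3]
  exact O_pig _ _

end Cfsg.Agent.GW
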