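import Cfsg.Agent.GW.Ben
import Cfsg.Agent.Class.Dick5

/-! Groups whose 2-subgroups are cyclic or dihedral. -/

set_option autoImplicit false
set_option linter.unusedVariables false
set_option linter.unusedSectionVars false

namespace Cfsg.Agent.GW

open Cfsg Cfsg.Agent.BG Cfsg.Agent.Dih Subgroup PHom
open Cfsg.Agent.Comp (Lay FStar SubIn CompIn QS)
open Cfsg.Agent.Inv (ord2_iff sq_of_ord2 ne_one_of_ord2 inv_of_ord2 orderOf_conj' orderOf_conj''
  orderOf_isConj)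
open scoped commutatorElement

universe u

/-- all 2-subgroups are cyclic or dihedral -/
def DG (G : Type*) [Group G] : Prop :=
  ∀ T : Subgroup G, PiG {2} T → Cyc T ∨ ∃ t a b l, DT T t a b l

variable {G : Type u} [Group G] [Finite G] {Y : Type u} [Group Y] [Finite Y] {φ : PHom G Y}
  {A B K L M P Q S T V X : Subgroup G} {t a b v w g : G} {l p : ℕ}

theorem DT.sub (h : DT S t a b l) (hT : T ≤ S) : Cyc T ∨ ∃ t a b l, DT T t a b l := by
  by_cases c : T ≤ zpowers (b * a)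
  · exact Or.inl ((cyc_zpowers _).of_le c)
  obtain ⟨w, hw, hw'⟩ := SetLike.not_le_iff_exists.1 c
  obtain ⟨y, hy⟩ := cyc_iff.1 ((cyc_zpowers (b * a)).of_le (inf_le_right (a := T)))
  have ym : y ∈ T ⊓ zpowers (b * a) := hy ▸ mem_zpowers y
  have w2 := sq_of_ord2 (h.dh.ord_out (hT hw) hw')
  have mem : ∀ g, g ∈ T ↔ ∃ k : ℤ, g = y ^ k ∨ g = y ^ k * w := fun g => by
    refine ⟨fun hg => ?_, ?_⟩
    · by_cases c : g ∈ zpowers (b * a)
      · obtain ⟨k, rfl⟩ : g ∈ zpowers y := hy ▸ ⟨hg, c⟩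
        exact ⟨k, Or.inl rfl⟩
      · obtain ⟨k, e⟩ : g * w ∈ zpowers y :=
          hy ▸ ⟨mul_mem hg hw, h.dh.mul_mem_X (hT hg) (hT hw) c hw'⟩
        exact ⟨k, Or.inr (by rw [show y ^ k = g * w from e, mul_assoc, w2, mul_one])⟩
    · rintro ⟨k, rfl | rfl⟩
      exacts [T.zpow_mem ym.1 k, mul_mem (T.zpow_mem ym.1 k) hw]
  obtain ⟨_ | k, hk⟩ := (pin_single Nat.prime_two (orderOf_pos y).ne').1 (h.pig.elt (hT ym.1))
  · refine Or.inl ((cyc_zpowers w).of_le fun g hg => ?_)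
    obtain ⟨k, rfl | rfl⟩ := (mem g).1 hg <;> simp [orderOf_eq_one_iff.1 hk]
  · exact Or.inr ⟨_, _, _, _, DH_dt (x := y) (y := w) (l := 2 ^ k) ⟨⟨k, rfl⟩, by rw [hk]; ring, w2,
      h.dh.o_conj' (hT hw) hw' ym.2, fun e => hw' ((hy ▸ e : w ∈ T ⊓ _)).2, mem⟩⟩

theorem DT.dg (h : DT S t a b l) (hS : Syl 2 S ⊤) : DG G := fun T hT => by
  obtain ⟨g, -, e⟩ := hS.sub_cj Nat.prime_two le_top hT
  exact (h.cj g).sub e

theorem DT.im (h : DT S t a b l) (hS : S ≤ φ.dom) (ho : PiG {2}ᶜ φ.ker) :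
    DT (φ.im S) (φ.app t) (φ.app a) (φ.app b) l := by
  have := (h.subtype hS).dh.map φ.hom fun x hx e => Subtype.ext ((h.pig.elt hx).eq_one
    (ho.elt (mem_ker.2 ⟨x.2, (app_coe x).trans e⟩)))
  rw [map_mul, ← app_eq, ← app_eq] at this
  refine ⟨this, ?_⟩
  rw [app_eq (hS h.tS), app_eq (hS h.aS), app_eq (hS h.bS), ← map_mul, ← map_zpow]
  exact congrArg _ (h.subtype hS).teq

theorem not_cyc_kf (hV : IsKleinFour V) (h : V ≤ T) : ¬ Cyc T := fun e =>
  Dih.kf_not_isCyclic hV (e.of_le h)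

theorem pig_kf (hV : IsKleinFour V) : PiG {2} V := pig_of_card_pow (n := 2) Nat.prime_two hV.card_four

theorem Cyc.eq2 (h : Cyc T) (hv : v ∈ T) (hw : w ∈ T) (v2 : orderOf v = 2) (w2 : orderOf w = 2) :
    v = w := by
  have := h.eq_of_card (zpowers_le.2 hv) (zpowers_le.2 hw) (by rw [card_zpowers', card_zpowers', v2, w2])
  exact ((mem_zp2 (sq_of_ord2 w2)).1 (this ▸ mem_zpowers v)).resolve_left (ne_one_of_ord2 v2)

namespace DG

variable (h : DG G)
include h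

theorem im (ho : PiG {2}ᶜ φ.ker) (ht : φ.im φ.dom = ⊤) : DG Y := fun T hT => by
  obtain ⟨P, hP⟩ := syl_exists Nat.prime_two (φ.pre T)
  have e := im_pre (φ := φ) (B' := T) (ht ▸ le_top)
  have e2 := hP.im_eq (pre_le_dom _) (e.symm ▸ hT)
  rw [← e, ← e2]
  exact (h P hP.pi).imp (·.im φ) fun ⟨_, _, _, _, d⟩ =>
    ⟨_, _, _, _, d.im (hP.le.trans (pre_le_dom _)) ho⟩

theorem pnil (hv : orderOf v = 2) : PNil 2 C1[v] := by
  obtain ⟨P, hP, le⟩ := syl_superset Nat.prime_two (zpowers_le.2 (mem_C1_self v)) (pig2 hv)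
  rcases h P hP.pi with c | ⟨_, _, _, _, d⟩
  · exact cyc_min_pnil Nat.prime_two hP c fun q hq _ => hq.two_le
  · obtain ⟨x, y, d, rfl⟩ := d.dh.exists_center hv (le (mem_zpowers v)) fun s hs =>
      mem_C1.1 (hP.le hs)
    exact (pnil_iff_npc Nat.prime_two).2
      (d.npc_of_le_centralizer ((syl_iff' Nat.prime_two).1 hP) le_rfl)

theorem solC (hv : orderOf v = 2) : Sol C1[v] := PNil.sol2 (h.pnil hv)

theorem odd_or (hT : PiG {2} T) (hg : g ∈ N[T]) (ho : Odd (orderOf g)) :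
    g ∈ C[T] ∨ IsKleinFour T := by
  rcases h T hT with c | ⟨_, _, _, _, d⟩
  · by_cases h0 : T = ⊥
    · exact Or.inl (by rw [h0, C_bot]; trivial)
    obtain ⟨z, hz, z2⟩ := cauchy Nat.prime_two (hT.dvd h0)
    refine Or.inl (zpowers_le.1 (c.cop_cent hT (zpowers_le.2 hg)
      ((pig_zpowers.2 (odd_iff.2 ho)).coprime' hT) (ne_bot_of_mem (x := z) ⟨hz, ?_⟩
        (ne_one_of_ord2 z2))))
    rw [C_zpowers]
    exact mem_C1'.2 (mul_inv_eq_iff_eq_mul.1
      (Cyc.eq2 c (conj_mem hg hz) hz (by rw [orderOf_conj', z2]) z2))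
  · exact d.dh.odd_or le_rfl hg ho

theorem rank2 (hv : orderOf v = 2) (hV : IsKleinFour V) (hc : v ∈ C[V]) : v ∈ V := by
  obtain ⟨_, _, _, _, d⟩ := (h (V ⊔ zpowers v) ((pig_kf hV).sup_l (pig2 hv)
    (zpowers_le.2 (C_le_N _ hc)))).resolve_left (not_cyc_kf hV le_sup_left)
  exact d.dh.kf_centralizer hV le_sup_left ⟨mem_sup_right (mem_zpowers v), hc⟩

theorem C_kf (hT : PiG {2} T) (hV : IsKleinFour V) (h1 : T ≤ C[V]) : T ≤ V := by
  obtain ⟨_, _, _, _, d⟩ := (h (V ⊔ T) ((pig_kf hV).sup_l hT (cents_norm h1))).resolve_left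
    (not_cyc_kf hV le_sup_left)
  exact (le_inf le_sup_right h1).trans (d.dh.kf_centralizer hV le_sup_left)

theorem sol_N (hT : PiG {2} T) (h0 : T ≠ ⊥) : Sol N[T] := by
  obtain ⟨z, hz, z2⟩ := cauchy Nat.prime_two (hT.dvd h0)
  refine sol_of_im (φ := aut T) le_rfl ((h.solC z2).of_le ?_) ?_
  · rw [aut_ker]; exact inf_le_right.trans (C_le_C1 hz)
  by_cases k : IsKleinFour T
  · refine Class.isSolvable_of_card_dvd_24 ((card_subgroup_dvd_card _).trans ?_)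
    have := card_dvd_of_injective (MulAut.toPerm T) MulEquiv.toEquiv_injective
    rwa [Nat.card_perm, k.card_four] at this
  · refine PiG.sol (p := 2) (pig_of_elts fun x hx => ?_)
    obtain ⟨g, hg, -, rfl⟩ := mem_im.1 hx
    obtain ⟨c, hc, d, hd, e, pc, pd⟩ := exists_pi_part {2} g
    have hc := zpowers_le.2 hg hc
    have hd := zpowers_le.2 hg hd
    have : d ∈ (aut T).ker := by
      rw [aut_ker]; exact (h.odd_or hT hd (odd_iff.1 pd)).resolve_right k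
    rw [e, app_mul (φ := aut T) hc hd, (mem_ker.1 this).2, mul_one]
    exact pc.app hc

theorem exists_dt (hP : Syl 2 P L) (hL : ¬ Sol L) : ∃ t a b l, DT P t a b l :=
  (h P hP.pi).resolve_left fun c =>
    hL (PNil.sol2 (cyc_min_pnil Nat.prime_two hP c fun q hq _ => hq.two_le))

theorem lay_ne (hL : L ≤ M) (hs : ¬ Sol L) (hc : L ≤ C[O'[F[M]]]) : Lay M ≠ ⊥ := fun e => by
  by_cases c : O[{2}](M) = ⊥
  · have := ((F_nil M).dprod_O {2}).sup
    rw [O_F, c, bot_sup_eq] at this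
    exact hs ((F_nil M).sol.of_le ((le_inf hL (this ▸ hc)).trans (C_F_le' e)))
  · exact hs ((h.sol_N (O_pig _ _) c).of_le (hL.trans (O_norm _ _)))

theorem exists_E (hO : O'[(⊤ : Subgroup G)] = ⊥) (hs : ¬ Sol (⊤ : Subgroup G)) :
    ∃ E : Subgroup G, E.Normal ∧ C[E] = ⊥ ∧ IsSimpleGroup E ∧ ¬ Sol E ∧
      ∀ L, ⁅L, L⁆ = L → L ≤ E := by
  have := h.lay_ne le_rfl hs (by rw [← F_O, hO]; exact le_top.trans_eq (by
    rw [eq_bot_iff.2 (F_le ⊥), C_bot]))
  obtain ⟨K, hK⟩ : ∃ K, CompIn K (⊤ : Subgroup G) := by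
    by_contra hc; exact this (Comp.Lay_eq_bot_iff.2 (not_exists.1 hc))
  have ns : ¬ Sol K := hK.qs.not_solvable
  obtain ⟨P, hP⟩ := syl_exists Nat.prime_two K
  obtain ⟨t, a, b, l, d⟩ := h.exists_dt hP ns
  have oC : PiG {2}ᶜ C[K] := pig_of_prime_elts fun x hx _ e => ns ((h.solC e).of_le (le_C1_iff.2 hx))
  have n : K.Normal := normal_iff.2 fun g _ => mem_N_iff_cj.2
    (((hK.conj (g := g) (normG ⊤ trivial)).eq_or_comm hK).resolve_right fun e => ns (sol_cj.1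
      ((sol_odd oC).of_le (comm_eq_bot.1 e))))
  have c : C[K] = ⊥ := eq_bot_iff.2 (hO ▸ le_O le_top (normC (normal_iff.1 n)) oC)
  refine ⟨K, n, c, hK.qs.isSimpleGroup (by rw [c, inf_bot_eq]), ns, fun L hL => ?_⟩
  have nK := normal_iff.1 n
  have f := (hP.frattini Nat.prime_two le_top nK).sup
  have : Sol (L ÷ K) := ((h.sol_N hP.pi (ne_bot_of_mem d.tS (ne_one_of_ord2 d.ot))).im _).of_le
    ((quo_le_iff (le_top.trans nK) (le_top.trans nK)).2 (by
      rw [sup_comm, ← top_inf_eq N[P], f]; exact le_top))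
  exact (quo_bot_iff (le_top.trans nK)).1 (Comp.perfect_solvable_eq_bot
    (by rw [← im_der (le_top.trans nK), hL]) this)

end DG

end Cfsg.Agent.GW
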