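import Cfsg.Agent.GW.Str
import Cfsg.Agent.GW.LT
import Cfsg.Agent.GW.A7

/-! The structure of the proper subgroups. -/

set_option autoImplicit false
set_option linter.unusedVariables false
set_option linter.unusedSectionVars false

namespace Cfsg.Agent.GW

open Cfsg Cfsg.Agent.BG Cfsg.Agent.Dih Subgroup PHom
open Cfsg.Agent.Comp (Lay FStar SubIn CompIn QS)
open Cfsg.Agent.Inv (ord2_iff sq_of_ord2 ne_one_of_ord2 inv_of_ord2 orderOf_conj' orderOf_conj''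
  orderOf_isConj)
open scoped commutatorElement

universe u

variable {G : Type u} [Group G] [Finite G] {Y : Type u} [Group Y] [Finite Y] {φ : PHom G Y}
  {A B D K L M P Q S T V X : Subgroup G} {t a b v w g : G} {l p : ℕ}

theorem dt_four (ht : orderOf t = 2) (ha : orderOf a = 2) (hne : a ≠ t) (hc : a * t = t * a) :
    DT (VV t a) t a (t * a) 1 := by
  have := DH_dt (S := VV t a) (x := t) (y := a) (l := 1) ⟨⟨0, rfl⟩, ht, sq_of_ord2 ha,
    by rw [hc, mul_inv_cancel_right, inv_of_ord2 ht], fun e =>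
      ((mem_zp2 (sq_of_ord2 ht)).1 e).elim (ne_one_of_ord2 ha) hne, fun g => by
      rw [mem_VV (sq_of_ord2 ht) (sq_of_ord2 ha) hc]
      refine ⟨?_, ?_⟩
      · rintro (rfl | rfl | rfl | rfl)
        exacts [⟨0, by simp⟩, ⟨1, by simp⟩, ⟨0, by simp⟩, ⟨1, by simp⟩]
      · rintro ⟨k, rfl | rfl⟩ <;>
        rcases (mem_zp2 (sq_of_ord2 ht)).1 (zpow_mem_zpowers t k) with e | e <;> simp [e]⟩
  simpa using this

theorem cent_of_inf (hA : A ≤ K) (hD : D ≤ N[K]) (h : A ≤ N[D]) (h0 : K ⊓ D = ⊥) : A ≤ C[D] :=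
  comm_eq_bot.1 (eq_bot_iff.2 (h0 ▸ le_inf ((commS hA le_rfl).trans (commL hD)) (commR h)))

theorem index_ne_two (hL : ⁅L, L⁆ = L) (H : Subgroup L) : H.index ≠ 2 := fun e => by
  have := normal_of_index_eq_two e
  have c : commutator L ≤ H := by
    have : IsCyclic (L ⧸ H) := isCyclic_of_prime_card (p := 2) (hp := ⟨Nat.prime_two⟩) e
    exact Normal.quotient_commutative_iff_commutator_le.1 inferInstance
  have : commutator L = ⊤ := map_injective L.subtype_injective (by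
    rw [commutator_def, map_commutator, map_subtype_top, hL])
  rw [eq_top_iff.2 (this.ge.trans c), index_top] at e
  omega

theorem DG.exists_g (h : DG G) (hL : ⁅L, L⁆ = L) (ht : orderOf t = 2) (ha : orderOf a = 2)
    (hne : a ≠ t) (hc : a * t = t * a) (tL : t ∈ L) (aL : a ∈ L) :
    ∃ g ∈ L, g * t * g⁻¹ = a ∧ g * a * g⁻¹ = t * a := by
  have d := dt_four ht ha hne hc
  obtain ⟨P, hP, le⟩ := syl_superset Nat.prime_two (VV_le.2 ⟨tL, aL⟩) d.pigV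
  obtain ⟨_, _, _, _, e⟩ := (h P hP.pi).resolve_left (not_cyc_kf d.kf le)
  have e := e.subtype hP.le
  have d' := d.subtype (le.trans hP.le)
  have le' : VV (⟨t, tL⟩ : L) ⟨a, aL⟩ ≤ P.subgroupOf L :=
    VV_le.2 ⟨le (l_mem_VV t a), le (r_mem_VV t a)⟩
  obtain ⟨P', e'⟩ := (Syl.subgroupOf' hP).exists_sylow_top Nat.prime_two
  rw [← e'] at e le'
  obtain ⟨k, hk⟩ := e.dh.kf d'.kf le'
  obtain ⟨g, g1, g2, g3⟩ := e.dh.oddAct_of_no_index_two (index_ne_two hL) k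
  rw [← hk] at g1 g3
  obtain ⟨k, -, e1, e2⟩ := d'.exists_g g1 g2 g3
  exact ⟨k, k.2, congrArg Subtype.val e1, congrArg Subtype.val e2⟩

theorem DG.conj (h : DG G) (hL : ⁅L, L⁆ = L) (hv : orderOf v = 2) (hw : orderOf w = 2)
    (vL : v ∈ L) (wL : w ∈ L) : ∃ g ∈ L, g * v * g⁻¹ = w := by
  obtain ⟨P, hP⟩ := syl_exists Nat.prime_two L
  obtain ⟨_, _, _, _, d⟩ := h.exists_dt hP fun s =>
    ne_bot_of_mem vL (ne_one_of_ord2 hv) (Comp.perfect_solvable_eq_bot hL s)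
  obtain ⟨g, e⟩ := isConj_iff.1 (((d.subtype hP.le).gs (Syl.subgroupOf' hP) (index_ne_two hL)).cls
    ⟨v, vL⟩ ⟨w, wL⟩ (by rwa [orderOf_mk]) (by rwa [orderOf_mk]))
  exact ⟨g, g.2, congrArg Subtype.val e⟩

/-- the simple normal subgroup of a nonsolvable group with `O(Y) = 1` -/
structure MdE (E : Subgroup Y) : Prop where
  dg : DG Y
  norm : ⊤ ≤ N[E]
  cent : C[E] = ⊥
  simple : IsSimpleGroup E
  ns : ¬ Sol E
  perf : ∀ L, ⁅L, L⁆ = L → L ≤ E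
  mod : (∃ q τ ε T, LT E q τ ε T) ∨ A7T E

namespace MdE

variable {E N Q : Subgroup Y} {v : Y} (h : MdE E)
include h

theorem le_of (h1 : E ≤ N[N]) (h2 : N ⊓ E ≠ ⊥) : E ≤ N := by
  have := h.simple
  exact subgroupOf_eq_top.1 ((normal_subgroupOf h1).eq_bot_or_eq_top.resolve_left
    fun e => h2 (disjoint_iff.1 (subgroupOf_eq_bot.1 e)))

theorem le_comm (h1 : Q ≠ ⊥) : E ≤ ⁅E, Q⁆ := h.le_of (comm_norml _ _) fun e => h1 (eq_bot_iff.2
  (h.cent ▸ comm_eq_bot'.1 (by rwa [inf_eq_left.2 (commL (le_top.trans h.norm))] at e)))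

theorem le_of_norm (h1 : E ≤ N[N]) (h2 : N ≠ ⊥) : E ≤ N := (h.le_comm h2).trans (commR h1)

theorem le_C (hv : orderOf v = 2) (ho : PiG {2}ᶜ Q) (hn : Nil Q) (h1 : C1[v] ≤ N[Q]) :
    Q ≤ C1[v] := by
  rcases h.mod with ⟨q, τ, ε, T, m⟩ | m
  · exact ((m.p1 v hv Q (odd_iff.1 ho) hn h1).trans (m.le v hv)).trans inf_le_right
  · obtain ⟨w, -, -, -, e⟩ := m.p1 v hv Q (odd_iff.1 ho) h1
    exact e.trans inf_le_left

end MdE

theorem LT.odd_le {E Q : Subgroup Y} {q τ : ℕ} {ε : ℤ} {T : Y → Subgroup Y} (m : LT E q τ ε T)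
    {v : Y} (hv : orderOf v = 2) (hE : v ∈ E) (ho : PiG {2}ᶜ Q) (h1 : Q ≤ E ⊓ C1[v]) : Q ≤ T v :=
  fun y hy => by_contra fun e => by
    have := PiG.odd ho hy
    rw [m.out v hE hv y (h1 hy) e] at this
    exact absurd this (by decide)

theorem MdE.cyc {E Q : Subgroup Y} (h : MdE E) {v : Y} (hv : orderOf v = 2) (hE : v ∈ E)
    (ho : PiG {2}ᶜ Q) (h1 : Q ≤ E ⊓ C1[v]) : Cyc Q := by
  rcases h.mod with ⟨q, τ, ε, T, m⟩ | m
  · exact (m.cyc v hv).of_le (m.odd_le hv hE ho h1)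
  · exact m.cyc v hv Q h1 (odd_iff.1 ho)

/-- `φ : M → M / O(M)` -/
structure QO (M : Subgroup G) (φ : PHom G Y) : Prop where
  dom : φ.dom = M
  ker : φ.ker = O'[M]
  top : φ.im M = ⊤

theorem exists_QO (M : Subgroup G) :
    ∃ (Y : Type u) (_ : Group Y) (_ : Finite Y) (φ : PHom G Y), QO M φ := by
  have := normal_subgroupOf (O_norm {2}ᶜ M)
  exact ⟨_, _, inferInstance, mquo M (O'[M].subgroupOf M), rfl,
    by rw [mquo_ker, map_subgroupOf_eq_of_le (O_le _ _)], mquo_top _ _⟩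

namespace QO

variable (h : QO M φ)
include h

theorem le (hA : A ≤ M) : A ≤ φ.dom := h.dom ▸ hA
theorem mem (hA : g ∈ M) : g ∈ φ.dom := h.dom ▸ hA
theorem odd : PiG {2}ᶜ φ.ker := h.ker ▸ O_pig _ _
theorem kle : φ.ker ≤ M := h.ker ▸ O_le _ _
theorem ord (hv : orderOf v = 2) (hM : v ∈ M) : orderOf (φ.app v) = 2 := ord_app hv (h.mem hM) h.odd
theorem dg (d : DG G) : DG Y := d.im h.odd (h.dom.symm ▸ h.top)
theorem bot (hA : A ≤ M) : φ.im A = ⊥ ↔ A ≤ O'[M] := h.ker ▸ im_eq_bot_iff (h.le hA)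
theorem O_bot : O'[(⊤ : Subgroup Y)] = ⊥ := by
  rw [← h.top, ← im_O (h.le le_rfl) (h.odd.of_le inf_le_right), h.bot (O_le _ _)]
theorem C2 (hv : orderOf v = 2) (hM : v ∈ M) : φ.im (M ⊓ C1[v]) = C1[φ.app v] := by
  rw [im_C2 hv (h.mem hM) h.odd (h.le le_rfl) h.kle, h.top, top_inf_eq]
theorem N2 (hv : orderOf v = 2) (hM : v ∈ M) (hQ : M ⊓ C1[v] ≤ N[Q]) : C1[φ.app v] ≤ N[φ.im Q] :=
  h.C2 hv hM ▸ im_norm hQ
theorem sol (hA : A ≤ M) (hs : Sol (φ.im A)) : Sol A :=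
  sol_of_im (h.le hA) (sol_odd (h.odd.of_le inf_le_right)) hs
theorem nrm (hA : M ≤ N[A]) : ⊤ ≤ N[φ.im A] := h.top ▸ im_norm hA
theorem app_eq_one (hg : g ∈ M) : φ.app g = 1 ↔ g ∈ O'[M] := by
  rw [← h.ker, PHom.mem_ker, and_iff_right (h.mem hg)]
theorem inj2 (hP : PiG {2} P) (hM : P ≤ M) (hv : v ∈ P) (hw : w ∈ P) (e : φ.app v = φ.app w) :
    v = w := inv_mul_eq_one.1 ((hP.elt (mul_mem (inv_mem hv) hw)).eq_one
      (h.odd.elt ((app_eq_iff (h.mem (hM hv)) (h.mem (hM hw))).1 e)))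

theorem exists_md (d : DG G) (ih : IH G) (hM : M ≠ ⊤) (hs : ¬ Sol M) :
    ∃ E : Subgroup Y, MdE E := by
  have hs' : ¬ Sol (⊤ : Subgroup Y) := fun e => hs (h.sol le_rfl (h.top ▸ e))
  obtain ⟨E, n, c, s, ns, pf⟩ := (h.dg d).exists_E h.O_bot hs'
  obtain ⟨P, hP⟩ := syl_exists Nat.prime_two E
  obtain ⟨_, _, _, _, e⟩ := (h.dg d).exists_dt hP ns
  obtain ⟨S, hS⟩ := syl_exists Nat.prime_two (⊤ : Subgroup Y)
  obtain ⟨_, _, _, _, e'⟩ := (h.dg d).exists_dt hS hs'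
  have := ih E (((card_le le_top).trans (h.top ▸ Nat.le_of_dvd (card_pos M) (card_im_dvd M))).trans_lt
    ((card_lt (lt_top_iff_ne_top.2 hM)).trans_eq card_top)) s
    (fun c => ns (Abel.sol (abel_of ⟨⟨c⟩⟩))) _ _ _ _ _ (e.subtype hP.le) (Syl.subgroupOf' hP)
  refine ⟨E, h.dg d, normal_iff.1 n, c, s, ns, pf, this.imp ?_ ?_⟩
  · rintro ⟨F, _, _, o, h3, ⟨f⟩⟩
    exact exists_LT e' hS n c o h3 f
  · rintro ⟨f⟩
    exact exists_A7T e' hS n f

end QO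

theorem DG.sol_eq_bot (h : DG G) (hs : Sol (⊤ : Subgroup G)) (hO : O'[(⊤ : Subgroup G)] = ⊥)
    (hv : orderOf v = 2) (ho : PiG {2}ᶜ Q) (hn : C1[v] ≤ N[Q]) : Q = ⊥ := by
  have pT := O_pig {2} (⊤ : Subgroup G)
  have nT := O_norm {2} (⊤ : Subgroup G)
  refine eq_bot_iff.2 (ho.inf_bot' pT ▸ le_inf le_rfl ((le_inf le_top fun y hy => ?_).trans
    (C_O_le hs hO)))
  refine (h.odd_or pT (nT trivial) (PiG.odd ho hy)).elim id fun k => ?_
  obtain ⟨z, hz, z1⟩ := exists_mem_ne_one (pT.meet_C (pig2 hv) (le_top.trans nT)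
    fun e => Dih.kf_not_isCyclic k (e ▸ cyc_bot))
  have := cent_of_inf (zpowers_le.2 hz.1) (le_top.trans nT)
    (zpowers_le.2 (hn (C_zpowers v ▸ hz.2))) (pT.inf_bot ho) (mem_zpowers z)
  exact Inv.mem_centralizer_of_sq_of_odd (PiG.odd ho hy) (Inv.kf_sq_mem_centralizer k hz.1 z1
    (nT trivial) (by rw [mem_C.1 this y hy, mul_inv_cancel_right]))

theorem pd (d : DG G) (ih : IH G) (hX : X ≠ ⊤) (ht : orderOf t = 2) (tX : t ∈ X) (hQ : Q ≤ X)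
    (pQ : PiG {p} Q) (p2 : p ≠ 2) (hn : X ⊓ C1[t] ≤ N[Q]) : ⁅Q, zpowers t⁆ ≤ O[{p}](X) := by
  obtain ⟨Y, _, _, φ, h⟩ := exists_QO X
  have oQ : PiG {2}ᶜ Q := pQ.ne_compl p2
  have tQ : t ∈ N[Q] := hn ⟨tX, mem_C1_self t⟩
  have c : φ.im Q ≤ C1[φ.app t] := by
    by_cases s : Sol X
    · rw [(h.dg d).sol_eq_bot (h.top ▸ s.im φ) h.O_bot (h.ord ht tX) (oQ.im φ) (h.N2 ht tX hn)]
      exact bot_le
    · obtain ⟨E, m⟩ := h.exists_md d ih hX s
      exact m.le_C (h.ord ht tX) (oQ.im φ) (pQ.nil.im φ) (h.N2 ht tX hn)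
  rw [← C_zpowers, ← im_zpowers (h.mem tX), cent_im_iff (h.le hQ) (h.le (zpowers_le.2 tX)),
    h.ker] at c
  set D := ⁅Q, zpowers t⁆
  set R := O[{p}](O'[X])
  have pD : PiG {p} D := pQ.of_le (commL (zpowers_le.2 tQ))
  have nR : X ≤ N[R] := normO _ (O_norm _ _)
  have nO : O'[X] ≤ N[R] := O_norm _ _
  have oR : PiG {2}ᶜ (quo R).ker := by rw [quo_ker]; exact (O_pig _ _).of_le (O_le _ _)
  have oO := (O_pig {2}ᶜ X).im (quo R)
  have pK : PiG {p}ᶜ F[O'[X] ÷ R] := by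
    have := ((F_nil (O'[X] ÷ R)).dprod_O {p}).sup
    rw [O_F, O_quo_O, bot_sup_eq] at this
    exact this ▸ O_pig _ _
  have dK : D ÷ R ≤ N[F[O'[X] ÷ R]] := (im_mono c).trans (F_norm _)
  have := lemW (ord_app ht (nR tX) oR) (F_nil _) (oO.of_le (F_le _)) dK
    (zpowers_le.1 (normF (zpowers_le.2 (app_mem_N (O_norm _ _ tX) (nR tX)))))
    (app_mem_N (comm_normr _ _ (mem_zpowers t)) (nR tX)) ((pD.im _).coprime pK)
    (by rw [← im_zpowers (nR tX), ← im_comm (c.trans nO) (zpowers_le.2 (nR tX)), comm2 ht oQ tQ])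
    (cent_of_inf inf_le_left dK ((inf_le_inf_right _ (F_le _)).trans (by
      rw [← im_C2 ht (nR tX) oR nO (by rw [quo_ker]; exact O_le _ _)]
      exact im_norm (normR ((inf_le_inf_right _ (O_le _ _)).trans hn) (norm_zpowers inf_le_right))))
      (pK.inf_bot' (pD.im _)))
  exact ((quo_bot_iff (c.trans nO)).1 ((pD.im _).eq_bot (pK.of_le
    ((le_inf (im_mono c) this).trans (C_F_le (sol_odd oO)))))).trans
    (O_le_of_normal _ (O_le _ _) (O_norm _ _))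

end Cfsg.Agent.GW
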