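import Cfsg.Agent.GW.Str2

/-! Subgroups with a nontrivial layer; odd `p`-subgroups normalized by `C(t)`. -/

set_option autoImplicit false
set_option linter.unusedVariables false
set_option linter.unusedSectionVars false

namespace Cfsg.Agent.GW

open Cfsg Cfsg.Agent.BG Cfsg.Agent.Dih Subgroup PHom
open Cfsg.Agent.Comp (Lay FStar SubIn CompIn QS Lay_le Lay_normal Lay_perfect)
open Cfsg.Agent.H8 (N_coatom')
open Cfsg.Agent.Inv (ord2_iff sq_of_ord2 ne_one_of_ord2 inv_of_ord2 orderOf_conj' orderOf_conj''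
  orderOf_isConj)
open scoped commutatorElement

universe u

variable {G : Type u} [Group G] [Finite G] {Y : Type u} [Group Y] [Finite Y] {φ : PHom G Y}
  {A B D K L M N P Q S T V X : Subgroup G} {t a b s v w g : G} {l p : ℕ} {E : Subgroup Y}

theorem lay_ns (h : Lay M ≠ ⊥) : ¬ Sol (Lay M) := fun e =>
  h (Comp.perfect_solvable_eq_bot (Lay_perfect M) e)

theorem lay_cO (M : Subgroup G) : Lay M ≤ C[O'[M]] := comm_eq_bot.1
  (Comp.Lay_comm_of_solvable (O_le _ _) (sol_odd (O_pig _ _)) (Lay_le.trans (O_norm _ _)))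

theorem cj_Lay (g : G) (M : Subgroup G) : cj g (Lay M) = Lay (cj g M) := Comp.Lay_map (cj_inj g) M

theorem coatom_cj (h : IsCoatom M) (g : G) : IsCoatom (cj g M) :=
  ((MulAut.conj g).mapSubgroup.isCoatom_iff M).2 h

theorem DG.meet (h : DG G) (hV : IsKleinFour V) (h1 : V ≤ M) (h2 : N ≤ M) (h3 : M ≤ N[N])
    (h4 : 2 ∣ #N) : N ⊓ V ≠ ⊥ := by
  obtain ⟨P, hP, le⟩ := syl_superset Nat.prime_two h1 (pig_kf hV)
  refine ne_bot_of_le_ne_bot (hP.pi.nil.meet_C inf_le_left (normI (normG P) (hP.le.trans h3))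
    (Syl.ne_bot' (hP.inf_norm' h2 h3) Nat.prime_two h4)) (le_inf (inf_le_left.trans inf_le_right) ?_)
  exact h.C_kf (hP.pi.of_le (inf_le_left.trans inf_le_left)) hV (inf_le_right.trans (centS le))

theorem DT.mem_of_ncyc (h : DT S t a b l) (hT : T ≤ S) (c : ¬ Cyc T) : t ∈ T := by
  obtain ⟨_, _, _, _, d⟩ := (h.sub hT).resolve_left c
  exact d.VS (h.teq ▸ h.dh.z_mem_kf d.kf (d.VS.trans hT))

theorem DG.ncyc (h : DG G) (hP : Syl 2 P M) (hL : Lay M ≠ ⊥) : ¬ Cyc (P ⊓ Lay M) := by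
  obtain ⟨_, _, _, _, d⟩ := h.exists_dt (hP.inf_norm' Lay_le (Lay_normal M)) (lay_ns hL)
  exact not_cyc_kf d.kf d.VS

theorem two_dvd_lay (hL : Lay M ≠ ⊥) : 2 ∣ #(Lay M) := by_contra fun e =>
  lay_ns hL (sol_odd ((pin_compl Nat.prime_two).2 e))

theorem DG.prod_lay (h : DG G) (hv : orderOf v = 2) (hL : v ∈ Lay M) :
    IsProd (Lay M) (M ⊓ C1[v]) M := ⟨Lay_le, inf_le_left, fun m hm => by
  obtain ⟨g, hg, e⟩ := h.conj (Lay_perfect M) hv (by rw [orderOf_conj', hv]) hL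
    (conj_mem (Lay_normal M hm) hL)
  exact ⟨g, hg, g⁻¹ * m, mem_inf.2 ⟨mul_mem (inv_mem (Lay_le hg)) hm, mem_C1.2 (by
    calc _ = g⁻¹ * (m * v * m⁻¹) * m := by group
      _ = _ := by rw [← e]; group)⟩, by group⟩⟩

/-- `M` has a nontrivial layer, mapped onto `E` by `φ : M → M / O(M)` -/
structure LM (M : Subgroup G) (φ : PHom G Y) (E : Subgroup Y) : Prop extends QO M φ where
  dG : DG G
  md : MdE E
  ne : Lay M ≠ ⊥

theorem exists_LM (d : DG G) (ih : IH G) (hM : M ≠ ⊤) (hL : Lay M ≠ ⊥) :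
    ∃ (Y : Type u) (_ : Group Y) (_ : Finite Y) (φ : PHom G Y) (E : Subgroup Y), LM M φ E := by
  obtain ⟨Y, _, _, φ, h⟩ := exists_QO M
  obtain ⟨E, m⟩ := h.exists_md d ih hM fun e => lay_ns hL (e.of_le Lay_le)
  exact ⟨Y, _, inferInstance, φ, E, h, d, m, hL⟩

namespace LM

variable (h : LM M φ E)
include h

theorem im : φ.im (Lay M) = E :=
  le_antisymm (h.md.perf _ (by rw [← im_der (h.le Lay_le), Lay_perfect]))
    (h.md.le_of_norm (le_top.trans (h.nrm (Lay_normal M))) fun e =>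
      lay_ns h.ne (h.sol Lay_le (e ▸ sol_bot)))

theorem app_mem (hg : g ∈ Lay M) : φ.app g ∈ E := h.im ▸ app_mem_im hg (h.mem (Lay_le hg))

theorem mem_lay (hv : orderOf v = 2) (hM : v ∈ M) (e : φ.app v ∈ E) : v ∈ Lay M := by
  have n : φ.ker ≤ N[Lay M] := h.kle.trans (Lay_normal M)
  refine mem_of_cop_relIndex (sup_le (normG _) n) (by
    rw [← pre_im (h.le Lay_le), h.im]; exact mem_pre.2 ⟨h.mem hM, e⟩) ?_
  rw [relIndex_sup_l n]
  exact (pie2 hv).coprime (h.odd.relIndex _)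

theorem le_comm (hQ : Q ≤ M) (h1 : ¬ Q ≤ O'[M]) : Lay M ≤ ⁅Lay M, Q⁆ := by
  have n := commL (hQ.trans (Lay_normal M))
  have e : Lay M ≤ ⁅Lay M, Q⁆ ⊔ O'[M] := by
    rw [← h.ker, ← im_le_im_iff (h.le Lay_le) (h.le (n.trans Lay_le)),
      im_comm (h.le Lay_le) (h.le hQ), h.im]
    exact h.md.le_comm fun e => h1 ((h.bot hQ).1 e)
  have c : O'[M] ⊓ Lay M ≤ C[Lay M] := inf_le_left.trans (cent_symm (lay_cO M))
  have e2 := modl_r (X := Lay M) (cents_norm (n.trans (lay_cO M))) n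
  rw [inf_eq_right.2 e] at e2
  calc Lay M = ⁅Lay M, Lay M⁆ := (Lay_perfect M).symm
    _ ≤ ⁅⁅Lay M, Q⁆ ⊔ O'[M] ⊓ Lay M, Lay M⁆ := commS e2.le le_rfl
    _ ≤ _ := comm_sup_le (commL (comm_norml _ _)) ((comm_eq_bot.2 c).trans_le bot_le) (normG _)
      (inf_le_right.trans (comm_norml _ _))

theorem le_comm2 (hv : orderOf v = 2) (hM : v ∈ M) : Lay M ≤ ⁅Lay M, zpowers v⁆ :=
  h.le_comm (zpowers_le.2 hM) fun e => ne_one_of_ord2 hv ((pie2 hv).eq_one
    ((O_pig _ _).elt (e (mem_zpowers v))))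

theorem lay_le {Y' : Type u} [Group Y'] [Finite Y'] {φ' : PHom G Y'} {E' : Subgroup Y'}
    (h' : LM N φ' E') (e : Lay M ≤ N) : Lay M ≤ Lay N := by
  obtain ⟨v, hv, v2⟩ := cauchy Nat.prime_two (two_dvd_lay h.ne)
  have := h'.mem_lay v2 (e hv) (h'.md.perf _ (by rw [← im_der (h'.le e), Lay_perfect])
    (app_mem_im hv (h'.mem (e hv))))
  exact (h.le_comm2 v2 (Lay_le hv)).trans ((commS le_rfl (zpowers_le.2 this)).trans
    (commR (e.trans (Lay_normal N))))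

end LM

theorem O_le_O' (h : p ≠ 2) (M : Subgroup G) : O[{p}](M) ≤ O'[M] :=
  O_mono (Set.singleton_subset_iff.2 h) M

namespace MC

variable (h : MC S t a b l)
include h

theorem dg : DG G := h.toDT.dg h.syl

theorem exists_max (h1 : X ≠ ⊥) (h2 : X ≠ ⊤) : ∃ M, IsCoatom M ∧ N[X] ≤ M := by
  have := h.simple
  refine (eq_top_or_exists_le_coatom _).resolve_left fun e => ?_
  exact ((normal_iff.2 e.ge).eq_bot_or_eq_top).elim h1 h2

theorem exists_max' (h1 : X ≠ ⊥) (h2 : PiG {2}ᶜ X) : ∃ M, IsCoatom M ∧ N[X] ≤ M :=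
  h.exists_max h1 fun e => ne_one_of_ord2 h.ot ((pie2 h.ot).eq_one (h2.elt (e ▸ mem_top t)))

theorem N_self (hA : IsCoatom A) (h1 : C1[t] ≤ A) : N[A] = A :=
  have := h.simple
  N_coatom' hA le_rfl (normG A) (ne_bot_of_mem (h1 (mem_C1_self t)) (ne_one_of_ord2 h.ot))

theorem arr_eq (r : Arr A B) (hB : IsCoatom B) (hL : Lay B = ⊥)
    (hD : O[{p | p ∣ #F[A]}ᶜ](F[B]) = ⊥) (h2 : O'[F[A]] ≠ ⊥) : A = B :=
  have := h.simple
  r.eq h.ncomm h.toDT h.syl hB hL hD fun e => h2 (O_eq_bot e.compl_compl)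

theorem D_bot (hA : C1[t] ≤ A) (hO : ∀ B ≤ C1[t], PiG {2}ᶜ B → B ≤ C[O[{2}](A)])
    (hF : O'[F[A]] ≠ ⊥) (hs : orderOf s = 2) (st : s * t = t * s) (g1 : g * t * g⁻¹ = s)
    (g2 : g * s * g⁻¹ = t * s) (r : Arr A M) (r' : Arr (BG.cj g A) M) (tM : t ∈ M) (sM : s ∈ M)
    (oD : PiG {2}ᶜ O[{p | p ∣ #F[A]}ᶜ](F[M])) : O[{p | p ∣ #F[A]}ᶜ](F[M]) = ⊥ := by
  have := h.simple
  have d1 := r.D_inf
  have d2 := r'.D_inf
  rw [← cj_F, card_cj] at d2
  have pD := O_pig {p | p ∣ #F[A]}ᶜ F[M]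
  have nD : M ≤ N[O[{p | p ∣ #F[A]}ᶜ](F[M])] := normO _ (F_norm M)
  generalize O[{p | p ∣ #F[A]}ᶜ](F[M]) = D at *
  have g3 : g * g * t * (g * g)⁻¹ = t * s := by rw [← g2, ← g1]; group
  have As : C1[s] ≤ BG.cj g A := by rw [← g1, ← cj_C1]; exact map_mono hA
  have Ats : C1[t * s] ≤ BG.cj (g * g) A := by rw [← g3, ← cj_C1]; exact map_mono hA
  have i1 := iv_of_fpf h.ot oD (nD tM) (eq_bot_iff.2 (d1 ▸ inf_le_inf_left _ hA))
  have i2 := iv_of_fpf hs oD (nD sM) (eq_bot_iff.2 (d2 ▸ inf_le_inf_left _ As))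
  have c : D ≤ C1[t * s] := le_C1_iff.2 (by simpa [inv_of_ord2 hs] using i1.mul_cent i2)
  set Z := Z[O'[F[A]]]
  have ZF : Z ≤ Z[F[A]] := le_inf (inf_le_left.trans (O_le _ _)) (by
    rw [← ((F_nil A).dprod_O {2}).sup]
    exact centY (inf_le_left.trans (O_cent_O' _ _)) inf_le_right)
  have ZM := ZF.trans r.Z_le
  have nZ : A ≤ N[Z] := normZ (normO _ (F_norm A))
  have oZ : PiG {2}ᶜ Z := (O_pig _ _).of_le inf_le_left
  have pZ : PiG {p | p ∣ #F[A]} Z := (pin_self _).of_dvd (cardS (ZF.trans inf_le_left))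
  have sH : s ∈ C1[t] := mem_C1.2 st
  have e : D ≤ ⁅D, Z ⊓ C1[t] ⊓ C1[s]⁆ := by
    have := (cop_abel_dprod i1.abel (A := Z ⊓ C1[t] ⊓ C1[s])
      ((inf_le_left.trans inf_le_left).trans (ZM.trans nD))
      ((pZ.of_le (inf_le_left.trans inf_le_left)).coprime pD)).sup
    suffices e : D ⊓ C[Z ⊓ C1[t] ⊓ C1[s]] ≤ A by
      rw [eq_bot_iff.2 ((le_inf inf_le_left e).trans d1.le), bot_sup_eq] at this
      exact this.ge
    rw [← N_coatom' r.max (ZF.trans (inf_le_left.trans (F_le A))) nZ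
      (((F_nil A).of_le (O_le _ _)).Z_ne_bot hF)]
    refine cents_norm (cent_symm ?_)
    exact (prod2 h.ot oZ (nZ (hA (mem_C1_self t)))).sup.ge.trans (sup_le
      ((i1.comm_cent h.ot (ZM.trans nD)).trans (centS inf_le_left))
      ((prod2 hs (oZ.of_le inf_le_left) (zpowers_le.1 (normI (zpowers_le.2 (nZ (hA sH)))
        (normsG (zpowers_le.2 sH))))).sup.ge.trans (sup_le
      ((i2.comm_cent hs (inf_le_left.trans (ZM.trans nD))).trans (centS inf_le_left))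
      (cent_symm inf_le_right))))
  set K := O'[F[BG.cj (g * g) A]]
  have nK : C1[t * s] ≤ N[K] := Ats.trans (normO _ (F_norm _))
  have pF : PiG {p | p ∣ #F[A]} F[BG.cj (g * g) A] := by rw [← cj_F, pig_cj]; exact pin_self _
  have pK : PiG {p | p ∣ #F[A]} K := pF.of_le (O_le _ _)
  have zK : Z ⊓ C1[t] ⊓ C1[s] ≤ N[K] := le_trans (fun z hz => mem_C1'.2 (by
    rw [mul_assoc, ← mem_C1.1 hz.2, ← mul_assoc, ← mem_C1.1 hz.1.2, mul_assoc])) nK
  have := lemWop h.ot ((F_nil _).of_le (O_le _ _)) (O_pig _ _) (c.trans nK)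
    (nK (mem_C1.2 (by rw [mul_assoc, st]))) i1 oD (pD.coprime' pK) zK
    ((inf_le_left.trans inf_le_left).trans (ZM.trans nD)) (oZ.of_le (inf_le_left.trans inf_le_left))
    e (cent_of_inf ((commS inf_le_left le_rfl).trans (commL zK)) (c.trans nK)
      (((commS (inf_le_right.trans hA) (inf_le_left.trans inf_le_left)).trans (commR nZ)).trans
        (ZM.trans nD)) (pK.inf_bot pD))
  refine (pF.of_le ((le_inf (c.trans Ats) ?_).trans (C_F_le' (by
    rw [← cj_Lay, r.lay, cj_bot])))).eq_bot pD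
  rw [← ((F_nil _).dprod_O {2}).sup, O_F]
  refine centY ?_ this
  rw [← cj_O, ← cj_C, le_cj_iff]
  exact hO _ (by rw [← le_cj_iff, cj_C1, g3]; exact c) (oD.cj _)

theorem t1_aux (hA : IsCoatom A) (hH : C1[t] ≤ A) (hL : Lay A = ⊥) (h2 : O[{2}](A) = ⊥)
    (p2 : p ≠ 2) (hs : orderOf s = 2) (ne : s ≠ t) (st : s * t = t * s) (g1 : g * t * g⁻¹ = s)
    (g2 : g * s * g⁻¹ = t * s) (h1 : ¬ O[{p}](A) ⊓ C1[s] ≤ C1[t]) : g ∈ A := by
  have d := dt_four h.ot hs ne st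
  set P := O[{p}](A) with hP
  have pP : PiG {p} P := O_pig _ _
  have oP : PiG {2}ᶜ P := pP.ne_compl p2
  have As : C1[s] ≤ BG.cj g A := by rw [← g1, ← cj_C1]; exact map_mono hH
  have tA := hH (mem_C1_self t)
  have ts : t ∈ C1[s] := mem_C1'.2 st
  have nP : C1[t] ≤ N[P] := hH.trans (O_norm _ _)
  have n1 : ∀ x ∈ C1[t] ⊓ C1[s], x ∈ N[P ⊓ C1[s]] := fun x hx =>
    zpowers_le.1 (normI (zpowers_le.2 (nP hx.1)) (normsG (zpowers_le.2 hx.2)))
  have t1 := n1 t ⟨mem_C1_self t, ts⟩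
  set X := ⁅P ⊓ C1[s], zpowers t⁆ with hX
  have X1 : X ≤ P ⊓ C1[s] := commL (zpowers_le.2 t1)
  have X0 : X ≠ ⊥ := fun e => h1 (comm_zp_bot.1 e)
  have XX : ⁅X, zpowers t⁆ = X := comm2 h.ot (oP.of_le inf_le_left) t1
  have X2 : X ≤ O[{p}](BG.cj g A) := (commS (inf_le_inf_left _ As) le_rfl).trans
    (pd h.dg h.ih (coatom_cj hA g).1 h.ot (As ts) inf_le_right (pP.of_le inf_le_left) p2
      (normI (inf_le_right.trans nP) (normsG inf_le_left)))
  obtain ⟨M, hM, XM⟩ := h.exists_max' X0 (oP.of_le (X1.trans inf_le_left))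
  have tM : t ∈ M := XM (comm_normr _ _ (mem_zpowers t))
  have sM : s ∈ M := XM (C_le_N _ (le_C1_iff.1 (X1.trans inf_le_right)))
  have r : Arr A M := arr_of hA hL (X1.trans (inf_le_left.trans (O_le_F _ _)))
    (inf_le_right.trans XM)
  have r' : Arr (BG.cj g A) M := arr_of (coatom_cj hA g) (by rw [← cj_Lay, hL, cj_bot])
    (X2.trans (O_le_F _ _)) (inf_le_right.trans XM)
  have X3 : X ≤ O[{p}](M) := XX.ge.trans ((commS (le_inf (X1.trans inf_le_left)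
    ((normG X).trans XM)) le_rfl).trans (pd h.dg h.ih hM.1 h.ot tM inf_le_right
      (pP.of_le inf_le_left) p2 (normI (inf_le_right.trans nP) (normsG inf_le_left))))
  have key : ∀ N ≤ M, M ≤ N[N] → N ≤ C[O[{p}](M)] → ¬ 2 ∣ #N := fun N n1 n2 n3 n4 => by
    obtain ⟨v, ⟨hv, hv'⟩, v1⟩ := exists_mem_ne_one (h.dg.meet d.kf (VV_le.2 ⟨tM, sM⟩) n1 n2 n4)
    have c := le_C1_iff.2 (n3 hv)
    rcases d.memV.1 hv' with rfl | rfl | rfl | rfl
    · exact v1 rfl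
    · exact X0 (XX.symm.trans (comm_zp_bot.2 (X3.trans c)))
    · have pQ := O_pig {p} (BG.cj g A)
      have := cent2 hs ((pQ.of_le inf_le_left).ne_compl p2) (pd h.dg h.ih hM.1 hs sM inf_le_right
        (pQ.of_le inf_le_left) p2 (normI (inf_le_right.trans (As.trans (O_norm _ _)))
          (normsG inf_le_left))) ((O_pig _ _).ne_compl p2) c
      have := pq_lemma pQ.nil X2 le_rfl (C_zpowers v ▸ X1.trans inf_le_right)
        (cop2 hs (pQ.ne_compl p2)) (normsG X2) (zpowers_le.2 (O_norm _ _ (As (mem_C1_self v))))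
        (C_zpowers v ▸ (inf_le_inf_left _ (cents_norm le_rfl |>.trans XM)).trans this)
      rw [← cj_O, ← g1, ← cj_zpowers, cent_cj, zpowers_le, ← le_C1_iff] at this
      exact h1 (inf_le_left.trans this)
    · refine X0 (XX.symm.trans (comm_zp_bot.2 fun x hx => ?_))
      have e1 := mem_C1.1 (c (X3 hx))
      rw [mul_assoc, ← mem_C1.1 (X1 hx).2, ← mul_assoc, ← mul_assoc, mul_left_inj] at e1
      exact mem_C1.2 e1
  have L0 : Lay M = ⊥ := by_contra fun e => key _ Lay_le (Lay_normal M)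
    ((lay_cO M).trans (centS (O_le_O' p2 M))) (two_dvd_lay e)
  have O0 : O[{2}](M) = ⊥ := by_contra fun e => key _ (O_le _ _) (O_norm _ _)
    ((O_cent_O _ _).trans (centS (O_le_O' p2 M))) ((O_pig _ _).dvd e)
  have F0 : O'[F[A]] ≠ ⊥ := ne_bot_of_le_ne_bot X0 ((X1.trans inf_le_left).trans
    (by rw [hP, ← O_F]; exact O_le_O' p2 _))
  have D0 := h.D_bot hH (fun B _ _ => by rw [h2, C_bot]; exact le_top) F0 hs st g1 g2 r r' tM sM
    ((O_pig {2}ᶜ M).of_le ((O_le _ _).trans (F_le_O (by rwa [compl_compl]))))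
  have e := (h.arr_eq r hM L0 D0 F0).trans (h.arr_eq r' hM L0 (by rwa [← cj_F, card_cj])
    (by rwa [← cj_F, ← cj_O, Ne, cj_eq_bot])).symm
  exact h.N_self hA hH ▸ mem_N_iff_cj.2 e.symm

theorem thm1 (pQ : PiG {p} Q) (p2 : p ≠ 2) (hn : C1[t] ≤ N[Q]) : Q ≤ C1[t] := by
  by_contra hc
  have oQ : PiG {2}ᶜ Q := pQ.ne_compl p2
  obtain ⟨A, hA, QA⟩ := h.exists_max' (fun e => hc (e.trans_le bot_le)) oQ
  have hH := hn.trans QA
  have c : ¬ O[{p}](A) ≤ C1[t] := fun e => hc (cent2 h.ot oQ (pd h.dg h.ih hA.1 h.ot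
    (hH (mem_C1_self t)) ((normG Q).trans QA) pQ p2 (inf_le_right.trans hn))
    ((O_pig _ _).ne_compl p2) e)
  have sA := h.syl.sub (h.SH.trans hH) le_top
  have hL : Lay A = ⊥ := by_contra fun e => c (le_C1_iff.2 (centS (O_le_O' p2 A) (lay_cO A
    (h.mem_of_ncyc inf_le_left (h.dg.ncyc sA e)).2)))
  have h2 : O[{2}](A) = ⊥ := by_contra fun e => by
    by_cases cy : Cyc O[{2}](A)
    · obtain ⟨z, hz, z2⟩ := cauchy Nat.prime_two ((O_pig _ _).dvd e)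
      obtain ⟨g, rfl⟩ := isConj_iff.1 (h.cls t z h.ot z2)
      have : A ≤ BG.cj g C1[t] := fun x hx => cj_C1 g t ▸ mem_C1.2 (mul_inv_eq_iff_eq_mul.1
        (Cyc.eq2 cy (conj_mem (O_norm _ _ hx) hz) hz (by rw [orderOf_conj', z2]) z2))
      exact c ((O_le _ _).trans (eq_of_card_le hH ((card_le this).trans_eq (card_cj _ _))).ge)
    · exact c (le_C1_iff.2 (centS (O_le_O' p2 A) (O_cent_O _ _ (h.mem_of_ncyc sA.O_le cy))))
  have key : ∀ {a b}, MC S t a b l → ∃ g ∈ A, g * t * g⁻¹ = a := fun {a b} h => by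
    obtain ⟨g, g1, g2⟩ := h.exists_g
    refine ⟨g, by_contra fun hg => c (cop_gen_cent1 h.abelV h.ncycV
      (h.VS.trans (sA.le.trans (O_norm _ _))) (h.pigV.coprime ((O_pig _ _).ne_compl p2))
      fun v hv v1 => ?_), g1⟩
    rcases h.memV.1 hv with rfl | rfl | rfl | rfl
    · exact absurd rfl v1
    · exact inf_le_right
    · exact by_contra fun e => hg (h.t1_aux hA hH hL h2 p2 h.oa h.ant h.at' g1 g2 e)
    · exact by_contra fun e => hg (inv_mem_iff.1 (h.t1_aux hA hH hL h2 p2 h.ota h.tant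
        (by rw [mul_assoc, h.at']) (by rw [← h.g3 g1 g2]; nth_rw 2 [h.g3 g1 g2]; group)
        (by rw [h.tta, ← g2]; group) e))
  exact hA.1 (h.one_class hH (key h) (key h.symm))

end MC

end Cfsg.Agent.GW
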